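import Cfsg.Agent.Bau.Basic

/-! Norm elements, subgroups of index two, and a normalising lemma. -/

set_option autoImplicit false
set_option linter.unusedSectionVars false

open scoped commutatorElement

namespace Cfsg.Lib.Bau

open Cfsg Subgroup Cfsg.Lib.Trans Cfsg.Lib.Trans.TJ Cfsg.Lib.Gold Cfsg.Lib.Gomi

universe u

variable {G : Type u} [Group G] [Finite G]
  {A A' B C E H J J' K L L' L₁ L₂ M P S S' T V V' W W' X α δ : Subgroup G}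
  {a b c d e g k n r r' s t t' u u' v w x x' y y' z z' : G}

theorem Prod.exists_sq (hA : IsPGroup 2 A) (hx : x ∈ A) (h : x ∉ A') :
    ∃ a ∈ A, a ∉ A' ∧ a * a ∈ A' := by
  classical
  have hex : ∃ k, x ^ 2 ^ k ∈ A' := by
    obtain ⟨k, hk⟩ := hA ⟨x, hx⟩
    exact ⟨k, by rw [show x ^ 2 ^ k = 1 from congrArg Subtype.val hk]; exact one_mem _⟩
  obtain ⟨j, hj⟩ := Nat.exists_eq_succ_of_ne_zero
    (n := Nat.find hex) fun e => h (by simpa [e] using Nat.find_spec hex)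
  refine ⟨x ^ 2 ^ j, pow_mem hx _, Nat.find_min hex (by omega), ?_⟩
  have := Nat.find_spec hex
  rwa [hj, pow_succ, pow_mul, sq] at this

theorem Prod.cs_sup (h1 : c ∈ Cs A) (h2 : c ∈ Cs B) : c ∈ Cs (A ⊔ B) := fun _ hx =>
  mem_C1.1 ((sup_le (fun a ha => mem_C1.2 (h1 a ha)) fun b hb => mem_C1.2 (h2 b hb) :
    A ⊔ B ≤ C1 c) hx)

theorem prod (hA : IsPGroup 2 A) (hab : A ≤ Cs A) (h0 : A' ≤ A) (hW : W ≤ Cs W) (hn : A ≤ Ns W)
    (hw : w ∈ W) (hc : A' ≤ C1 w) :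
    ∃ v ∈ W, A ≤ C1 v ∧ ∀ H : Subgroup G, (∀ a ∈ A, a ∉ A' → a * w * a⁻¹ ∈ H) → v * w⁻¹ ∈ H := by
  induction A' using (wellFounded_gt (α := Subgroup G)).induction generalizing w with
  | h A' ih =>
  by_cases h : A ≤ A'
  · exact ⟨w, hw, h.trans hc, fun H _ => by rw [mul_inv_cancel]; exact one_mem _⟩
  obtain ⟨x, hx, hx'⟩ := SetLike.not_le_iff_exists.1 h
  obtain ⟨a, ha, ha', h2⟩ := Prod.exists_sq hA hx hx'
  have hw' : a * w * a⁻¹ ∈ W := mem_normalizer_conj (hn ha) hw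
  have cm : a * w * a⁻¹ * w = w * (a * w * a⁻¹) := hW hw _ hw'
  obtain ⟨v, hv, h3, h4⟩ := ih (A' ⊔ zpowers a)
    (lt_of_le_of_ne le_sup_left fun e => ha' (e ▸ mem_sup_right (mem_zpowers a)))
    (sup_le h0 (zpowers_le.2 ha)) (mul_mem hw hw') (sup_le (fun b hb => mem_C1.2 (by
      have e1 : b * w = w * b := mem_C1.1 (hc hb)
      have e2 : b * a = a * b := hab ha b (h0 hb)
      calc b * (w * (a * w * a⁻¹)) = w * (b * a) * w * a⁻¹ := by rw [← mul_assoc, e1]; group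
        _ = w * a * (b * w) * a⁻¹ := by rw [e2]; group
        _ = w * a * w * a⁻¹ * (a * b) * a⁻¹ := by rw [e1]; group
        _ = _ := by rw [← e2]; group)) (zpowers_le.2 (mem_C1.2 (by
      have e1 : a * a * w = w * (a * a) := mem_C1.1 (hc h2)
      calc a * (w * (a * w * a⁻¹)) = a * w * a⁻¹ * (a * a * w) * a⁻¹ := by group
        _ = a * w * a⁻¹ * w * a := by rw [e1]; group
        _ = _ := by rw [cm]))))
  refine ⟨v, hv, h3, fun H hH => ?_⟩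
  have h5 := h4 H fun b hb hb' => by
    have e : b * (w * (a * w * a⁻¹)) * b⁻¹ = b * w * b⁻¹ * (b * a * w * (b * a)⁻¹) := by group
    rw [e]
    refine mul_mem (hH b hb fun k => hb' (mem_sup_left k)) (hH _ (mul_mem hb ha) fun k => hb' ?_)
    simpa using mul_mem (mem_sup_left (T := zpowers a) k)
      (inv_mem (mem_sup_right (S := A') (mem_zpowers a)))
  have e : v * w⁻¹ = v * (w * (a * w * a⁻¹))⁻¹ * (a * w * a⁻¹) := by
    rw [← cm]; group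
  rw [e]
  exact mul_mem h5 (hH a ha ha')

theorem mem_sup_zpowers (hx : x * x = 1) (h1 : x ∈ Ns A) :
    g ∈ A ⊔ zpowers x ↔ g ∈ A ∨ g * x ∈ A := by
  refine ⟨fun h => ?_, fun h => h.elim (fun k => mem_sup_left k) fun k => ?_⟩
  · obtain ⟨m, hm, _, ⟨k, rfl⟩, rfl⟩ := (Solv.mem_sup_of_le_normalizer (zpowers_le.2 h1)).1 h
    have h2 : x ^ (2 : ℤ) = 1 := by rw [zpow_two, hx]
    obtain ⟨j, rfl | rfl⟩ := Int.even_or_odd' k
    · left; simpa [zpow_mul, h2] using hm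
    · right; simpa [zpow_add, zpow_mul, h2, mul_assoc, hx] using hm
  · simpa using mul_mem (mem_sup_left (T := zpowers x) k)
      (inv_mem (mem_sup_right (S := A) (mem_zpowers x)))

theorem card_sup_zpowers (hx : x * x = 1) (h1 : x ∈ Cs A) (h2 : x ∉ A) :
    Nat.card (A ⊔ zpowers x : Subgroup G) = 2 * Nat.card A := by
  rw [← card_mul_relIndex (le_sup_left : A ≤ A ⊔ zpowers x), mul_comm]
  congr 1
  refine index_eq_two_iff.2 ⟨⟨x, mem_sup_right (mem_zpowers x)⟩, fun b => ?_⟩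
  rcases (mem_sup_zpowers hx (Cs_le_Ns h1)).1 b.2 with h | h
  · exact Or.inr ⟨h, fun k => h2 ((mul_mem_cancel_left h).1 k)⟩
  · exact Or.inl ⟨h, fun k => h2 ((mul_mem_cancel_left (show b.1 ∈ A from k)).1 h)⟩

theorem exists_index_two (hA : ∀ a ∈ A, a * a = 1) (h0 : A' ≤ A) (hx : x ∈ A) (h1 : x ∉ A') :
    ∃ A₁, A' ≤ A₁ ∧ A₁ ≤ A ∧ x ∉ A₁ ∧ Nat.card A = 2 * Nat.card A₁ ∧
      ∀ a ∈ A, a ∈ A₁ ∨ a * x ∈ A₁ := by
  obtain ⟨A₁, ⟨h2, h3, h4⟩, hm⟩ := (wellFounded_gt (α := Subgroup G)).has_min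
    {B | A' ≤ B ∧ B ≤ A ∧ x ∉ B} ⟨A', le_rfl, h0, h1⟩
  have key : ∀ a ∈ A, a ∈ A₁ ∨ a * x ∈ A₁ := fun a ha => by
    by_contra! hc
    refine hm (A₁ ⊔ zpowers a) ⟨h2.trans le_sup_left, sup_le h3 (zpowers_le.2 ha), fun k => ?_⟩
      (lt_of_le_of_ne le_sup_left fun e => hc.1 (e ▸ mem_sup_right (mem_zpowers a)))
    rcases (mem_sup_zpowers (hA a ha) (Cs_le_Ns (le_Cs_of_sq hA h3 ha))).1 k with k | k
    exacts [h4 k, hc.2 (comm_of_sq hA x hx a ha ▸ k)]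
  refine ⟨A₁, h2, h3, h4, ?_, key⟩
  rw [← card_sup_zpowers (hA x hx) (le_Cs_of_sq hA h3 hx) h4]
  congr 2
  exact SetLike.coe_set_eq.2 (le_antisymm (fun a ha => (mem_sup_zpowers (hA x hx)
    (Cs_le_Ns (le_Cs_of_sq hA h3 hx))).2 (key a ha)) (sup_le h3 (zpowers_le.2 hx)))

theorem n2 {Ua Ub C₀ U : Subgroup G} (h : TC t S) (ht : t ∈ Ua ⊔ Ub ⊔ C₀) (hE : O2 E = E)
    (h1 : E ≤ ncl U E) (hU : U ≤ S) (hU1 : U ≤ Ns (Ua ⊔ Ub ⊔ C₀)) (hU2 : U ≤ Ns E)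
    (e1 : E ≤ Ns Ua) (e2 : E ≤ Cs Ub) (e3 : E ≤ Cs C₀)
    (y1 : y ∈ Cs Ua) (y2 : y ∈ Ns Ub) (y3 : y ∈ Cs C₀) (y4 : y ∈ Cs U)
    (hS : S ⊓ Cs (Ua ⊔ Ub ⊔ C₀) ≤ Ns E) : y ∈ Ns E := by
  refine mem_normalizer_of_cj_le (res_le_of (P := U ⊔ S ⊓ Cs (Ua ⊔ Ub ⊔ C₀)) (by rw [O2_cj, hE])
    (cj_le_iff_le_cj_inv.2 (h1.trans (ncl_le_iff.2 fun e he => cj_le_iff.2 fun u hu => ?_)))
    (h.pg.to_le (sup_le hU inf_le_left)) (sup_le hU2 hS))
  have hc : e⁻¹ * y * e * y⁻¹ ∈ Cs (Ua ⊔ Ub ⊔ C₀) := by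
    refine Prod.cs_sup (Prod.cs_sup ?_ ?_) ?_
    · exact mul_mem (mem_normalizer_conj' (mem_Ns_Cs (e1 he)) y1) (inv_mem y1)
    · simpa only [mul_assoc] using
        mul_mem (inv_mem (e2 he)) (mem_normalizer_conj (mem_Ns_Cs y2) (e2 he))
    · exact mul_mem (mul_mem (mul_mem (inv_mem (e3 he)) y3) (e3 he)) (inv_mem y3)
  have h2 := h.comm_mem ht (inv_mem (hU hu)) (inv_mem (hU1 hu)) hc
  have e4 : y * (e * u * e⁻¹) * y⁻¹ = e * (u * ⁅u⁻¹, e⁻¹ * y * e * y⁻¹⁆) * e⁻¹ := by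
    have := conj_eq_of_mem_centralizer' y4 hu
    calc y * (e * u * e⁻¹) * y⁻¹ = y * (e * (y⁻¹ * u * y) * e⁻¹) * y⁻¹ := by rw [this]
      _ = _ := by rw [commutatorElement_def]; group
  rw [mem_cj_inv, e4]
  exact mul_mem (mul_mem (mem_sup_left he) (mem_sup_right (mul_mem (mem_sup_left hu)
    (mem_sup_right h2)))) (mem_sup_left (inv_mem he))

end Cfsg.Lib.Bau
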