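import Cfsg.Agent.Bau.Basic

/-! A class of involutions generating a dihedral group. -/

set_option autoImplicit false
set_option linter.unusedSectionVars false

open scoped commutatorElement

namespace Cfsg.Lib.Bau

open Cfsg Subgroup Cfsg.Lib.Trans Cfsg.Lib.Trans.TJ Cfsg.Lib.Gold Cfsg.Lib.Gomi

universe u

namespace A1x

variable {H : Type u} [Group H]

theorem uniq [Finite H] {z w r : H} (hw : w ∈ zpowers z) (hr : r ∈ zpowers z) (w2 : w * w = 1)
    (r2 : r * r = 1) (r1 : r ≠ 1) : w = 1 ∨ w = r := by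
  classical
  by_contra h
  push Not at h
  have := Fintype.ofFinite (zpowers z)
  have h1 := IsCyclic.card_pow_eq_one_le (α := zpowers z) (n := 2) two_pos
  have h3 : ({1, ⟨w, hw⟩, ⟨r, hr⟩} : Finset (zpowers z)) ⊆
      Finset.univ.filter (fun a => a ^ 2 = 1) := by
    intro a ha
    simp only [Finset.mem_insert, Finset.mem_singleton] at ha
    rw [Finset.mem_filter]
    refine ⟨Finset.mem_univ _, ?_⟩
    rcases ha with rfl | rfl | rfl
    · simp
    · exact Subtype.ext (by simpa [pow_two] using w2)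
    · exact Subtype.ext (by simpa [pow_two] using r2)
  have h4 := Finset.card_le_card h3
  rw [Finset.card_eq_three.2 ⟨_, _, _, fun e => h.1 (congrArg Subtype.val e).symm,
    fun e => r1 (congrArg Subtype.val e).symm, fun e => h.2 (congrArg Subtype.val e), rfl⟩] at h4
  omega

theorem two {u x : H} (hu : u * u = 1) (hx : x ∈ zpowers u) : x = 1 ∨ x = u := by
  obtain ⟨i, rfl⟩ := hx
  have h2 : ∀ j : ℤ, u ^ (2 * j) = 1 := fun j => by
    rw [zpow_mul, zpow_two, hu, one_zpow]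
  rcases Int.even_or_odd' i with ⟨j, rfl | rfl⟩
  · exact Or.inl (h2 j)
  · exact Or.inr (by simp only [zpow_add, h2, one_mul, zpow_one])

theorem zcomm {z x y : H} (hx : x ∈ zpowers z) (hy : y ∈ zpowers z) : x * y = y * x := by
  obtain ⟨i, rfl⟩ := hx
  obtain ⟨j, rfl⟩ := hy
  exact zpow_mul_comm z i j

/-- a square in the cyclic group. -/
def Sq (z w : H) : Prop := ∃ y ∈ zpowers z, w = y * y

theorem Sq_eq_1' : type_of% @Sq.eq_1 := @Sq.eq_1

theorem Sq.mul {z x y : H} (hx : Sq z x) (hy : Sq z y) : Sq z (x * y) := by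
  obtain ⟨a, ha, rfl⟩ := hx
  obtain ⟨b, hb, rfl⟩ := hy
  refine ⟨a * b, mul_mem ha hb, ?_⟩
  rw [mul_assoc, mul_assoc, ← mul_assoc a b b, ← mul_assoc b a b, zcomm ha hb]

theorem odd_of_not_sq {z w : H} (hw : w ∈ zpowers z) (h : ¬ Sq z w) : ∃ i : ℤ, Odd i ∧ w = z ^ i := by
  obtain ⟨i, rfl⟩ := hw
  refine ⟨i, Int.not_even_iff_odd.1 ?_, rfl⟩
  rintro ⟨j, rfl⟩
  exact h ⟨z ^ j, zpow_mem_zpowers z j, zpow_add z j j⟩

theorem sq_of_not_sq {z x y : H} (hx : x ∈ zpowers z) (hy : y ∈ zpowers z) (h1 : ¬ Sq z x)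
    (h2 : ¬ Sq z y) : Sq z (x⁻¹ * y) := by
  obtain ⟨_, ⟨i, rfl⟩, rfl⟩ := odd_of_not_sq hx h1
  obtain ⟨_, ⟨j, rfl⟩, rfl⟩ := odd_of_not_sq hy h2
  refine ⟨z ^ (j - i), zpow_mem_zpowers z _, ?_⟩
  rw [← zpow_neg, ← zpow_add, ← zpow_add]
  congr 1
  ring

theorem gen_of_not_sq (hH : IsPGroup 2 H) {z w : H} (hw : w ∈ zpowers z) (h : ¬ Sq z w) :
    z ∈ zpowers w := by
  obtain ⟨i, hi, rfl⟩ := odd_of_not_sq hw h
  have : Fact (Nat.Prime 2) := ⟨Nat.prime_two⟩
  obtain ⟨n, hn⟩ := IsPGroup.iff_orderOf.1 hH z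
  rw [mem_zpowers_zpow_iff, hn]
  have h1 : (Int.natAbs i).Coprime 2 := (Int.natAbs_odd.2 hi).coprime_two_right
  rw [Int.gcd_eq_natAbs, Int.natAbs_natCast]
  exact h1.pow_right n

theorem comm_of_sq {K : Type*} [Group K] {x y : K} (hx : x * x = 1) (hy : y * y = 1)
    (h : x * y * (x * y) = 1) : Commute x y := by
  have h1 : x⁻¹ = x := inv_eq_of_mul_eq_one_right hx
  have h2 : y⁻¹ = y := inv_eq_of_mul_eq_one_right hy
  have h3 : (x * y)⁻¹ = x * y := inv_eq_of_mul_eq_one_right h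
  rw [mul_inv_rev, h1, h2] at h3
  exact h3.symm

theorem sq_of_comm {K : Type*} [Group K] {x y : K} (hx : x * x = 1) (hy : y * y = 1)
    (h : Commute x y) : x * y * (x * y) = 1 := by
  rw [mul_assoc, ← mul_assoc y, ← h.eq, mul_assoc, hy, mul_one, hx]

theorem exists_pow {Z : Subgroup H} {ω : H} (h : ω ∉ Z) :
    ∀ k : ℕ, ω ^ 2 ^ k ∈ Z → ∃ j : ℕ, ω ^ j ∉ Z ∧ ω ^ j * ω ^ j ∈ Z := by
  intro k
  induction k with
  | zero => intro h1; exact absurd (by simpa using h1) h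
  | succ k ih =>
    intro h1
    by_cases h2 : ω ^ 2 ^ k ∈ Z
    · exact ih h2
    · exact ⟨2 ^ k, h2, by rwa [← pow_add, ← two_mul, mul_comm, ← pow_succ]⟩

/-- the hypotheses, with `r` central. -/
structure Hy (r : H) (I : Set H) : Prop where
  pg : IsPGroup 2 H
  r1 : r ≠ 1
  r2 : r * r = 1
  rc : ∀ g, r * g = g * r
  mem : ∀ v ∈ I, v * v = 1 ∧ v ≠ 1 ∧ v ≠ r
  con : ∀ v ∈ I, ∀ s, s * v * s⁻¹ ∈ I
  mr : ∀ v ∈ I, r * v ∈ I
  bc : ∀ u ∈ I, ∀ v ∈ I, u * v = v * u → v = u ∨ v = r * u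
  hK : ∀ v ∈ I, ∀ g, g * v = v * g → g * g ≠ r

/-- a cyclic normal subgroup acting on `I`. -/
structure Pz (r : H) (I : Set H) (z : H) : Prop where
  rz : r ∈ zpowers z
  nm : (zpowers z).Normal
  mul : ∀ v ∈ I, ∀ w ∈ zpowers z, v * w ∈ I

variable {r z a a' b b' : H} {I : Set H}

theorem Hy.sq (h : Hy r I) (ha : a ∈ I) : a * a = 1 := (h.mem a ha).1

theorem Hy.inv (h : Hy r I) (ha : a ∈ I) : a⁻¹ = a := inv_eq_of_mul_eq_one_right (h.sq ha)

theorem Hy.dih (h : Hy r I) (ha : a ∈ I) (hb : b ∈ I) (j : ℕ) : a * (a * b) ^ j ∈ I := by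
  induction j using Nat.strong_induction_on with
  | _ j ih =>
    match j, ih with
    | 0, _ => simpa using ha
    | 1, _ => rwa [pow_one, ← mul_assoc, h.sq ha, one_mul]
    | j + 2, ih =>
      have h1 := h.con _ (ih j (by omega)) (a * b)⁻¹
      have e : (a * b)⁻¹ * (a * (a * b) ^ j) * (a * b)⁻¹⁻¹ = a * (a * b) ^ (j + 2) := by
        have e1 : (a * b)⁻¹ * a = a * (a * b) := by
          rw [mul_inv_rev, h.inv ha, h.inv hb, mul_assoc, h.sq ha, mul_one, ← mul_assoc, h.sq ha,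
            one_mul]
        rw [inv_inv, ← mul_assoc (a * b)⁻¹ a, e1, pow_succ, pow_succ']
        simp only [mul_assoc]
      exact e ▸ h1

theorem Hy.dih' (h : Hy r I) (ha : a ∈ I) (hb : b ∈ I) (j : ℕ) : b * (a * b) ^ j ∈ I := by
  have := h.dih ha hb (j + 1)
  rwa [pow_succ', ← mul_assoc, ← mul_assoc, h.sq ha, one_mul] at this

theorem Hy.swap (h : Hy r I) (p : Pz r I z) (ha : a ∈ I) {w : H} (hw : w ∈ zpowers z) :
    a * w = w⁻¹ * a := by
  have h1 := h.sq (p.mul a ha w hw)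
  have h2 : (a * w)⁻¹ = a * w := inv_eq_of_mul_eq_one_right h1
  rw [← h2, mul_inv_rev, h.inv ha]

theorem Hy.cz (h : Hy r I) (p : Pz r I z) (ha : a ∈ I) (hb : b ∈ I) {w : H} (hw : w ∈ zpowers z) :
    Commute (a * b) w := by
  change a * b * w = w * (a * b)
  rw [mul_assoc, h.swap p hb hw, ← mul_assoc, h.swap p ha (inv_mem hw), inv_inv, mul_assoc]

theorem Hy.alpha (h : Hy r I) (p : Pz r I z) (ha : a ∈ I) (hb : b ∈ I) (hn : a * b ∉ zpowers z) :
    ¬ Sq z (a * b * (a * b)) := by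
  rintro ⟨w, hw, e⟩
  have h1 : b * w⁻¹ ∈ I := p.mul b hb _ (inv_mem hw)
  have h2 : Commute a (b * w⁻¹) := by
    refine comm_of_sq (h.sq ha) (h.sq h1) ?_
    have c := (h.cz p ha hb (inv_mem hw)).eq
    calc a * (b * w⁻¹) * (a * (b * w⁻¹)) = a * b * (w⁻¹ * (a * b)) * w⁻¹ := by
          simp only [mul_assoc]
      _ = a * b * (a * b) * w⁻¹ * w⁻¹ := by rw [← c]; simp only [mul_assoc]
      _ = 1 := by rw [e]; group
  apply hn
  rcases h.bc a ha _ h1 h2 with e1 | e1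
  · have : a * b = w := by
      rw [mul_inv_eq_iff_eq_mul] at e1
      rw [e1, ← mul_assoc, h.sq ha, one_mul]
    exact this ▸ hw
  · have : a * b = r * w := by
      rw [mul_inv_eq_iff_eq_mul] at e1
      rw [e1, h.rc a, ← mul_assoc, ← mul_assoc, h.sq ha, one_mul]
    exact this ▸ mul_mem p.rz hw

theorem Hy.beta (h : Hy r I) (hn : a * b ∉ zpowers z) :
    ∃ j : ℕ, (a * b) ^ j ∉ zpowers z ∧ (a * b) ^ j * (a * b) ^ j ∈ zpowers z := by
  obtain ⟨k, hk⟩ := h.pg (a * b)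
  exact exists_pow hn k (by rw [hk]; exact one_mem _)

theorem Hy.cm_iff (h : Hy r I) (p : Pz r I z) (ha : a ∈ I) (hb : b ∈ I) :
    a * b * (a * b) ∈ zpowers z ↔
      haveI := p.nm
      Commute (QuotientGroup.mk' (zpowers z) a) (QuotientGroup.mk' (zpowers z) b) := by
  have := p.nm
  have e1 : QuotientGroup.mk' (zpowers z) a * QuotientGroup.mk' (zpowers z) a = 1 := by
    rw [← map_mul, h.sq ha, map_one]
  have e2 : QuotientGroup.mk' (zpowers z) b * QuotientGroup.mk' (zpowers z) b = 1 := by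
    rw [← map_mul, h.sq hb, map_one]
  refine Iff.trans (QuotientGroup.eq_one_iff _).symm ?_
  exact ⟨comm_of_sq e1 e2, sq_of_comm e1 e2⟩

theorem Hy.gamma0 [Finite H] (h : Hy r I) (p : Pz r I z) (ha : a ∈ I) (hb : b ∈ I) (hb' : b' ∈ I)
    (n1 : a * b ∉ zpowers z) (n2 : a * b' ∉ zpowers z) (n3 : b * b' ∉ zpowers z)
    (s1 : a * b * (a * b) ∈ zpowers z) (s2 : a * b' * (a * b') ∈ zpowers z)
    (s3 : b * b' * (b * b') ∈ zpowers z) : False := by
  have := p.nm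
  have a1 := h.alpha p ha hb n1
  have a2 := h.alpha p ha hb' n2
  have a3 := h.alpha p hb hb' n3
  by_cases hr : Sq z r
  · apply a3
    set ω := a * b with hω
    set ω' := a * b' with hω'
    have hg : b * b' = ω⁻¹ * ω' := by
      rw [hω, hω', mul_inv_rev, h.inv hb, mul_assoc, inv_mul_cancel_left]
    have hc : ω * ω' * ω⁻¹ * ω'⁻¹ ∈ zpowers z := by
      have c1 := (h.cm_iff p ha hb).1 s1
      have c2 := (h.cm_iff p ha hb').1 s2
      have c3 := (h.cm_iff p hb hb').1 s3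
      have c4 : Commute (QuotientGroup.mk' (zpowers z) ω) (QuotientGroup.mk' (zpowers z) ω') := by
        rw [hω, hω', map_mul, map_mul]
        exact ((Commute.refl _).mul_right c2).mul_left (c1.symm.mul_right c3)
      rw [← QuotientGroup.ker_mk' (zpowers z), MonoidHom.mem_ker]
      simp only [map_mul, map_inv]
      rw [c4.eq]
      group
    set c := ω * ω' * ω⁻¹ * ω'⁻¹ with hc'
    have e0 : ω * ω' = c * (ω' * ω) := by rw [hc']; group
    have k1 : ω * c = c * ω := (h.cz p ha hb hc).eq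
    have k3 : ω' * (ω * ω) = ω * ω * ω' := (h.cz p ha hb' s1).eq
    have c2 : c * c = 1 := by
      have : ω * ω * ω' = c * c * (ω' * (ω * ω)) := by
        calc ω * ω * ω' = ω * (ω * ω') := by rw [mul_assoc]
          _ = ω * c * (ω' * ω) := by rw [e0]; simp only [mul_assoc]
          _ = c * (ω * ω') * ω := by rw [k1]; simp only [mul_assoc]
          _ = c * c * (ω' * (ω * ω)) := by rw [e0]; simp only [mul_assoc]
      rw [k3] at this
      exact (mul_eq_right.1 this.symm)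
    have hsc : Sq z c := by
      rcases uniq hc p.rz c2 h.r2 h.r1 with e | e
      · exact ⟨1, one_mem _, by rw [e, one_mul]⟩
      · exact e ▸ hr
    have e1 : ω' * ω⁻¹ = c * (ω⁻¹ * ω') := by
      calc ω' * ω⁻¹ = ω⁻¹ * (ω * ω') * ω⁻¹ := by group
        _ = ω⁻¹ * c * ω' := by rw [e0]; group
        _ = ω⁻¹ * (c * ω) * (ω⁻¹ * ω') := by group
        _ = c * (ω⁻¹ * ω') := by rw [← k1]; group
    have e2 : ω⁻¹ * ω' * (ω⁻¹ * ω') = c * ((ω * ω)⁻¹ * (ω' * ω')) := by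
      calc ω⁻¹ * ω' * (ω⁻¹ * ω') = ω⁻¹ * (ω' * ω⁻¹) * ω' := by simp only [mul_assoc]
        _ = ω⁻¹ * (c * ω) * (ω⁻¹ * (ω⁻¹ * ω') * ω') := by rw [e1]; group
        _ = c * ((ω * ω)⁻¹ * (ω' * ω')) := by rw [← k1]; group
    rw [hg, e2]
    exact hsc.mul (sq_of_not_sq s1 s2 a1 a2)
  · have hz := gen_of_not_sq h.pg p.rz hr
    have all : ∀ w ∈ zpowers z, ¬ Sq z w → w = r := by
      intro w hw hs
      rcases two h.r2 (zpowers_le_of_mem hz hw) with e | e
      · exact absurd ⟨1, one_mem _, by rw [e, one_mul]⟩ hs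
      · exact e
    have tw : ∀ x ∈ I, a * x * (a * x) = r → a * x = r * (x * a) := by
      intro x hx e
      rw [← e, mul_assoc (a * x) (a * x), mul_assoc a x (x * a), ← mul_assoc x x, h.sq hx, one_mul,
        h.sq ha, mul_one]
    have t1 := tw b hb (all _ s1 a1)
    have t2 := tw b' hb' (all _ s2 a2)
    refine h.hK a ha (b * b') ?_ (all _ s3 a3)
    calc b * b' * a = r * r * (b * (b' * a)) := by rw [h.r2, one_mul, mul_assoc]
      _ = r * (b * (r * (b' * a))) := by rw [mul_assoc, ← mul_assoc r b, h.rc b, mul_assoc]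
      _ = r * (b * a) * b' := by rw [← t2]; simp only [mul_assoc]
      _ = a * (b * b') := by rw [← t1, mul_assoc]

theorem Hy.gamma [Finite H] (h : Hy r I) (p : Pz r I z) (ha : a ∈ I) (hb : b ∈ I) (hb' : b' ∈ I)
    (n1 : a * b ∉ zpowers z) (n2 : a * b' ∉ zpowers z)
    (s1 : a * b * (a * b) ∈ zpowers z) (s2 : a * b' * (a * b') ∈ zpowers z) :
    b * b' ∈ zpowers z := by
  have := p.nm
  by_contra n3
  by_cases s3 : b * b' * (b * b') ∈ zpowers z
  · exact h.gamma0 p ha hb hb' n1 n2 n3 s1 s2 s3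
  obtain ⟨j, j1, j2⟩ := h.beta n3
  have m1 := h.dih hb hb' j
  have m2 := h.dih' hb hb' j
  set ζ := (b * b') ^ j with hζ
  have e : b * (b * ζ) = ζ := by rw [← mul_assoc, h.sq hb, one_mul]
  have c1 := (h.cm_iff p ha hb).1 s1
  have c2 := (h.cm_iff p ha hb').1 s2
  set π := QuotientGroup.mk' (zpowers z) with hπ
  have c3 : Commute (π a) (π ζ) := by
    rw [hζ, map_pow, map_mul]
    exact (c1.mul_right c2).pow_right j
  refine h.gamma0 p ha hb m1 n1 (fun n => s3 ?_) (by rwa [e]) s1 ?_ (by rwa [e])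
  · rw [h.cm_iff p hb hb']
    have d1 : π a * (π b * π ζ) = 1 := by
      rw [← map_mul, ← map_mul]
      exact (QuotientGroup.eq_one_iff _).2 n
    have d2 : π ζ * π ζ = 1 := by
      rw [← map_mul]
      exact (QuotientGroup.eq_one_iff _).2 j2
    have d3 : Commute (π b') (π ζ) :=
      comm_of_sq (by rw [← map_mul, h.sq hb', map_one]) d2
        (by rw [← map_mul, ← map_mul, h.sq m2, map_one])
    have d4 : π b = (π a)⁻¹ * (π ζ)⁻¹ := by
      rw [← mul_assoc] at d1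
      rw [← mul_inv_rev, eq_inv_iff_mul_eq_one, ← c3.eq, ← mul_assoc, ← c1.eq, d1]
    change Commute (π b) (π b')
    rw [d4]
    exact (c2.inv_left).mul_left d3.symm.inv_left
  · rw [h.cm_iff p ha m1]
    change Commute (π a) (π (b * ζ))
    rw [map_mul]
    exact c1.mul_right c3

theorem Hy.delta [Finite H] (h : Hy r I) (p : Pz r I z) (ha : a ∈ I) (hb : b ∈ I)
    (hn : a * b ∉ zpowers z) : ∃ ω, Pz r I ω ∧ zpowers z < zpowers ω := by
  have := p.nm
  obtain ⟨j, j1, j2⟩ := h.beta hn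
  have m1 := h.dih ha hb j
  set ω := (a * b) ^ j with hω
  have e : ∀ x, a * (a * x) = x := fun x => by rw [← mul_assoc, h.sq ha, one_mul]
  have hle : zpowers z ≤ zpowers ω := by
    have a1 := h.alpha p ha m1 (by rwa [e])
    rw [e] at a1
    exact zpowers_le_of_mem (zpowers_le_of_mem (mul_mem (mem_zpowers ω) (mem_zpowers ω))
      (gen_of_not_sq h.pg j2 a1))
  -- partners of `a`
  have par : ∀ x, a * x ∈ I → x ∉ zpowers z → x * x ∈ zpowers z → ω⁻¹ * x ∈ zpowers z := by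
    intro x x1 x2 x3
    have := h.gamma p ha m1 x1 (by rwa [e]) (by rwa [e]) (by rwa [e]) (by rwa [e])
    rwa [← h.inv m1, mul_inv_rev, mul_assoc, inv_mul_cancel_left] at this
  have step : ∀ v ∈ I, v * ω ∈ I := by
    intro v hv
    by_cases c : a * v ∈ zpowers z
    · have k := (h.cz p ha m1 c).eq
      rw [e] at k
      have := p.mul _ m1 _ c
      rwa [mul_assoc, k, ← mul_assoc, e] at this
    · obtain ⟨i, i1, i2⟩ := h.beta c
      have := p.mul _ (h.dih' ha hv i) _ (inv_mem (par _ (h.dih ha hv i) i1 i2))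
      rwa [mul_inv_rev, inv_inv, mul_assoc, mul_inv_cancel_left] at this
  refine ⟨ω, ⟨hle p.rz, ⟨?_⟩, ?_⟩, lt_of_le_of_ne hle fun e' => j1 (e' ▸ mem_zpowers ω)⟩
  · have key : ∀ s, s * ω * s⁻¹ ∈ zpowers ω := by
      intro s
      have h1 := h.con _ (step _ (h.con a ha s⁻¹)) s
      have e1 : s * (s⁻¹ * a * s⁻¹⁻¹ * ω) * s⁻¹ = a * (s * ω * s⁻¹) := by group
      rw [e1] at h1
      have h2 := par _ h1 (fun n => j1 (by simpa [mul_assoc] using p.nm.conj_mem _ n s⁻¹))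
        (by simpa [mul_assoc] using p.nm.conj_mem _ j2 s)
      simpa using mul_mem (mem_zpowers ω) (hle h2)
    rintro _ ⟨i, rfl⟩ s
    rw [← conj_zpow]
    exact zpow_mem (key s) i
  · intro v hv w hw
    obtain ⟨n, rfl⟩ := mem_powers_iff_mem_zpowers.2 hw
    induction n with
    | zero => simpa using hv
    | succ n ih =>
      have := step _ (ih (pow_mem (mem_zpowers ω) n))
      simpa [pow_succ, mul_assoc] using this

theorem Hy.core [Finite H] (h : Hy r I) (ha : a ∈ I) :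
    ∃ z, Pz r I z ∧ ∀ v ∈ I, a * v ∈ zpowers z := by
  have p0 : Pz r I r := by
    refine ⟨mem_zpowers r, ⟨fun x hx s => ?_⟩, fun v hv w hw => ?_⟩
    · rcases two h.r2 hx with rfl | rfl
      · simp
      · rw [← h.rc s, mul_inv_cancel_right]; exact mem_zpowers _
    · rcases two h.r2 hw with rfl | rfl
      · simpa using hv
      · rw [← h.rc v]; exact h.mr v hv
  obtain ⟨Z, ⟨z, p, rfl⟩, hm⟩ := (wellFounded_gt (α := Subgroup H)).has_min
    {Z | ∃ z, Pz r I z ∧ Z = zpowers z} ⟨_, r, p0, rfl⟩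
  refine ⟨z, p, fun v hv => ?_⟩
  by_contra hn
  obtain ⟨ω, q, hlt⟩ := h.delta p ha hv hn
  exact hm _ ⟨ω, q, rfl⟩ hlt

end A1x

variable {G : Type u} [Group G] [Finite G]
  {A A' B C E H J J' K L L' L₁ L₂ M P S S' T V V' W W' X α δ : Subgroup G}
  {a b c d e g k n r r' s t t' u u' v w x x' y y' z z' : G}

theorem a1 {I : Set G} (hS : IsPGroup 2 S) (rS : r ∈ S) (r1 : r ≠ 1) (r2 : r * r = 1)
    (mem : ∀ v ∈ I, v ∈ S ∧ v * v = 1 ∧ r * v = v * r ∧ v ≠ 1 ∧ v ≠ r)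
    (con : ∀ v ∈ I, ∀ s ∈ S ⊓ C1 r, s * v * s⁻¹ ∈ I) (mr : ∀ v ∈ I, r * v ∈ I)
    (bc : ∀ u ∈ I, ∀ v ∈ I, u * v = v * u → v = u ∨ v = r * u)
    (hK : ∀ v ∈ I, ∀ g ∈ S ⊓ C1 r, g * v = v * g → g * g ≠ r)
    (hu : u ∈ I) (hv : v ∈ I) (e : u * v * (u * v) = r) :
    ∃ z, DS S r u z ∧ ∀ v, v ∈ I ↔ ∃ w ∈ zpowers z, v = u * w := by
  have mT : ∀ v ∈ I, v ∈ S ⊓ C1 r := fun v hv => ⟨(mem v hv).1, mem_C1.2 (mem v hv).2.2.1.symm⟩
  have rT : r ∈ S ⊓ C1 r := ⟨rS, mem_C1.2 rfl⟩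
  have hy : A1x.Hy (H := ↥(S ⊓ C1 r)) ⟨r, rT⟩ {x | (x : G) ∈ I} :=
    { pg := hS.to_le inf_le_left
      r1 := fun h => r1 (congrArg Subtype.val h)
      r2 := Subtype.ext r2
      rc := fun g => Subtype.ext (mem_C1.1 g.2.2).symm
      mem := fun v hv => ⟨Subtype.ext (mem v hv).2.1, fun h => (mem v hv).2.2.2.1 (congrArg Subtype.val h),
        fun h => (mem v hv).2.2.2.2 (congrArg Subtype.val h)⟩
      con := fun v hv s => con v hv s s.2
      mr := fun v hv => mr v hv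
      bc := fun u hu v hv h => (bc u hu v hv (congrArg Subtype.val h)).imp Subtype.ext Subtype.ext
      hK := fun v hv g h h' => hK v hv g g.2 (congrArg Subtype.val h) (congrArg Subtype.val h') }
  obtain ⟨z, p, hz⟩ := hy.core (a := ⟨u, mT u hu⟩) hu
  have u2 : u * u = 1 := (mem u hu).2.1
  have dn : ∀ w : ↥(S ⊓ C1 r), w ∈ zpowers z → (w : G) ∈ zpowers (z : G) := by
    rintro _ ⟨i, rfl⟩
    exact ⟨i, by simp⟩
  have up : ∀ w ∈ zpowers (z : G), ∃ w' ∈ zpowers z, (w' : G) = w := by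
    rintro _ ⟨i, rfl⟩
    exact ⟨z ^ i, ⟨i, rfl⟩, by simp⟩
  have f1 : ∀ v ∈ I, u * v ∈ zpowers (z : G) := fun v hv => dn _ (hz ⟨v, mT v hv⟩ hv)
  have f2 : ∀ v ∈ I, ∀ w ∈ zpowers (z : G), v * w ∈ I := by
    intro v hv w hw
    obtain ⟨w', h1, rfl⟩ := up w hw
    exact p.mul ⟨v, mT v hv⟩ hv w' h1
  have rz : r ∈ zpowers (z : G) := dn _ p.rz
  refine ⟨z, ⟨hS, rS, (mem u hu).1, z.2.1, r1, r2, u2, (mem u hu).2.2.1, (mem_C1.1 z.2.2).symm, ?_,
    fun h => ?_, ⟨u * v, f1 v hv, e⟩, fun s hs => ?_, fun s hs => f1 _ (con u hu s hs),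
    fun g hg w hw => hK _ (f2 u hu w hw) g hg⟩, fun v => ⟨fun hv => ⟨u * v, f1 v hv, ?_⟩, ?_⟩⟩
  · have := congrArg Subtype.val (hy.swap p (a := ⟨u, mT u hu⟩) hu (mem_zpowers z))
    change u * z = (z : G)⁻¹ * u at this
    rw [this, mul_inv_cancel_right]
  · rcases A1x.uniq h rz u2 r2 r1 with h1 | h1
    · exact (mem u hu).2.2.2.1 h1
    · exact (mem u hu).2.2.2.2 h1
  · refine mem_normalizer_of_cj_le (cj_le_iff.2 fun w hw => ?_)
    obtain ⟨w', h1, rfl⟩ := up w hw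
    exact dn _ (p.nm.conj_mem w' h1 ⟨s, hs⟩)
  · rw [← mul_assoc, u2, one_mul]
  · rintro ⟨w, hw, rfl⟩
    exact f2 u hu w hw

end Cfsg.Lib.Bau
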