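import Cfsg.Agent.Bau.Defs
import Cfsg.Agent.Trans.PUCase

/-! The amalgam of lines: critical distance one.  The path arguments follow those of the
pushing-up amalgam, without its triviality hypothesis. -/

set_option autoImplicit false
set_option linter.unusedSectionVars false

open scoped commutatorElement

namespace Cfsg.Lib.Bau.Path

open Cfsg Subgroup Cfsg.Lib.Solv Cfsg.Lib.Trans Cfsg.Lib.Trans.TJ Cfsg.Lib.Trans.MP
  Cfsg.Lib.Local.MSS Cfsg.Lib.Trans.PU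

local notation "𝐂" A:max => Subgroup.centralizer (SetLike.coe A)
local notation "𝐍" A:max => Subgroup.normalizer (SetLike.coe A)

variable {G : Type*} [Group G] {p : ℕ} {𝒱 : Set (Subgroup G)}

local notation "𝐐" P:max => pCoreOf p P
local notation "𝐕" P:max => vv p P

/-- the amalgam without the triviality hypothesis. -/
structure Amw (p : ℕ) (𝒱 : Set (Subgroup G)) : Prop where
  cj : ∀ P ∈ 𝒱, ∀ g, cj g P ∈ 𝒱
  vx : ∀ P ∈ 𝒱, Vx p P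
  hW : ∀ P ∈ 𝒱, ∀ S, IsSylowIn p S P → ¬ P ≤ 𝐍 (wf p 𝒱 S)

/-- a long path of critical pairs. -/
structure LQ (p : ℕ) (𝒱 : Set (Subgroup G)) (b N : ℕ) (γ σ : ℕ → Subgroup G) : Prop where
  amal : Amw p 𝒱
  pos : 0 < b
  hb : ∀ n < b, ∀ P P', Near p 𝒱 n P P' → vv p P ≤ pCoreOf p P'
  mem : ∀ i, γ i ∈ 𝒱
  sl : ∀ i, IsSylowIn p (σ i) (γ i)
  sr : ∀ i, IsSylowIn p (σ i) (γ (i + 1))
  crit : ∀ i ≤ N, ¬ vv p (γ i) ≤ pCoreOf p (γ (i + b))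
  opp : ∀ i < N, σ i ⊔ σ (i + 1) = γ (i + 1)

variable [Finite G] [hp : Fact p.Prime]

theorem Amw.exists_zero (h : Amw p 𝒱) (hex : ∃ n, ∃ P P', Near p 𝒱 n P P' ∧ ¬ 𝐕 P ≤ 𝐐 P') :
    ∃ b γ σ, LQ p 𝒱 b 0 γ σ := by
  classical
  obtain ⟨P, P', h1, h2⟩ := Nat.find_spec hex
  obtain ⟨γ, σ, rfl, rfl, e⟩ := h1.path
  refine ⟨_, γ, σ, h, Nat.pos_of_ne_zero fun e0 => h2 (by rw [e0]; exact vv_le _),
    fun n hn P P' h3 => by_contra fun h4 => Nat.find_min hex hn ⟨P, P', h3, h4⟩,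
    fun i => (e i).1, fun i => (e i).2.1, fun i => (e i).2.2, fun i hi => ?_, fun i hi => by omega⟩
  rw [Nat.le_zero.1 hi, zero_add]; exact h2

namespace LQ

variable {b N : ℕ} {γ σ : ℕ → Subgroup G}

omit [Finite G] hp in
theorem vx (h : LQ p 𝒱 b N γ σ) (i : ℕ) : Vx p (γ i) := h.amal.vx _ (h.mem i)

omit [Finite G] hp in
theorem near (h : LQ p 𝒱 b N γ σ) {i j n : ℕ} (h1 : i ≤ j + n) (h2 : j ≤ i + n) :
    Near p 𝒱 n (γ i) (γ j) := by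
  have key : ∀ k i, Near p 𝒱 k (γ i) (γ (i + k)) := fun k i => by
    induction k with
    | zero => exact .refl (h.mem i) 0
    | succ k ih => exact ih.snoc (h.mem _) (h.sl _) (h.sr _)
  rcases le_total i j with e | e
  · obtain ⟨k, rfl⟩ := Nat.exists_eq_add_of_le e; exact (key k i).mono (by omega)
  · obtain ⟨k, rfl⟩ := Nat.exists_eq_add_of_le e; exact (key k j).symm.mono (by omega)

omit [Finite G] hp in
theorem le_Q (h : LQ p 𝒱 b N γ σ) {i j : ℕ} (h1 : i < j + b) (h2 : j < i + b) :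
    𝐕 (γ i) ≤ 𝐐 (γ j) := h.hb (b - 1) (by have := h.pos; omega) _ _ (h.near (by omega) (by omega))

omit [Finite G] hp in
theorem cent (h : LQ p 𝒱 b N γ σ) {i j : ℕ} (h1 : i < j + b) (h2 : j < i + b) :
    𝐕 (γ i) ≤ 𝐂 (𝐕 (γ j)) := (h.le_Q h1 h2).trans (Q_le_cent _)

theorem Ql (h : LQ p 𝒱 b N γ σ) (i : ℕ) : 𝐐 (γ i) ≤ σ i := pCoreOf_le_of_isSylowIn (h.sl i)

theorem Qr (h : LQ p 𝒱 b N γ σ) (i : ℕ) : 𝐐 (γ (i + 1)) ≤ σ i := pCoreOf_le_of_isSylowIn (h.sr i)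

omit [Finite G] hp in
theorem crit' (h : LQ p 𝒱 b N γ σ) {i j : ℕ} (hi : i ≤ N) (e : j = i + b) :
    ¬ 𝐕 (γ i) ≤ 𝐐 (γ j) := e ▸ h.crit i hi

theorem le_sl (h : LQ p 𝒱 b N γ σ) {i k : ℕ} (h1 : i < k + b) (h2 : k < i + b) : 𝐕 (γ i) ≤ σ k :=
  (h.le_Q h1 h2).trans (h.Ql k)

theorem le_sr (h : LQ p 𝒱 b N γ σ) {i k : ℕ} (h1 : i < k + 1 + b) (h2 : k + 1 < i + b) :
    𝐕 (γ i) ≤ σ k := (h.le_Q h1 h2).trans (h.Qr k)

theorem cl (h : LQ p 𝒱 b N γ σ) {i k : ℕ} (hi : i ≤ N) (e : k + 1 = i + b) :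
    𝐕 (γ i) ⊔ 𝐐 (γ (k + 1)) = σ k :=
  have := h.pos
  (h.vx i).crit (h.vx _) (h.sl i) (h.sr k) (h.le_sl (by omega) (by omega))
    (h.le_sr (by omega) (by omega)) (h.crit' hi e)

theorem crit_symm (h : LQ p 𝒱 b N γ σ) {i j : ℕ} (hi : i ≤ N) (e : j = i + b) :
    ¬ 𝐕 (γ j) ≤ 𝐐 (γ i) := by
  have := h.pos
  obtain ⟨k, rfl⟩ := Nat.exists_eq_add_of_le' (show 1 ≤ j by omega)
  exact (h.vx _).not_le_symm (h.sr k) (h.le_sl (by omega) (by omega)) (h.crit' hi e)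

theorem cr (h : LQ p 𝒱 b N γ σ) {i j : ℕ} (hi : i ≤ N) (e : j = i + b) :
    𝐕 (γ j) ⊔ 𝐐 (γ i) = σ i := by
  have := h.pos
  have h1 := h.crit_symm hi e
  obtain ⟨k, rfl⟩ := Nat.exists_eq_add_of_le' (show 1 ≤ j by omega)
  exact (h.vx _).crit (h.vx i) (h.sr k) (h.sl i) (h.le_sr (by omega) (by omega))
    (h.le_sl (by omega) (by omega)) h1

theorem R_eq (h : LQ p 𝒱 b N γ σ) {i k : ℕ} (hi : i ≤ N) (e : k + 1 = i + b) :
    ⁅𝐕 (γ i), σ i⁆ = ⁅𝐕 (γ (k + 1)), σ k⁆ := by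
  have a := h.cr hi e
  have c := h.cl hi e
  rw [← a, comm_sup_Q ((le_sup_left.trans a.le).trans (h.sl i).le), ← c,
    comm_sup_Q ((le_sup_left.trans c.le).trans (h.sr k).le), commutator_comm]

theorem succ (h : LQ p 𝒱 b N γ σ) : ∃ γ σ, LQ p 𝒱 b (N + 1) γ σ := by
  obtain ⟨S, hS, e⟩ := (h.vx 0).opp (h.sl 0)
  obtain ⟨c, rfl⟩ := Nat.exists_eq_add_of_le' h.pos
  obtain ⟨P, hP, h1, h2⟩ : ∃ P ∈ 𝒱, IsSylowIn p S P ∧ ¬ 𝐕 P ≤ 𝐐 (γ c) := by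
    by_contra h1
    push Not at h1
    obtain ⟨s, hs, h2⟩ := SetLike.not_le_iff_exists.1 (h.crit_symm N.zero_le (zero_add _).symm)
    have h3 := h.cl (k := c) N.zero_le (zero_add _).symm
    have h4 := (le_sup_left.trans (h.cr N.zero_le (zero_add _).symm).le) hs
    refine h.amal.hW _ (h.mem 0) S hS ((h.vx 0).gen hS (h.sl 0) e h4 h2
      (Coprime.le_normalizer_iSup fun P => P.2.2.le.trans (le_norm_vv _))
      (mem_norm_of_comm fun w hw => ?_))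
    obtain ⟨a, ha, t, ht, rfl⟩ := exists_mul_Q ((le_sup_left.trans h3.le).trans (h.sr c).le)
      (h3.ge (h.Ql c (wf_le h1 hw)))
    rw [comm_mul_cent (comm_eq_one_of_mem' ht (vv_le_cent _ hs))]
    exact le_wf (h.mem 0) hS (comm_mem_of_norm (le_norm_vv _ ((h.sl 0).le h4)) ha)
  refine ⟨fun i => Nat.casesOn i P γ, fun i => Nat.casesOn i S σ, h.amal, h.pos, h.hb,
    fun i => Nat.casesOn i hP h.mem, fun i => Nat.casesOn i h1 h.sl, fun i => Nat.casesOn i hS h.sr,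
    fun i hi => ?_, fun i hi => ?_⟩
  · cases i with
    | zero => rw [zero_add]; exact h2
    | succ i => rw [show i + 1 + (c + 1) = i + (c + 1) + 1 by omega]; exact h.crit i (by omega)
  · cases i with
    | zero => exact e
    | succ i => exact h.opp i (by omega)

theorem exists_long (h : LQ p 𝒱 b 0 γ σ) (N : ℕ) : ∃ γ σ, LQ p 𝒱 b N γ σ := by
  induction N with
  | zero => exact ⟨γ, σ, h⟩
  | succ N ih => obtain ⟨_, _, h⟩ := ih; exact h.succ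

theorem rev (h : LQ p 𝒱 b (N + b) γ σ) :
    LQ p 𝒱 b N (fun i => γ (N + b - i)) (fun i => σ (N + b - (i + 1))) := by
  have := h.pos
  refine ⟨h.amal, h.pos, h.hb, fun i => h.mem _, fun i => ?_, fun i => h.sl _,
    fun i hi => h.crit_symm (by omega) (by omega), fun i hi => ?_⟩
  · rcases lt_or_ge i (N + b) with e | e
    · rw [show N + b - i = N + b - (i + 1) + 1 by omega]; exact h.sr _
    · rw [show N + b - i = N + b - (i + 1) by omega]; exact h.sl _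
  · rw [show N + b - (i + 1) = N + b - (i + 1 + 1) + 1 by omega, sup_comm]
    exact h.opp _ (by omega)

theorem R_le_sl (h : LQ p 𝒱 b N γ σ) {i j : ℕ} (h1 : i ≤ j) (h2 : j < i + b) (hj : j ≤ N) :
    ⁅𝐕 (γ i), σ i⁆ ≤ 𝐂 (σ j) := by
  induction j, h1 using Nat.le_induction with
  | base => exact ((h.vx i).comm_le (h.sl i)).trans inf_le_right
  | succ j hij ih =>
    obtain ⟨k, e⟩ : ∃ k, k + 1 = i + b := ⟨i + b - 1, by omega⟩
    rw [← h.cr hj rfl, TJ.centralizer_sup']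
    refine le_inf ?_ ((ih (by omega) (by omega)).trans (TJ.centralizer_anti (h.Qr j)))
    rw [h.R_eq (by omega) e]
    exact (((h.vx _).comm_le (h.sr k)).trans inf_le_left).trans (h.cent (by omega) (by omega))

theorem R_le (h : LQ p 𝒱 b N γ σ) {i j : ℕ} (h1 : i < j) (h2 : j < i + b) (hj : j ≤ N) :
    ⁅𝐕 (γ i), σ i⁆ ≤ 𝐂 (γ j) := by
  obtain ⟨k, rfl⟩ := Nat.exists_eq_add_of_le' (show 1 ≤ j by omega)
  rw [← h.opp k (by omega), TJ.centralizer_sup']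
  exact le_inf (h.R_le_sl (by omega) (by omega) (by omega)) (h.R_le_sl (by omega) h2 hj)

theorem not_norm (h : LQ p 𝒱 b N γ σ) (hb : 2 ≤ b) {i : ℕ} (hi : i < N) :
    ¬ γ (i + 1) ≤ 𝐍 (𝐐 (γ (i + 1)) ⊓ 𝐐 (γ i)) := fun hn => by
  obtain ⟨c, rfl⟩ := Nat.exists_eq_add_of_le' h.pos
  have hA : 𝐕 (γ i) ≤ 𝐐 (γ (i + 1)) := h.le_Q (by omega) (by omega)
  have hW := le_centralizer_ncl hn (inf_le_right.trans (Q_le_cent _))
  have h1 := h.cr hi.le rfl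
  obtain ⟨y, hy, h2⟩ := SetLike.not_le_iff_exists.1 (h.crit_symm (i := i + 1) hi rfl)
  have hyS : y ∈ σ (i + 1) := h.le_sr (by omega) (by omega) hy
  have hyP := (h.sl _).le hyS
  have h3 : ∀ a ∈ 𝐕 (γ i), ⁅y, a⁆ ∈ 𝐕 (γ (i + 1)) := fun a ha => by
    have a1 : y * a * y⁻¹ ∈ ncl (𝐕 (γ i)) (γ (i + 1)) := cj_le_ncl _ hyP (conj_mem_cj.2 ha)
    have a2 : ⁅y, a⁆ ∈ 𝐐 (γ (i + (c + 1))) := comm_mem_of_norm' (self_le_normalizer_pCoreOf _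
      ((h.sr (i + c)).le (h.le_sl (by omega) (by omega) ha))) (h.le_Q (by omega) (by omega) hy)
    refine (h.vx _).mem_V (comm_mem_cent hyP (pCoreOf_le _ (hA ha))) (fun t ht => ?_) ?_
    · obtain ⟨v, hv, d, hd, rfl⟩ := exists_mul_Q ((le_sup_left.trans h1.le).trans (h.sl i).le)
        (h1.ge (h.Qr i ht))
      have hd' : d ∈ 𝐐 (γ (i + 1)) := (mul_mem_cancel_left (h.le_Q (by omega) (by omega) hv)).1 ht
      have a3 : ⁅y, a⁆ ∈ ncl (𝐕 (γ i)) (γ (i + 1)) := mul_mem a1 (inv_mem (le_ncl _ _ ha))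
      rw [mul_assoc, ← hW ⟨hd', hd⟩ _ a3, ← mul_assoc, Q_le_cent _ a2 v hv, mul_assoc]
    · rw [commutatorElement_def, (show Commute (y * a * y⁻¹) a⁻¹ from
        hW (inv_mem ⟨hA ha, vv_le _ ha⟩) _ a1).mul_pow, conj_pow, inv_pow, vv_pow ha]
      simp
  have n1 : σ i ≤ 𝐍 (𝐕 (γ i) ⊔ 𝐕 (γ (i + 1))) :=
    le_normalizer_sup ((h.sl i).le.trans (le_norm_vv _)) ((h.sr i).le.trans (le_norm_vv _))
  have n2 := (h.vx _).gen (h.sr i) (h.sl _) (h.opp i hi) hyS h2 n1 (mem_normalizer_of_cj_le (by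
    rw [cj_sup, cj_eq_of_mem_normalizer (le_norm_vv _ hyP)]
    refine sup_le (cj_le_iff.2 fun a ha => ?_) le_sup_right
    rw [conj_eq_comm_mul]
    exact mul_mem (mem_sup_right (h3 a ha)) (mem_sup_left ha)))
  obtain ⟨g, hg, e⟩ := (h.sl (i + 1)).exists_cj_eq (h.sr i)
  refine h.crit i hi.le (le_sup_left.trans ((cj_eq_of_mem_normalizer (n2 hg)).ge.trans ?_))
  rw [cj_sup, cj_eq_of_mem_normalizer (le_norm_vv _ hg), ← vv_cj]
  refine sup_le ?_ (h.le_Q (by omega) (by omega))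
  obtain ⟨d, rfl⟩ := Nat.exists_eq_add_of_le' (show 1 ≤ c by omega)
  exact h.hb (d + 1) (by omega) _ _ (.cons (h.amal.cj _ (h.mem i) g) (e ▸ (h.sl i).cj g) (h.sr _)
    (h.near (by omega) (by omega)))

omit [Finite G] hp in
theorem ncl_le_Q (h : LQ p 𝒱 b N γ σ) {P S : Subgroup G} (hP : P ∈ 𝒱) (h1 : IsSylowIn p S P)
    {i j : ℕ} (h2 : IsSylowIn p S (γ i)) (h3 : i + 1 < j + b) (h4 : j + 1 < i + b) :
    ncl (𝐕 P) (γ i) ≤ 𝐐 (γ j) := iSup_le fun g => by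
  rw [← vv_cj]
  exact h.hb (b - 2 + 1) (by omega) _ _ (.cons (h.amal.cj _ hP g) (h1.cj g) (h2.cj_of_mem g.2)
    (h.near (by omega) (by omega)))

theorem not_three {m : ℕ} (h : LQ p 𝒱 (m + 3) (2 * m + 5) γ σ) : False := by
  have r1 := h.R_le (i := m + 2) (j := m + 3) (by omega) (by omega) (by omega)
  have hA : 𝐕 (γ (m + 2)) ≤ γ (m + 3) := (h.le_Q (by omega) (by omega)).trans (pCoreOf_le _)
  have w1 := fun t w => comm_ncl_mem (t := t) (w := w) (h.sr (m + 2)) hA r1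
  have w2 : ncl (𝐕 (γ (m + 2))) (γ (m + 3)) ≤ 𝐐 (γ 1) := iSup_le fun g => by
    have a1 : cj (g : G) (𝐕 (γ (m + 2))) ≤ σ 1 := (cj_le_ncl _ g.2).trans ((h.ncl_le_Q (h.mem _)
      (h.sl (m + 2)) (h.sr _) (j := 2) (by omega) (by omega)).trans (h.Qr 1))
    have a2 : 𝐕 (γ 1) ≤ 𝐐 (γ (m + 3)) := h.le_Q (by omega) (by omega)
    by_contra a3
    rw [← vv_cj] at a1 a3
    have a4 := ((h.vx _).cj g).crit (h.vx 1) ((h.sl _).cj g) (h.sl 1) a1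
      (a2.trans (pCoreOf_le_of_isSylowIn ((h.sr (m + 2)).cj_of_mem g.2))) a3
    refine (h.vx (m + 4)).not_le (h.sr (m + 3)) ?_
    rw [← h.R_eq (i := 1) (by omega) (by omega), ← a4, comm_sup_Q (a1.trans (h.sl 1).le)]
    refine le_trans (commutator_le.2 fun a ha c hc => w1 _ _ (a2 ha) ?_)
      (h.R_le (by omega) (by omega) (by omega))
    rw [vv_cj] at hc
    exact cj_le_ncl _ g.2 hc
  have e0 := h.R_eq (i := m + 3) (k := 2 * m + 5) (by omega) (by omega)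
  have r2 := h.R_le (i := m + 3) (j := 2 * m + 5) (by omega) (by omega) (by omega)
  obtain ⟨y, hy, h2⟩ := SetLike.not_le_iff_exists.1
    (h.crit_symm (i := m + 3) (j := 2 * m + 6) (by omega) (by omega))
  have hyS : y ∈ σ (m + 3) := h.le_sr (by omega) (by omega) hy
  have hyP := (h.sl _).le hyS
  refine h.not_norm (by omega) (i := m + 2) (by omega) ((h.vx _).gen (h.sr _) (h.sl _)
    (h.opp _ (by omega)) hyS h2 (le_normalizer_inf ((h.sr _).le.trans (self_le_normalizer_pCoreOf _))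
      ((h.sl _).le.trans (self_le_normalizer_pCoreOf _))) (mem_normalizer_of_cj_le
        (cj_le_iff.2 fun d hd => ?_)))
  have hd' := mem_normalizer_conj (self_le_normalizer_pCoreOf _ hyP) hd.1
  refine ⟨hd', (h.vx _).mem_Q (h.sl _) (h.Qr _ hd') fun a ha => ?_⟩
  have x1 : ⁅y⁻¹, a⁆ ∈ ncl (𝐕 (γ (m + 2))) (γ (m + 3)) :=
    comm_mem_of_norm (le_normalizer_ncl _ _ (inv_mem hyP)) (le_ncl _ _ ha)
  have x2 : ⁅y⁻¹, a⁆ ∈ ncl (𝐕 (γ (2 * m + 6))) (γ (2 * m + 5)) :=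
    comm_mem_of_norm' (le_normalizer_ncl _ _ ((h.sr (2 * m + 4)).le
      (h.le_sl (by omega) (by omega) ha))) (le_ncl _ _ (inv_mem hy))
  have key : ∀ k j, j + k = 2 * m + 5 → m + 3 ≤ j → ∀ t ∈ 𝐐 (γ j),
      ⁅t, ⁅y⁻¹, a⁆⁆ ∈ ⁅𝐕 (γ (m + 3)), σ (m + 3)⁆ := fun k => by
    induction k with
    | zero =>
      rintro j rfl - t ht
      rw [e0] at r2 ⊢
      exact comm_ncl_mem (h.sl _) ((h.le_Q (by omega) (by omega)).trans (pCoreOf_le _)) r2 ht x2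
    | succ k ih =>
      intro j e hj t ht
      have c := h.cl (i := j - (m + 2)) (k := j) (by omega) (by omega)
      obtain ⟨t, ht', v, hv, rfl⟩ := (Solv.mem_sup_of_le_normalizer (((le_sup_left.trans c.le).trans
        (h.sr j).le).trans (self_le_normalizer_pCoreOf _))).1
          ((c.ge.trans (sup_comm _ _).le) (h.Ql j ht))
      rw [comm_cent_mul (comm_eq_one_of_mem hv (Q_le_cent _ ?_))]
      · exact ih (j + 1) (by omega) (by omega) t ht'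
      rcases (show j - (m + 2) = 1 ∨ 2 ≤ j - (m + 2) by omega) with e1 | e1
      · rw [e1]; exact w2 x1
      · exact h.ncl_le_Q (h.mem _) (h.sl (m + 2)) (h.sr _) (by omega) (by omega) x1
  have c1 := r1 (w1 _ _ hd.1 x1)
  have c2 := Vx.inf_le (h.sl _) (h.sr _) (key (m + 2) (m + 3) (by omega) le_rfl d hd.1) c1
  rw [← h.R_eq (i := 0) (by omega) (by omega)] at c2
  have c3 := h.R_le (i := 0) (j := m + 2) (by omega) (by omega) (by omega) c2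
  have : ⁅y * d * y⁻¹, a⁆ = y * ⁅d, ⁅y⁻¹, a⁆⁆ * y⁻¹ := by
    rw [← comm_mul_cent (comm_eq_one_of_mem hd.2 (vv_le_cent _ ha))]
    simp only [commutatorElement_def]; group
  rwa [this, c1 y hyP, mul_inv_cancel_right]

theorem dec_l (h : LQ p 𝒱 2 N γ σ) {i : ℕ} (hi : i ≤ N) {t : G} (ht : t ∈ σ (i + 1)) :
    ∃ v ∈ 𝐕 (γ i), ∃ d ∈ 𝐐 (γ (i + 2)), v * d = t :=
  have c := h.cl (k := i + 1) hi rfl
  exists_mul_Q ((le_sup_left.trans c.le).trans (h.sr _).le) (c.ge ht)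

theorem dec_r (h : LQ p 𝒱 2 N γ σ) {i : ℕ} (hi : i ≤ N) {t : G} (ht : t ∈ σ i) :
    ∃ v ∈ 𝐕 (γ (i + 2)), ∃ d ∈ 𝐐 (γ i), v * d = t :=
  have c := h.cr hi rfl
  exists_mul_Q ((le_sup_left.trans c.le).trans (h.sl _).le) (c.ge ht)

theorem comm_mem_l (h : LQ p 𝒱 2 N γ σ) {i : ℕ} (hi : i ≤ N) {y d : G} (hy : y ∈ 𝐕 (γ (i + 2)))
    (hd : d ∈ σ (i + 1)) : ⁅y, d⁆ ∈ 𝐕 (γ i) := by
  obtain ⟨v, hv, t, ht, rfl⟩ := h.dec_l hi hd
  rw [comm_mul_cent (comm_eq_one_of_mem' ht (vv_le_cent _ hy))]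
  exact comm_mem_of_norm (le_norm_vv _ ((h.sl i).le (h.le_sr (by omega) (by omega) hy))) hv

theorem comm_mem_r (h : LQ p 𝒱 2 N γ σ) {i : ℕ} (hi : i ≤ N) {y d : G} (hy : y ∈ 𝐕 (γ i))
    (hd : d ∈ σ i) : ⁅y, d⁆ ∈ 𝐕 (γ (i + 2)) := by
  obtain ⟨v, hv, t, ht, rfl⟩ := h.dec_r hi hd
  rw [comm_mul_cent (comm_eq_one_of_mem' ht (vv_le_cent _ hy))]
  exact comm_mem_of_norm (le_norm_vv _ ((h.sr (i + 1)).le (h.le_sl (by omega) (by omega) hy))) hv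

theorem comm_not_mem (h : LQ p 𝒱 2 N γ σ) {i : ℕ} (hi : i < N) {w y : G} (hw : w ∈ 𝐕 (γ i))
    (h1 : w ∉ 𝐐 (γ (i + 2))) (hy : y ∈ 𝐕 (γ (i + 3))) (h2 : y ∉ 𝐐 (γ (i + 1))) :
    ⁅y, w⁆ ∉ 𝐐 (γ i) := fun h3 => by
  have hyS : y ∈ σ (i + 1) := h.le_sr (by omega) (by omega) hy
  have hyP := (h.sl _).le hyS
  refine h.not_norm le_rfl hi ((h.vx _).gen (h.sr _) (h.sl _) (h.opp _ hi) (inv_mem hyS)
    (fun e => h2 (by simpa using inv_mem e)) (le_normalizer_inf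
      ((h.sr _).le.trans (self_le_normalizer_pCoreOf _))
      ((h.sl _).le.trans (self_le_normalizer_pCoreOf _))) (mem_normalizer_of_cj_le
        (cj_le_iff.2 fun t ht => ⟨mem_normalizer_conj (self_le_normalizer_pCoreOf _
          (inv_mem hyP)) ht.1, ?_⟩)))
  obtain ⟨v, hv, d, hd, rfl⟩ := h.dec_l hi.le (h.Ql _ ht.1)
  have hvQ := h.le_Q (i := i) (j := i + 1) (by omega) (by omega) hv
  rw [show y⁻¹ * (v * d) * y⁻¹⁻¹ = y⁻¹ * v * y * (⁅y⁻¹, d⁆ * d) by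
    simp only [commutatorElement_def]; group]
  refine (pCoreOf p _).mul_mem (by_contra fun h4 => h1 ?_) ((pCoreOf p _).mul_mem (h.le_Q (by omega)
    (by omega) (h.comm_mem_l (i := i + 1) hi (inv_mem hy) (h.Ql _ hd)))
    ((mul_mem_cancel_left (vv_le _ hv)).1 ht.2))
  have h5 := (h.vx i).reg (h.sl i) (h.Qr i (mem_normalizer_conj' (self_le_normalizer_pCoreOf _ hyP)
    hvQ)) h4 hw (by
      rw [show ⁅y⁻¹ * v * y, w⁆ = y⁻¹ * ⁅v, ⁅y, w⁆ * w⁆ * y by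
        simp only [commutatorElement_def]; group, comm_mul_cent (comm_eq_one_of_mem hv (vv_ab _ hw)),
        comm_eq_one_of_mem' h3 (vv_le_cent _ hv)]
      simp)
  exact (h.vx _).mem_Q' (h.sr (i + 1)) (h.le_sl (by omega) (by omega) hw)
    (TJ.centralizer_anti (h.le_sr (by omega) (by omega)) h5)

theorem idx_le (h : LQ p 𝒱 2 N γ σ) {i : ℕ} (hi : i < N) :
    (𝐐 (γ (i + 1))).relIndex (σ (i + 1)) ≤ (𝐐 (γ i)).relIndex (σ i) := by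
  obtain ⟨w, hw, h1⟩ := SetLike.not_le_iff_exists.1 (h.crit i hi.le)
  have c := h.cr (i := i + 1) hi rfl
  have hwQ := h.le_Q (i := i) (j := i + 1) (by omega) (by omega) hw
  have hm : ∀ y ∈ 𝐕 (γ (i + 3)), ⁅y, w⁆ ∈ 𝐐 (γ (i + 1)) := fun y hy => comm_mem_of_norm
    (self_le_normalizer_pCoreOf _ ((h.sl _).le (h.le_sr (by omega) (by omega) hy))) hwQ
  refine le_trans (le_of_eq ?_) (relIndex_le_of_map (A := 𝐕 (γ (i + 3))) (B := 𝐐 (γ (i + 1)))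
    (fun y => ⟨_, h.Qr i (hm y y.2)⟩) fun y y' e => by_contra fun h2 => ?_)
  · refine le_antisymm ?_ (relIndex_le_of_le_right (le_sup_left.trans c.le) FiniteIndex.index_ne_zero)
    refine relIndex_le_of_map (A := σ (i + 1)) (B := 𝐐 (γ (i + 1))) (X := 𝐕 (γ (i + 3)))
      (fun s => ⟨_, (exists_mul_Q ((le_sup_left.trans c.le).trans (h.sl _).le)
        (c.ge s.2)).choose_spec.1⟩) fun s s' e => ?_
    obtain ⟨-, t, ht, e1⟩ := (exists_mul_Q ((le_sup_left.trans c.le).trans (h.sl _).le)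
        (c.ge s.2)).choose_spec
    obtain ⟨-, t', ht', e2⟩ := (exists_mul_Q ((le_sup_left.trans c.le).trans (h.sl _).le)
        (c.ge s'.2)).choose_spec
    rw [← e1, ← e2, mul_inv_rev, mul_assoc, ← mul_assoc _ _ t']
    exact mul_mem (inv_mem ht) (mul_mem e ht')
  · have hy := mul_mem (inv_mem y.2) y'.2
    refine h.comm_not_mem hi hw h1 hy h2 ?_
    have h3 : ⁅(y : G)⁻¹ * y', w⁆ ∈ 𝐐 (γ (i + 2)) := comm_mem_of_norm' (self_le_normalizer_pCoreOf _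
      ((h.sr _).le (h.le_sl (by omega) (by omega) hw))) (h.le_Q (by omega) (by omega) hy)
    have h4 := mem_normalizer_conj (self_le_normalizer_pCoreOf (p := p) _
      ((h.sl i).le (h.Qr i (hm y y.2)))) e
    rw [show ⁅(y : G), w⁆ * (⁅(y : G), w⁆⁻¹ * ⁅(y' : G), w⁆) * ⁅(y : G), w⁆⁻¹ =
      ⁅(y : G), ⁅(y : G)⁻¹ * y', w⁆⁆ * ⁅(y : G)⁻¹ * y', w⁆ by
        simp only [commutatorElement_def]; group] at h4
    exact (mul_mem_cancel_left (h.le_Q (by omega) (by omega)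
      (h.comm_mem_l (i := i + 1) hi y.2 (h.Ql _ h3)))).1 h4

theorem mem_V_of_Q (h : LQ p 𝒱 2 N γ σ) {i : ℕ} (hi : i ≤ N) {w : G} (hw : w ∈ 𝐕 (γ i))
    (h1 : w ∈ 𝐐 (γ (i + 2))) : w ∈ 𝐕 (γ (i + 1)) := by
  have h2 : w ∈ 𝐂 (σ i) := by
    rw [← h.cr hi rfl, mem_cent_sup]; exact ⟨Q_le_cent _ h1, vv_le_cent _ hw⟩
  exact (h.vx _).mem_V ((h.sr i).le (h.le_sl (by omega) (by omega) hw))
    (TJ.centralizer_anti (h.Qr i) h2) (vv_pow hw)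

theorem c2 (h : LQ p 𝒱 2 4 γ σ) : C2 p (γ 2) (σ 2) (σ 1) (𝐕 (γ 3)) (𝐕 (γ 1)) (𝐕 (γ 4))
    (𝐐 (γ 1) ⊓ 𝐐 (γ 2) ⊓ 𝐐 (γ 3) ⊓ 𝐐 (γ 4)) := by
  have r := h.R_le (i := 1) (j := 2) (by omega) (by omega) (by omega)
  have e := h.R_eq (i := 1) (k := 2) (by omega) rfl
  have q {i j : ℕ} (h1 : i < j + 2 := by omega) (h2 : j < i + 2 := by omega) {v : G}
    (hv : v ∈ 𝐕 (γ i)) : v ∈ 𝐐 (γ j) := h.le_Q h1 h2 hv
  have m (s a : G) (h1 : ⁅s, a⁆ ∈ ⁅𝐕 (γ 1), σ 1⁆) : ⁅s, a⁆ ∈ 𝐕 (γ 2) ∧ ⁅s, a⁆ ∈ 𝐂 (γ 2) :=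
    have h2 := ((h.vx 1).comm_le (h.sl 1) h1).1
    ⟨(h.vx 2).mem_V (pCoreOf_le _ (q (hv := h2))) (TJ.centralizer_anti (pCoreOf_le _) (r h1))
      (vv_pow h2), r h1⟩
  have hD : ∀ t, t ∈ 𝐕 (γ 2) ⊔ 𝐐 (γ 1) ⊓ 𝐐 (γ 2) ⊓ 𝐐 (γ 3) ⊓ 𝐐 (γ 4) ↔
      t ∈ 𝐐 (γ 1) ⊓ 𝐐 (γ 2) ⊓ 𝐐 (γ 3) := fun t => by
    refine ⟨fun ht => (sup_le (c := 𝐐 (γ 1) ⊓ 𝐐 (γ 2) ⊓ 𝐐 (γ 3))
      (fun v hv => ⟨⟨q (hv := hv), vv_le _ hv⟩, q (hv := hv)⟩) inf_le_left :) ht, fun ht => ?_⟩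
    obtain ⟨v, hv, d, hd, rfl⟩ := h.dec_l (i := 2) (by omega) (h.Ql _ ht.2)
    exact mul_mem (mem_sup_left hv) (mem_sup_right (mem_inf.2 ⟨(mul_mem_cancel_left
      (⟨⟨q (hv := hv), vv_le _ hv⟩, q (hv := hv)⟩ : v ∈ 𝐐 (γ 1) ⊓ 𝐐 (γ 2) ⊓ 𝐐 (γ 3))).1 ht, hd⟩))
  have nw : ∀ w ∈ 𝐕 (γ 1), w ∉ 𝐕 (γ 2) → w ∉ 𝐐 (γ 3) := fun w hw h1 h2 =>
    h1 (h.mem_V_of_Q (by omega) hw h2)
  have hm : ∀ y ∈ 𝐕 (γ 4), ∀ w ∈ 𝐕 (γ 1), ⁅y, w⁆ ∈ 𝐐 (γ 2) ∧ ⁅y, w⁆ ∈ 𝐐 (γ 3) :=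
    fun y hy w hw => ⟨comm_mem_of_norm (self_le_normalizer_pCoreOf _ ((h.sl 2).le
      (h.le_sr (by omega) (by omega) hy))) (q (hv := hw)), comm_mem_of_norm'
      (self_le_normalizer_pCoreOf _ ((h.sr 2).le (h.le_sl (by omega) (by omega) hw))) (q (hv := hy))⟩
  refine ⟨h.sr 1, h.opp 1 (by omega), fun _ hv => q (hv := hv), fun _ hv => q (hv := hv), vv_ea _,
    vv_ea _, vv_ea _, fun v hv h1 => (h.vx 3).mem_V (pCoreOf_le _ (q (hv := hv)))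
      (TJ.centralizer_anti (h.Qr 2) h1) (vv_pow hv), fun v hv h1 => (h.vx 1).mem_V
      (pCoreOf_le _ (q (hv := hv))) (TJ.centralizer_anti (h.Ql 1) h1) (vv_pow hv),
    fun s hs a ha => m s a (e ▸ comm_mem_comm hs ha), fun s hs a ha => m s a (comm_mem_comm hs ha),
    h.cr (by omega) rfl, h.cent (by omega) (by omega),
    inf_le_left.trans (inf_le_left.trans inf_le_right),
    (inf_le_left.trans inf_le_right).trans (Q_le_cent _),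
    (inf_le_left.trans (inf_le_left.trans inf_le_left)).trans (Q_le_cent _),
    inf_le_right.trans (Q_le_cent _), fun t ht => ?_, ?_, fun a ha w hw h1 => ?_,
    fun y hy w hw => Q_le_cent _ (hm y hy w hw).2, fun w hw h1 y hy h2 h3 => ?_,
    fun w hw h1 y hy h2 h3 => ?_, ?_,
    fun h1 => h.crit 1 (by omega) (h1.trans (h.le_Q (by omega) (by omega)))⟩
  · obtain ⟨a, ha, t, ht1, rfl⟩ := h.dec_r (i := 1) (by omega) (h.Qr _ ht)
    have ht2 := (mul_mem_cancel_left (q (hv := ha))).1 ht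
    obtain ⟨w, hw, t, ht3, rfl⟩ := h.dec_l (i := 1) (by omega) (h.Ql _ ht2)
    obtain ⟨v, hv, d, hd, rfl⟩ := (Solv.mem_sup_of_le_normalizer' ((vv_le_cent _).trans
      ((TJ.centralizer_anti (inf_le_left.trans (inf_le_left.trans inf_le_right))).trans
        (centralizer_le_normalizer _)))).1 ((hD t).2 ⟨⟨(mul_mem_cancel_left (vv_le _ hw)).1 ht1,
          (mul_mem_cancel_left (q (hv := hw))).1 ht2⟩, ht3⟩)
    obtain ⟨u, hu, hu1, u', hu', hu2, rfl⟩ := (h.vx 2).sum (h.sl 2) (h.sr 1)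
      ((sup_comm _ _).trans (h.opp 1 (by omega))) hv
    refine ⟨a * u, mul_mem ha ((h.vx 3).mem_V (pCoreOf_le _ (q (hv := hu)))
      (TJ.centralizer_anti (h.Qr 2) hu1) (vv_pow hu)), w * u', mul_mem hw ((h.vx 1).mem_V
      (pCoreOf_le _ (q (hv := hu'))) (TJ.centralizer_anti (h.Ql 1) hu2) (vv_pow hu')), d, hd, ?_⟩
    rw [mul_assoc a u, ← mul_assoc u, ← vv_le_cent _ hu w (q (hv := hw))]; group
  · rw [Subgroup.ext hD]
    refine (h.opp 1 (by omega)).ge.trans ?_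
    rw [← h.cl (i := 0) (k := 1) (by omega) rfl, ← h.cr (i := 2) (by omega) rfl]
    have nQ : 𝐐 (γ 2) ≤ 𝐍 (𝐐 (γ 1) ⊓ 𝐐 (γ 2) ⊓ 𝐐 (γ 3)) := le_normalizer_inf (le_normalizer_inf
      (((h.Qr 1).trans (h.sl 1).le).trans (self_le_normalizer_pCoreOf _)) le_normalizer)
      (((h.Ql 2).trans (h.sr 2).le).trans (self_le_normalizer_pCoreOf _))
    refine sup_le (sup_le (fun y hy => mem_norm_of_comm fun d hd => (hD _).1 (mem_sup_left ?_)) nQ)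
      (sup_le (fun y hy => mem_norm_of_comm fun d hd => (hD _).1 (mem_sup_left ?_)) nQ)
    · exact h.comm_mem_r (by omega) hy (h.Qr 0 hd.1.1)
    · exact h.comm_mem_l (by omega) hy (h.Ql 3 hd.2)
  · refine or_iff_not_imp_right.2 fun h2 => (h.vx 2).mem_V (pCoreOf_le _ (q (hv := ha)))
      (TJ.centralizer_anti (h.Ql 2) ((h.vx 3).reg (h.sr 2) (h.le_sl (by omega) (by omega) hw)
        (nw w hw h2) ha ?_)) (vv_pow ha)
    rw [← commutatorElement_inv, h1, inv_one]; exact one_mem _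
  · exact h.comm_not_mem (i := 1) (by omega) hw (nw w hw h1) hy h2
      ((h.vx 1).mem_Q' (h.sl 1) (h.Qr 1 (hm y hy w hw).1) h3)
  · refine (h.rev (N := 2)).comm_not_mem (i := 0) (by omega) hy h2 hw (nw w hw h1) ?_
    rw [← commutatorElement_inv]
    exact inv_mem ((h.vx 4).mem_Q' (h.sr 3) (h.Ql 3 (hm y hy w hw).2) h3)
  · have a1 := h.idx_le (i := 1) (by omega)
    have a2 : (𝐐 (γ 3)).relIndex (σ 2) ≤ (𝐐 (γ 4)).relIndex (σ 3) :=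
      (h.rev (N := 2)).idx_le (i := 0) (by omega)
    have b1 := h.le_sl (i := 1) (k := 2) (by omega) (by omega)
    have b2 := h.le_sr (i := 3) (k := 1) (by omega) (by omega)
    have b3 := h.le_sl (i := 2) (k := 3) (by omega) (by omega)
    have b4 := h.le_sr (i := 4) (k := 2) (by omega) (by omega)
    have c1 := (h.vx 3).relIndex_eq (h.sr 2) b1 (h.crit 1 (by omega))
    have c2 : (𝐐 (γ 1)).relIndex (σ 1) ≤ (𝐐 (γ 3)).relIndex (σ 2) := by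
      rw [← (h.vx 1).relIndex_eq (h.sl 1) b2 (h.crit_symm (by omega) rfl),
        ← (h.vx 3).relIndex_Q (h.sr 2) b1]
      exact relIndex_le_of_le_right b1 FiniteIndex.index_ne_zero
    have c3 : (𝐐 (γ 4)).relIndex (σ 3) ≤ (𝐐 (γ 2)).relIndex (σ 2) := by
      rw [← (h.vx 4).relIndex_eq (h.sr 3) b3 (h.crit 2 (by omega)),
        ← (h.vx 2).relIndex_Q (h.sl 2) b4]
      exact relIndex_le_of_le_right b4 FiniteIndex.index_ne_zero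
    rw [le_antisymm (a1.trans c2) (a2.trans c3), ← c1, ← inf_relIndex_left,
      ← inf_relIndex_left _ (𝐂 (𝐕 (γ 1)))]
    congr 1
    exact le_antisymm (inf_le_inf_left _ (h.cent (by omega) (by omega))) fun a ha =>
      ⟨ha.1, (h.rev (N := 2)).mem_V_of_Q (i := 1) (by omega) ha.1
        ((h.vx 1).mem_Q' (h.sl 1) (b2 ha.1) ha.2)⟩

end LQ

omit hp in
theorem r1_pull {P S M : Subgroup G} (h : R1 p P S M) :
    R1 p ⊤ (S.subgroupOf P) (M.subgroupOf P) := by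
  have hf := P.subtype_injective
  have hS := h.syl.le
  have hr := P.range_subtype
  have q {x : P} : x ∈ 𝐐 (⊤ : Subgroup P) ↔ (x : G) ∈ 𝐐 P := by
    rw [← mem_Q_pull (p := p) hf, hr]; rfl
  have v {x : P} : x ∈ 𝐕 (⊤ : Subgroup P) ↔ (x : G) ∈ 𝐕 P := by
    rw [← mem_V_pull (p := p) hf, hr]; rfl
  have c {A : Subgroup G} (hA : A ≤ P) {x : P} : x ∈ 𝐂 (A.subgroupOf P) ↔ (x : G) ∈ 𝐂 A :=
    (mem_cent_pull hf (hr.symm ▸ hA)).symm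
  have eQ : 𝐐 (⊤ : Subgroup P) = (𝐐 P).subgroupOf P := Subgroup.ext fun _ => q
  have eV : 𝐕 (⊤ : Subgroup P) = (𝐕 P).subgroupOf P := Subgroup.ext fun _ => v
  have c0 {x : P} : x ∈ 𝐂 (⊤ : Subgroup P) ↔ (x : G) ∈ 𝐂 P := by
    rw [← c le_rfl, subgroupOf_self]
  have i1 : 𝐕 (⊤ : Subgroup P) ⊓ 𝐂 (S.subgroupOf P) = (𝐕 P ⊓ 𝐂 S).subgroupOf P :=
    Subgroup.ext fun x => and_congr v (c hS)
  have i2 : 𝐕 (⊤ : Subgroup P) ⊓ 𝐂 (⊤ : Subgroup P) = (𝐕 P ⊓ 𝐂 P).subgroupOf P :=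
    Subgroup.ext fun x => and_congr v c0
  refine ⟨?_, fun g _ h1 => ?_, ?_, fun x _ h1 s hs h2 => q.2 (h.ti x x.2 h1 s hs h2), ?_,
    fun s hs w hw => (c hS).2 (h.quad s hs w (v.1 hw)),
    fun s hs h1 w hw h2 => (c hS).2 (h.reg s hs (mt q.2 h1) w (v.1 hw) (c0.1 h2)),
    fun w hw h1 u hu h2 => ?_, fun x _ h1 w hw => ?_, ?_, ?_⟩
  · have := h.syl.comap P.subtype (by
      rw [(MonoidHom.ker_eq_bot_iff _).2 hf]; exact IsPGroup.of_bot) hr.ge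
    rwa [comap_subtype, comap_subtype, subgroupOf_self] at this
  · rw [eQ] at h1; exact q.2 (h.char g g.2 ((c (pCoreOf_le _)).1 h1))
  · have := uniqMax_subgroupOf h.uniq le_rfl
    rwa [subgroupOf_self] at this
  · obtain ⟨w, hw, h1⟩ := h.nc
    exact ⟨⟨w, vv_le_self _ hw⟩, v.2 hw, mt (c hS).1 h1⟩
  · obtain ⟨s, hs, e⟩ := h.tr w (v.1 hw) (mt (c hS).2 h1) u (v.1 hu) ((c hS).1 h2)
    exact ⟨⟨s, hS hs⟩, hs, c0.2 e⟩
  · obtain ⟨u, hu, u', hu', e⟩ := h.sum x x.2 h1 w (v.1 hw)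
    exact ⟨⟨u, vv_le_self _ hu.1⟩, i1 ▸ hu, ⟨u', vv_le_self _ hu'.1⟩, i1 ▸ hu', Subtype.ext e⟩
  · rw [i1, eV, eQ, relIndex_subgroupOf (vv_le_self _), relIndex_subgroupOf hS, h.idx]
  · rw [i1, i2, eQ, relIndex_subgroupOf (inf_le_left.trans (vv_le_self _)),
      relIndex_subgroupOf hS, h.idx']

end Cfsg.Lib.Bau.Path

namespace Cfsg.Lib.Bau

open Cfsg Subgroup Cfsg.Lib.Trans Cfsg.Lib.Trans.TJ Cfsg.Lib.Gold Cfsg.Lib.Gomi

universe u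

variable {G : Type u} [Group G] [Finite G]

theorem am1 {𝒱 : Set (Subgroup G)} (h : Am 𝒱)
    (hc : ∃ n P P', PU.Near 2 𝒱 n P P' ∧ ¬ VV P ≤ QQ P') :
    ∃ P ∈ 𝒱, ∃ P' ∈ 𝒱, ∃ S, IsSylowIn 2 S P ∧ IsSylowIn 2 S P' ∧ ¬ VV P ≤ QQ P' := by
  obtain ⟨b, γ, σ, h⟩ := (Path.Amw.mk h.cj h.vx h.hW).exists_zero hc
  have := h.pos
  rcases (show b = 1 ∨ b = 2 ∨ ∃ m, b = m + 3 from
    (by omega : b = 1 ∨ b = 2 ∨ b = b - 3 + 3).imp_right (Or.imp_right fun e => ⟨_, e⟩)) with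
    rfl | rfl | ⟨m, rfl⟩
  · exact ⟨_, h.mem 0, _, h.mem 1, _, h.sl 0, h.sr 0, h.crit 0 le_rfl⟩
  · obtain ⟨γ, σ, h⟩ := h.exists_long 4
    obtain ⟨M, hM⟩ := (h.vx 2).r1 (h.sl 2)
    have c := h.c2
    rw [← map_subgroupOf_eq_of_le (h.sl 2).le] at c
    nth_rw 1 [← (γ 2).range_subtype] at c
    exact ((c.pull (γ 2).subtype_injective).ne_two (Path.r1_pull hM) rfl).elim
  · obtain ⟨_, _, h⟩ := h.exists_long (2 * m + 5); exact h.not_three.elim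

end Cfsg.Lib.Bau
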