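import Cfsg.Agent.Bau.Line
import Cfsg.Agent.Trans.PUPath

/-! The existence of a critical pair in an amalgam of lines. -/

set_option autoImplicit false
set_option linter.unusedSectionVars false
set_option linter.unusedVariables false

open scoped commutatorElement

namespace Cfsg.Lib.Bau

open Cfsg Subgroup Cfsg.Lib.Trans Cfsg.Lib.Trans.TJ Cfsg.Lib.Gold Cfsg.Lib.Gomi

universe u

variable {G : Type u} [Group G] [Finite G]
  {A A' B C E H J J' K L L' L₁ L₂ M P S S' T V V' W W' X α δ : Subgroup G}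
  {a b c d e g k n r r' s t t' u u' v w x x' y y' z z' : G}

theorem Am2.near_cj {𝒱 : Set (Subgroup G)} (h : Am 𝒱) {m : ℕ} (hn : PU.Near 2 𝒱 m α δ) (g : G) :
    PU.Near 2 𝒱 m (cj g α) (cj g δ) := by
  induction hn with
  | refl k n => exact .refl (h.cj _ k g) n
  | cons k a b _ ih => exact .cons (h.cj _ k g) (a.cj g) (b.cj g) ih

theorem Am2.walk {𝒱 : Set (Subgroup G)} {m : ℕ} (hn : PU.Near 2 𝒱 m α δ) (hS : IsSylowIn 2 S α)
    (hE : Mx S E) (h : ¬ E ≤ QQ δ) :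
    ∃ γ T i, PU.Near 2 𝒱 i α γ ∧ IsSylowIn 2 T γ ∧ Mx T E ∧ ¬ E ≤ QQ γ := by
  induction hn generalizing S with
  | refl k n => exact ⟨_, S, 0, .refl k 0, hS, hE, h⟩
  | @cons n P P' P'' T k a b _ ih =>
    by_cases hq : E ≤ QQ P
    · obtain ⟨x, -, rfl⟩ := a.exists_cj_eq hS
      obtain ⟨γ, T, i, h1, h2⟩ := ih b ((mx_cj hE x).of_card_le
        (hq.trans (Local.pCoreOf_le_sylowIn a)) hE.ea (card_cj x E).le) h
      exact ⟨γ, T, i + 1, .cons k a b h1, h2⟩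
    · exact ⟨_, S, 0, .refl k 0, hS, hE, hq⟩

theorem am2 {𝒱 : Set (Subgroup G)} (h : Am 𝒱) (hP : P ∈ 𝒱) (hS : IsSylowIn 2 B P)
    (hJ : ¬ JJ B ≤ QQ P) (hc : ∀ P' ∈ 𝒱, ∀ S', IsSylowIn 2 S' P' → ∃ g, S' = cj g B) :
    ∃ n P P', PU.Near 2 𝒱 n P P' ∧ ¬ VV P ≤ QQ P' := by
  by_contra! h1
  clear hc
  set Y := ⨆ X : {X // ∃ n, PU.Near 2 𝒱 n X P}, VV (X : Subgroup G)
  have VY : ∀ {n X}, PU.Near 2 𝒱 n X P → VV X ≤ Y := fun {n X} hX =>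
    le_iSup_of_le (f := fun X : {X // ∃ n, PU.Near 2 𝒱 n X P} => VV (X : Subgroup G))
      ⟨X, n, hX⟩ le_rfl
  have YQ : ∀ {n X}, PU.Near 2 𝒱 n X P → Y ≤ QQ X := fun hX =>
    iSup_le fun ⟨_, _, k⟩ => h1 _ _ _ (k.trans hX.symm)
  have Yea : IsElementaryAbelian 2 Y := ea_iSup (fun X => PU.vv_ea _) fun ⟨_, _, k⟩ ⟨_, _, k'⟩ =>
    (h1 _ _ _ (k.trans k'.symm)).trans (PU.Q_le_cent _)
  have NY : ∀ {n X}, PU.Near 2 𝒱 n X P → X ≤ Ns Y := fun {n X} hX g hg =>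
    mem_normalizer_of_cj_le (by
      rw [cj_iSup]
      refine iSup_le fun ⟨X', _, k⟩ => ?_
      have := Am2.near_cj h (k.trans hX.symm) g
      rw [cj_eq_of_mem hg] at this
      rw [← VV_cj]
      exact VY (this.trans hX))
  have CQ : ∀ {n X T}, PU.Near 2 𝒱 n X P → IsSylowIn 2 T X → T ⊓ Cs Y ≤ QQ X :=
    fun hX hT s hs => (Ln.memQ ⟨h.vx _ hX.left, hT⟩ hs.1).2 (Cs_anti (VY hX) hs.2)
  obtain ⟨_, ⟨E, T₀, δ₀, n₀, k₀, hT₀, hE₀, hY, rfl⟩, hm⟩ :=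
    (wellFounded_gt (α := Subgroup G)).has_min {D | ∃ E T δ n, PU.Near 2 𝒱 n δ P ∧
      IsSylowIn 2 T δ ∧ Mx T E ∧ ¬ E ≤ Cs Y ∧ D = E ⊓ Cs Y} (by
        by_contra h2
        refine hJ (JJ_le_of fun A hA => by_contra fun h3 => h2 ⟨_, A, B, P, 0, .refl hP 0, hS, hA,
          fun h4 => h3 ((le_inf hA.le h4).trans (CQ (.refl hP 0) hS)), rfl⟩))
  obtain ⟨γ, i, kγ, hγ⟩ : ∃ γ i, PU.Near 2 𝒱 i γ P ∧ ¬ E ≤ QQ γ := by
    by_contra! h2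
    exact hY (le_Cs_comm.1 (iSup_le fun ⟨X, i, k⟩ =>
      le_Cs_comm.1 ((h2 X i k).trans (PU.Q_le_cent _))))
  obtain ⟨δ, T, j, k₁, hT, hE, hq⟩ := Am2.walk (k₀.trans kγ.symm) hT₀ hE₀ hγ
  have k := k₁.symm.trans k₀
  have hL : Ln T δ := ⟨h.vx _ k.left, hT⟩
  have hE' := (hL.la hE hq).2.1
  have h2 : E ⊓ QQ δ ⊔ VV δ ≤ Cs Y := by
    by_contra h2
    refine hm _ ⟨_, T, δ, _, k, hT, hE', h2, rfl⟩ (lt_of_le_of_ne (le_inf ((le_inf inf_le_left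
      ((inf_le_inf_right _ hE.le).trans (CQ k hT))).trans le_sup_left) inf_le_right) fun e => hq ?_)
    have h3 : VV δ ≤ E := (le_inf le_sup_right ((VY k).trans (ea_le_centralizer Yea))).trans
      (e.ge.trans inf_le_left)
    exact fun s hs => (hL.memQ (hE.le hs)).2 (Cs_anti h3 (mx_cs hE hs))
  have h3 : Y ≤ E ⊓ QQ δ ⊔ VV δ := mx_le hE' ((YQ k).trans hL.Q_le) (le_Cs_comm.1 h2)
    fun w hw => by rw [← sq]; exact ea_pow Yea hw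
  have h4 : ∀ e ∈ E, ∀ y ∈ Y, ⁅e, y⁆ ∈ VV δ := fun e he y hy => by
    obtain ⟨a, ha, v, hv, rfl⟩ := (Solv.mem_sup_of_le_normalizer
      (((PU.vv_le_cent δ).trans (Cs_anti inf_le_right)).trans Cs_le_Ns)).1 (h3 hy)
    have e1 : e * a * e⁻¹ = a := conj_eq_of_mem_centralizer (mx_cs hE he) ha.1
    have e2 : ⁅e, a * v⁆ = e * a * e⁻¹ * (e * v * e⁻¹ * v⁻¹) * a⁻¹ := by
      rw [commutatorElement_def]; group
    rw [e2, e1]
    exact mem_normalizer_conj (PU.le_norm_vv δ (hT.le (hE.le ha.1)))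
      (mul_mem (mem_normalizer_conj (PU.le_norm_vv δ (hT.le (hE.le he))) hv) (inv_mem hv))
  have WY : PU.wf 2 𝒱 T ≤ Y := PU.wf_le fun P' hP' hT' => VY (.cons hP' hT' hT k)
  refine h.hW δ k.left T hT ((hL.le_ncl hE.le hq).trans (sup_le (ncl_le_iff.2 fun g hg =>
    cj_le_iff.2 fun e he => mem_normalizer_of_cj_le (cj_le_iff.2 fun w hw => ?_))
    fun g hg => mem_normalizer_of_cj_le (cj_le_iff_le_cj_inv.2 (PU.wf_le fun P' hP' hT' => ?_))))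
  · have e1 : g * e * g⁻¹ * w * (g * e * g⁻¹)⁻¹ = g * ⁅e, g⁻¹ * w * g⁆ * g⁻¹ * w := by
      rw [commutatorElement_def]; group
    rw [e1]
    exact mul_mem (PU.le_wf k.left hT (mem_normalizer_conj (PU.le_norm_vv δ hg)
      (h4 e he _ (mem_normalizer_conj' (NY k hg) (WY hw))))) hw
  · rw [← cj_le_iff_le_cj_inv, cj_eq_of_mem_normalizer (PU.le_norm_vv P' (hT'.le hg))]
    exact PU.le_wf hP' hT'

end Cfsg.Lib.Bau
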