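import Cfsg.Agent.Bau.Line

set_option autoImplicit false
set_option linter.unusedSectionVars false

open scoped commutatorElement

namespace Cfsg.Lib.Bau

open Cfsg Subgroup Cfsg.Lib.Trans Cfsg.Lib.Trans.TJ Cfsg.Lib.Gold Cfsg.Lib.Gomi

universe u

variable {G : Type u} [Group G] [Finite G]
  {A A' B C E H J J' K L L' L₁ L₂ M P S S' T V V' W W' X α δ : Subgroup G}
  {a b c d e g k n r r' s t t' u u' v w x x' y y' z z' : G}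

theorem minA {𝓛 : Set (Subgroup G)} (hL : ∀ L ∈ 𝓛, Ln B L)
    (hu : ∀ L ∈ 𝓛, ∀ L' ∈ 𝓛, VV L ≤ QQ L') (hα : α ∈ 𝓛) (hJ : ¬ JJ B ≤ QQ α) :
    ∃ A, Mx B A ∧ ¬ A ≤ QQ α ∧ (∀ δ ∈ 𝓛, A ⊓ QQ α ≤ QQ δ) ∧
      (∀ δ ∈ 𝓛, VV δ ≤ A ⊓ QQ α ⊔ VV α) ∧ ∀ δ ∈ 𝓛, ¬ A ≤ QQ δ → A ⊓ QQ δ ≤ QQ α := by
  obtain ⟨D, hD, hD'⟩ : ∃ D : Subgroup G, (∀ δ ∈ 𝓛, D ≤ QQ δ) ∧ ∀ δ ∈ 𝓛, VV δ ≤ D :=
    ⟨⨅ L ∈ 𝓛, QQ L, fun δ hδ => iInf₂_le δ hδ, fun δ hδ => le_iInf₂ (hu δ hδ)⟩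
  have hne : {X | ∃ A, Mx B A ∧ ¬ A ≤ QQ α ∧ X = A ⊔ D}.Nonempty := by
    by_contra hc
    exact hJ (JJ_le_of fun A hA => by_contra fun h => hc ⟨_, A, hA, h, rfl⟩)
  obtain ⟨X, ⟨A, hA, h1, rfl⟩, hm⟩ := wellFounded_lt.has_min _ hne
  have c5 : ∀ δ ∈ 𝓛, ¬ A ≤ QQ δ → A ⊓ QQ δ ≤ QQ α := fun δ hδ h2 => by
    by_contra h3
    refine hm _ ⟨_, ((hL δ hδ).la hA h2).2.1, fun h => h3 (le_sup_left.trans h), rfl⟩
      (lt_of_le_not_ge (sup_le (sup_le (inf_le_left.trans le_sup_left)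
        ((hD' δ hδ).trans le_sup_right)) le_sup_right) fun h => h2 ?_)
    exact (le_sup_left.trans h).trans (sup_le (sup_le inf_le_right (PU.vv_le δ)) (hD δ hδ))
  have hA' := ((hL α hα).la hA h1).2.1
  have c3 : ∀ δ ∈ 𝓛, A ⊓ QQ α ≤ QQ δ := fun δ hδ => by
    by_contra h2
    have h3 := c5 δ hδ fun h => h2 (inf_le_left.trans h)
    have h4 := ((hL δ hδ).la hA' fun h => h2 (le_sup_left.trans h)).1
    rw [sup_assoc, sup_eq_right.2 (hu α hα δ hδ)] at h4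
    refine h1 fun a ha => ?_
    obtain ⟨b, hb, t, ht, rfl⟩ := PU.exists_mul_Q (p := 2)
      ((inf_le_left.trans hA.le).trans (hL δ hδ).le) (h4.ge (hA.le ha))
    exact mul_mem hb.2 (h3 ⟨(A.mul_mem_cancel_left hb.1).1 ha, ht⟩)
  refine ⟨A, hA, h1, c3, fun δ hδ => mx_le hA' (hL δ hδ).V_le ?_ (fun _ => VV_sq), c5⟩
  exact le_Cs_comm.1 ((sup_le (c3 δ hδ) (hu α hα δ hδ)).trans (PU.Q_le_cent δ))

theorem quiet_comm {𝓛 : Set (Subgroup G)} (hL : ∀ L ∈ 𝓛, Ln B L)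
    (hu : ∀ L ∈ 𝓛, ∀ L' ∈ 𝓛, VV L ≤ QQ L') (hα : α ∈ 𝓛) (hJ : ¬ JJ B ≤ QQ α)
    (hn : α ≤ Ns (⨆ L ∈ 𝓛, VV L)) :
    ∃ N, N ≤ α ∧ α ≤ N ⊔ B ∧ ∀ δ ∈ 𝓛, ∀ v ∈ VV δ, ∀ l ∈ N, ⁅l, v⁆ ∈ VV α := by
  obtain ⟨A, hA, h1, -, h2, -⟩ := minA hL hu hα hJ
  have hB := hA.le.trans (hL α hα).le
  have hV : α ≤ Ns (VV α) := PU.le_norm_vv α
  let K : Subgroup G :=
    { carrier := {l | l ∈ α ∧ ∀ w ∈ ⨆ L ∈ 𝓛, VV L, ⁅l, w⁆ ∈ VV α}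
      one_mem' := ⟨one_mem _, fun w _ => by simp⟩
      mul_mem' := by
        rintro a b ⟨ha, ha'⟩ ⟨hb, hb'⟩
        refine ⟨mul_mem ha hb, fun w hw => ?_⟩
        have := mul_mem (mem_normalizer_conj (hV ha) (hb' w hw)) (ha' w hw)
        simpa [commutatorElement_def, mul_assoc] using this
      inv_mem' := by
        rintro a ⟨ha, ha'⟩
        refine ⟨inv_mem ha, fun w hw => ?_⟩
        have := mem_normalizer_conj' (hV ha) (inv_mem (ha' w hw))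
        simpa [commutatorElement_def, mul_assoc] using this }
  have hK : ncl A α ≤ K := ncl_le_iff.2 fun g hg => cj_le_iff.2 fun a ha =>
    ⟨mul_mem (mul_mem hg (hB ha)) (inv_mem hg), fun w hw => by
      obtain ⟨v, hv, b, hb, e⟩ := (Trans.mem_sup_of_le_normalizer ((inf_le_left.trans hB).trans hV)).1
        ((iSup₂_le h2).trans (sup_comm _ _).le (mem_normalizer_conj' (hn hg) hw))
      have e1 : b * a = a * b := mem_Cs.1 (mx_cs hA ha) b hb.1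
      have e2 : ⁅g * a * g⁻¹, w⁆ = g * (a * v * a⁻¹ * v⁻¹) * g⁻¹ := by
        have e3 : w = g * (v * b) * g⁻¹ := by rw [e]; group
        have e4 : b * a⁻¹ * b⁻¹ = a⁻¹ := by
          rw [mul_inv_eq_iff_eq_mul, mul_inv_eq_iff_eq_mul, mul_assoc, e1]; group
        calc ⁅g * a * g⁻¹, w⁆ = g * (a * v * (b * a⁻¹ * b⁻¹) * v⁻¹) * g⁻¹ := by
              rw [e3, commutatorElement_def]; group
          _ = _ := by rw [e4]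
      rw [e2]
      exact mem_normalizer_conj (hV hg) (mul_mem (mem_normalizer_conj (hV (hB ha)) hv) (inv_mem hv))⟩
  exact ⟨ncl A α, ncl_le hB, (hL α hα).le_ncl hA.le h1, fun δ hδ v hv l hl =>
    (hK hl).2 v (le_iSup₂ (f := fun L (_ : L ∈ 𝓛) => VV L) δ hδ hv)⟩

theorem quiet {𝓛 : Set (Subgroup G)} (hL : ∀ L ∈ 𝓛, Ln B L)
    (hu : ∀ L ∈ 𝓛, ∀ L' ∈ 𝓛, VV L ≤ QQ L') (hα : α ∈ 𝓛) (hJ : ¬ JJ B ≤ QQ α)
    (hn : α ≤ Ns (⨆ L ∈ 𝓛, VV L)) (hδ : δ ∈ 𝓛) : α ≤ Ns (VV δ ⊔ VV α) := by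
  obtain ⟨N, h1, h2, h3⟩ := quiet_comm hL hu hα hJ hn
  refine h2.trans (sup_le (fun l hl => mem_normalizer_of_cj_le ?_)
    (le_Ns_sup ((hL δ hδ).le.trans (PU.le_norm_vv δ)) ((hL α hα).le.trans (PU.le_norm_vv α))))
  rw [cj_sup]
  refine sup_le (cj_le_iff.2 fun v hv => ?_) ((mem_Ns_iff.1 (PU.le_norm_vv α (h1 hl))).le.trans
    le_sup_right)
  have := mul_mem (mem_sup_right (S := VV δ) (h3 δ hδ v hv l hl)) (mem_sup_left hv)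
  simpa [commutatorElement_def] using this

theorem lk0 {B' δ' N : Subgroup G} (h : Ln B δ) (h' : Ln B' δ') (hz : ZD B)
    (hl : ¬ VV δ' ≤ QQ δ) (h1 : VV δ ≤ N) (h2 : VV δ' ≤ N) (h3 : N ≤ B) (h4 : N ≤ B')
    (h5 : δ ≤ Ns (N ⊓ QQ δ)) (hx : x ∈ N) (h6 : x * x = 1) : x ∈ QQ δ ∨ x ∈ QQ δ' := by
  have e1 : VV δ' ⊔ QQ δ = B := h'.vx.crit h.vx h'.syl h.syl (h2.trans h3) (h1.trans h4) hl
  have e2 : VV δ ⊔ QQ δ' = B' := h.vx.crit h'.vx h.syl h'.syl (h1.trans h4) (h2.trans h3)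
    (h.vx.not_le_symm h.syl (h2.trans h3) hl)
  have dec : ∀ y ∈ N ⊓ QQ δ, ∃ v ∈ VV δ, ∃ c ∈ N ⊓ QQ δ ⊓ QQ δ', v * c = y := fun y hy => by
    obtain ⟨v, hv, c, hc, rfl⟩ := PU.exists_mul_Q (p := 2) ((h1.trans h4).trans h'.le)
      (e2.ge (h4 hy.1))
    exact ⟨v, hv, c, ⟨(mul_mem_cancel_left (show v ∈ N ⊓ QQ δ from ⟨h1 hv, PU.vv_le δ hv⟩)).1 hy,
      hc⟩, rfl⟩
  obtain ⟨u, hu, t, ht, rfl⟩ := PU.exists_mul_Q (p := 2) ((h2.trans h3).trans h.le) (e1.ge (h3 hx))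
  obtain ⟨v, hv, c, hc, rfl⟩ := dec t ⟨(mul_mem_cancel_left (h2 hu)).1 hx, ht⟩
  have cu : u * c = c * u := mem_Cs.1 (PU.Q_le_cent δ' hc.2) u hu
  have cv : v * c = c * v := mem_Cs.1 (PU.Q_le_cent δ hc.1.2) v hv
  have e3 : ⁅u, v⁆ = (c * c)⁻¹ := by
    rw [commutatorElement_def, inv_eq_of_sq (VV_sq hu), inv_eq_of_sq (VV_sq hv),
      eq_inv_iff_mul_eq_one, ← h6]
    calc u * v * u * v * (c * c) = u * v * (u * (v * c)) * c := by group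
      _ = u * v * (u * c) * v * c := by rw [cv]; group
      _ = _ := by rw [cu]; group
  have hZ : c * c ∈ OZ B := by
    rw [← inv_mem_iff, ← e3, ← inv_mem_iff, commutatorElement_inv]
    exact h.comm_le (commutator_mem_commutator hv (h3 (h2 hu)))
  obtain ⟨g, hg, hn⟩ := h.exists_opp le_rfl le_sup_left
  have hZ' : c * c ∈ cj g (OZ B) := by
    obtain ⟨w, hw, d, hd, e⟩ := dec _ (mem_normalizer_conj' (h5 hg) hc.1)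
    have e4 : g⁻¹ * (c * c) * g = d * d := by
      have e5 : w * d = d * w := mem_Cs.1 (PU.Q_le_cent δ hd.1.2) w hw
      calc g⁻¹ * (c * c) * g = g⁻¹ * c * g * (g⁻¹ * c * g) := by group
        _ = w * (d * w) * d := by rw [← e]; group
        _ = w * w * (d * d) := by rw [← e5]; group
        _ = d * d := by rw [VV_sq hw, one_mul]
    have hV : g⁻¹ * (c * c) * g ∈ VV δ :=
      mem_normalizer_conj' (PU.le_norm_vv δ hg) (h.OZ_eq.le hZ).1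
    rw [mem_cj, h.OZ_eq]
    refine ⟨hV, ?_⟩
    have : B ≤ Cs (zpowers (g⁻¹ * (c * c) * g)) := by
      rw [← e1]
      refine sup_le (le_Cs_comm.1 (zpowers_le.2 ?_)) (le_Cs_comm.1 (zpowers_le.2 (PU.vv_le_cent δ hV)))
      rw [e4]
      exact PU.Q_le_cent δ' (mul_mem hd.2 hd.2)
    exact le_Cs_comm.1 this (mem_zpowers _)
  by_cases h7 : u ∈ QQ δ
  · exact Or.inl (mul_mem h7 ht)
  · have h8 := h.reg (h3 (h2 hu)) h7 hv (by rw [e3]; exact inv_mem (h.Z_inf hz hg hn ⟨hZ, hZ'⟩))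
    exact Or.inr (mul_mem (PU.vv_le δ' hu) (mul_mem ((h'.memQ (h4 (h1 hv))).2
      (Cs_anti (h2.trans h3) (h.OZ_eq.le h8).2)) hc.2))

theorem lk0_le {B' δ' N : Subgroup G} (h : Ln B δ) (h' : Ln B' δ') (hz : ZD B)
    (hl : ¬ VV δ' ≤ QQ δ) (h1 : VV δ ≤ N) (h2 : VV δ' ≤ N) (h3 : N ≤ B) (h4 : N ≤ B')
    (h5 : δ ≤ Ns (N ⊓ QQ δ)) (hA : A ≤ N) (h6 : ∀ a ∈ A, a * a = 1) : A ≤ QQ δ ∨ A ≤ QQ δ' := by
  have k : ∀ a ∈ A, a ∈ QQ δ ∨ a ∈ QQ δ' := fun a ha =>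
    lk0 h h' hz hl h1 h2 h3 h4 h5 (hA ha) (h6 a ha)
  refine or_iff_not_imp_left.2 fun h7 b hb => ?_
  obtain ⟨a, ha, h8⟩ := SetLike.not_le_iff_exists.1 h7
  by_contra h9
  rcases k _ (mul_mem ha hb) with e | e
  · exact h8 ((mul_mem_cancel_right ((k b hb).resolve_right h9)).1 e)
  · exact h9 ((mul_mem_cancel_left ((k a ha).resolve_left h8)).1 e)

end Cfsg.Lib.Bau
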