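import Cfsg.Agent.Bau.Q1c
import Cfsg.Agent.Bau.Am1
import Cfsg.Agent.Bau.Am2

set_option autoImplicit false
set_option linter.unusedSectionVars false

open scoped commutatorElement

namespace Cfsg.Lib.Bau

open Cfsg Subgroup Cfsg.Lib.Trans Cfsg.Lib.Trans.TJ Cfsg.Lib.Gold Cfsg.Lib.Gomi

universe u

variable {G : Type u} [Group G] [Finite G]
  {A A' B C E H J J' K L L' L₁ L₂ M P S S' T V V' W W' X α δ : Subgroup G}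
  {a b c d e g k n r r' s t t' u u' v w x x' y y' z z' : G}

theorem q1 (h : QS B α δ) : α ≤ Ns (VV α ⊔ VV δ) := by
  by_cases hle : VV δ ≤ VV α
  · rw [sup_eq_left.2 hle]; exact PU.le_norm_vv α
  obtain ⟨A, hA, h1, h2⟩ := q1a h hle
  obtain ⟨g, hg, hn, h3⟩ : ∃ g ∈ α, g ∉ Ns B ∧ cj g A ⊓ QQ α ≤ QQ δ := by
    by_contra! c
    exact q1c h hA h1 h2 c
  have eQ : cj g (QQ α) = QQ α := cj_eq_of_mem_normalizer (Local.le_normalizer_pCoreOf α hg)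
  have m := mx_cj (h.la.la hA h1).2.1 g
  rw [cj_sup, cj_inf, eQ, cj_eq_of_mem_normalizer (PU.le_norm_vv α hg)] at m
  have l := h.la.cj_mem hg
  have h4 := mx_le m (h.un'.trans l.Q_le) ((le_Cs_comm).1 (sup_le (h3.trans (PU.Q_le_cent δ))
    ((le_Cs_comm).1 (h.un'.trans (PU.Q_le_cent α))))) fun _ => VV_sq
  obtain ⟨a, ha, na⟩ := SetLike.not_le_iff_exists.1 h1
  have hs : g * a * g⁻¹ ∈ cj g A := conj_mem_cj.2 ha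
  have hs' := cj_mono g hA.le hs
  have hα := PU.le_norm_vv (p := 2) α (l.le hs')
  refine h.la.gen h.pt.zd hg hn hs' (fun c => na (conj_mem_cj.1 (eQ.ge c)))
    (h.ld.le.trans h.nm) (mem_normalizer_of_cj_le ?_)
  rw [cj_sup, cj_eq_of_mem_normalizer hα]
  refine sup_le le_sup_left (cj_le_iff.2 fun v hv => ?_)
  obtain ⟨b, hb, w, hw, rfl⟩ := (Solv.mem_sup_of_le_normalizer' (inf_le_right.trans
    ((PU.Q_le_cent α).trans Cs_le_Ns))).1 (h4 hv)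
  generalize g * a * g⁻¹ = s at hs hα
  rw [show s * (b * w) * s⁻¹ = b * w * (w⁻¹ * (s * w * s⁻¹)) by
    rw [← mul_assoc s, ← mx_cs (mx_cj hA g) hs b hb.1]; group]
  exact mul_mem (mem_sup_right hv) (mem_sup_left (mul_mem (inv_mem hw) ((mem_normalizer_iff.1 hα w).1 hw)))

theorem am5 {𝓛 : Set (Subgroup G)} (hp : Pt B) (hL : ∀ L ∈ 𝓛, Ln B L)
    (hn : ∀ n ∈ Ns B, ∀ L ∈ 𝓛, cj n L ∈ 𝓛) :
    (∃ L ∈ 𝓛, ∃ L' ∈ 𝓛, ¬ VV L ≤ QQ L') ∨ ∀ L ∈ 𝓛, L ≤ Ns (⨆ L' ∈ 𝓛, VV L') := by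
  by_contra! c
  obtain ⟨un, L₀, h0, n0⟩ := c
  generalize eW : ⨆ L' ∈ 𝓛, VV L' = W at n0
  have lW : ∀ L ∈ 𝓛, VV L ≤ W := fun L h => eW ▸ le_iSup₂ (f := fun L (_ : L ∈ 𝓛) => VV L) L h
  have nW : ∀ g, (∀ L ∈ 𝓛, cj g (VV L) ≤ W) → g ∈ Ns W := fun g h => mem_normalizer_of_cj_le
    (cj_le_iff_le_cj_inv.2 (eW.ge.trans (iSup₂_le fun L hL => cj_le_iff_le_cj_inv.1 (h L hL))))
  let 𝒱 : Set (Subgroup G) := {P | ∃ g, ∃ L ∈ 𝓛, ¬ L ≤ Ns W ∧ P = cj g L}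
  have k1 : ∀ P ∈ 𝒱, ∀ S, IsSylowIn 2 S P → ∃ g, S = cj g B ∧ ∃ L ∈ 𝓛, ¬ L ≤ Ns W ∧ P = cj g L := by
    rintro _ ⟨k, L, h1, h2, rfl⟩ S hS
    obtain ⟨x, hx, e⟩ := hS.exists_cj_eq ((hL L h1).cj k).syl
    exact ⟨x * k, by rw [cj_mul, e], L, h1, h2, by rw [cj_mul, cj_eq_of_mem hx]⟩
  have k2 : ∀ g, ∀ P ∈ 𝒱, IsSylowIn 2 (cj g B) P → ∃ L ∈ 𝓛, ¬ L ≤ Ns W ∧ P = cj g L := fun g P hP hS => by
    obtain ⟨k, e, L, h1, h2, rfl⟩ := k1 P hP _ hS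
    have m : g⁻¹ * k ∈ Ns B := mem_Ns_iff.2 (by rw [cj_mul, ← e, cj_inv_cj])
    refine ⟨_, hn _ m L h1, fun c => h2 ?_, by rw [cj_cj, mul_inv_cancel_left]⟩
    rwa [← mem_Ns_iff.1 (nW _ fun L h => VV_cj _ L ▸ lW _ (hn _ m L h)), ← cj_Ns, cj_le_cj] at c
  have am : Am 𝒱 := by
    refine ⟨?_, ?_, fun P hP S hS c => ?_⟩
    · rintro _ ⟨k, L, h1, h2, rfl⟩ g
      exact ⟨g * k, L, h1, h2, cj_cj ..⟩
    · rintro _ ⟨k, L, h1, h2, rfl⟩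
      exact (hL L h1).vx.cj k
    obtain ⟨g, rfl, L, h1, h2, rfl⟩ := k1 P hP S hS
    refine h2 fun l hl => nW l fun δ hδ => ?_
    by_cases q : δ ≤ Ns W
    · have := q1 ⟨hL L h1, hL δ hδ, hp, un L h1 δ hδ, un δ hδ L h1,
        quiet hL un hδ ((hL δ hδ).notJ hp) (eW ▸ q) h1⟩ hl
      exact ((cj_mono l le_sup_right).trans (mem_Ns_iff.1 this).le).trans (sup_le (lW L h1) (lW δ hδ))
    have e := mem_Ns_iff.1 (c (conj_mem_cj.2 hl))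
    have : PU.wf 2 𝒱 (cj g B) ≤ cj g W := PU.wf_le fun P hP hS => by
      obtain ⟨L', h3, -, rfl⟩ := k2 g P hP hS
      exact (VV_cj g L').le.trans (cj_mono g (lW L' h3))
    refine (cj_le_cj (g := g)).1 (le_trans ?_ (e.le.trans this))
    rw [cj_cj, show g * l = g * l * g⁻¹ * g by group, cj_mul, ← VV_cj, mul_inv_cancel_right]
    exact cj_mono _ (PU.le_wf (𝒱 := 𝒱) ⟨g, δ, hδ, q, rfl⟩ ((hL δ hδ).cj g).syl)
  obtain ⟨P, hP, P', hP', S, hS, hS', e⟩ := am1 am (am2 am ⟨1, L₀, h0, n0, (cj_one _).symm⟩ (hL _ h0).syl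
    ((hL _ h0).notJ hp) fun P hP S hS => (k1 P hP S hS).imp fun _ h => h.1)
  obtain ⟨g, rfl, L, h1, -, rfl⟩ := k1 P hP S hS
  obtain ⟨L', h2, -, rfl⟩ := k2 g P' hP' hS'
  exact e (by rw [VV_cj, QQ_cj]; exact cj_mono g (un L h1 L' h2))

end Cfsg.Lib.Bau
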