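import Cfsg.Agent.Bau.Basic

set_option autoImplicit false
set_option linter.unusedSectionVars false

open scoped commutatorElement

namespace Cfsg.Lib.Bau

open Cfsg Subgroup Cfsg.Lib.Trans Cfsg.Lib.Trans.TJ Cfsg.Lib.Gold Cfsg.Lib.Gomi

universe u

variable {G : Type u} [Group G] [Finite G]
  {A A' B C E H J J' K L L' L₁ L₂ M P S S' T V V' W W' X α δ : Subgroup G}
  {a b c d e g k n r r' s t t' u u' v w x x' y y' z z' : G}

namespace ApX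

omit [Finite G] in
theorem cs_sup (h1 : x ∈ Cs A) (h2 : x ∈ Cs B) : x ∈ Cs (A ⊔ B) :=
  mem_Cs.2 fun _ hu => mem_C1.1 ((sup_le (fun _ ha => mem_C1.2 (mem_Cs.1 h1 _ ha))
    (fun _ ha => mem_C1.2 (mem_Cs.1 h2 _ ha)) : A ⊔ B ≤ C1 x) hu)

theorem mx_cj_iff : Mx (cj g X) (cj g A) ↔ Mx X A :=
  ⟨fun h => by simpa only [cj_inv_cj] using mx_cj h g⁻¹, fun h => mx_cj h g⟩

theorem mx_cs' (h : Mx X A) (h1 : V ≤ A) : A ≤ Cs V := (mx_cs h).trans (Cs_anti h1)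

end ApX

open ApX

theorem AP.symm (h : AP J V W) : AP J W V :=
  ⟨h.pg, h.jj, (inf_comm _ _).trans h.inf, h.lW, h.lV, h.nW, h.nV, fun A hA => (h.cov A hA).symm,
    fun w hw v hv e => (h.reg v hv w hw e.symm).symm, h.swW, h.swV, h.nge, h.nle⟩

theorem AP.cj (h : AP J V W) (g : G) : AP (cj g J) (cj g V) (cj g W) := by
  have s : ∀ {V W : Subgroup G}, AP J V W → ∀ A, Mx (Trans.cj g J) A → Trans.cj g V ≤ A →
      A ≤ Trans.cj g V ⊔ (A ⊓ Cs (Trans.cj g W)) ∧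
        Mx (Trans.cj g J) (Trans.cj g W ⊔ (A ⊓ Cs (Trans.cj g W))) := fun h A hA h1 => by
    obtain ⟨A, rfl⟩ := cj_surj g A
    rw [← cj_Cs, ← cj_inf, ← cj_sup, ← cj_sup, cj_le_cj, mx_cj_iff]
    exact h.swV A (mx_cj_iff.1 hA) (cj_le_cj.1 h1)
  refine ⟨isPGroup_cj h.pg g, by rw [JJ_cj, h.jj], by rw [← cj_inf, h.inf, OZ_cj], cj_mono g h.lV,
    cj_mono g h.lW, cj_Ns g V ▸ cj_mono g h.nV, cj_Ns g W ▸ cj_mono g h.nW, fun A hA => ?_,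
    fun v hv w hw e => ?_, s h, s h.symm, mt cj_le_cj.1 h.nle, mt cj_le_cj.1 h.nge⟩
  · obtain ⟨A, rfl⟩ := cj_surj g A
    exact (h.cov A (mx_cj_iff.1 hA)).imp (cj_mono g) (cj_mono g)
  · rw [mem_cj] at hv hw
    rw [mem_cj, mem_cj]
    exact h.reg _ hv _ hw (by simp only [mul_assoc, mul_inv_cancel_left, mul_right_inj]; rw [← mul_assoc, e, mul_assoc])

theorem AP.cj_ns (h : AP J V W) (hg : g ∈ Ns J) : AP J (Trans.cj g V) (Trans.cj g W) := by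
  have := h.cj g
  rwa [mem_Ns_iff.1 hg] at this

theorem AP.exists_mx (h : AP J V W) : ∃ A, Mx J A ∧ V ≤ A := by
  obtain ⟨A, hA⟩ := exists_maxEA 2 J
  rcases h.cov A hA with k | k
  exacts [⟨A, hA, k⟩, ⟨_, (h.swW A hA k).2, le_sup_left⟩]

theorem AP.sq (h : AP J V W) (hv : v ∈ V) : v * v = 1 :=
  h.exists_mx.elim fun _ k => mx_sq k.1 (k.2 hv)

theorem AP.cs (h : AP J V W) : V ≤ Cs V := le_Cs_of_sq (fun _ => h.sq) le_rfl

theorem AP.ab (h : AP J V W) : AB V W := by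
  refine ⟨fun _ => h.sq, fun _ => h.symm.sq, h.lW.trans h.nV, h.lV.trans h.nW, fun s hs e => ?_, h.nle, h.nge⟩
  obtain ⟨v, hv, w, hw, rfl⟩ := (Solv.mem_sup_of_le_normalizer (h.lW.trans h.nV)).1 hs
  refine (h.reg v hv w hw ?_).symm.imp (V.mul_mem hv) fun k => W.mul_mem k hw
  rw [← inv_eq_of_sq e, mul_inv_rev, inv_eq_of_sq (h.sq hv), inv_eq_of_sq (h.symm.sq hw)]

theorem AP.mem_of_cs (h : AP J V W) (hv : v ∈ V) (h1 : v ∈ Cs W) : v ∈ W := by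
  obtain ⟨w, hw, k⟩ := SetLike.not_le_iff_exists.1 h.nge
  exact (h.reg v hv w hw (mem_Cs.1 h1 w hw).symm).resolve_right k

theorem AP.not_cs (h : AP J V W) : ¬ V ≤ Cs W := fun k => h.nle fun _ hv => h.mem_of_cs hv (k hv)

theorem AP.not_both (h : AP J V W) (hA : Mx J A) (h1 : V ≤ A) : ¬ W ≤ A := fun k =>
  h.not_cs (h1.trans (mx_cs' hA k))

theorem AP.mx_C (h : AP J V W) : Mx (J ⊓ Cs V) A ↔ Mx J A ∧ V ≤ A := by
  obtain ⟨B, hB, k⟩ := h.exists_mx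
  rw [mx_up hB (le_inf hB.le (mx_cs' hB k)) inf_le_left]
  exact and_congr_right fun hA => ⟨fun e => mx_le hA h.lV (le_Cs_comm.1 (e.trans inf_le_right)) fun _ => h.sq,
    fun e => le_inf hA.le (mx_cs' hA e)⟩

theorem AP.dec (h : AP J V W) (hA : Mx J A) (h1 : V ≤ A) (ha : a ∈ A) :
    ∃ v ∈ V, ∃ c ∈ A ⊓ Cs W, v * c = a :=
  (Solv.mem_sup_of_le_normalizer (inf_le_left.trans (hA.le.trans h.nV))).1 ((h.swV A hA h1).1 ha)

theorem AP.mem_OZ (h : AP J V W) : x ∈ V ⊓ W ↔ ∀ A, Mx J A → x ∈ A := by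
  rw [h.inf, ← mem_OZ_J, h.jj]

theorem AP.mem_of_all (h : AP J V W) (hx : ∀ A, Mx J A → V ≤ A → x ∈ A) : x ∈ V := by
  obtain ⟨B, hB, k⟩ := h.exists_mx
  obtain ⟨v, hv, c, hc, rfl⟩ := h.dec hB k (hx B hB k)
  have e : ∀ A, Mx J A → V ≤ A → c ∈ A := fun A hA k => (A.mul_mem_cancel_left (k hv)).1 (hx A hA k)
  refine V.mul_mem hv (h.mem_OZ.2 fun A hA => (h.cov A hA).elim (e A hA) fun k => ?_).1
  obtain ⟨h1, h2⟩ := h.swW A hA k
  exact mx_mem hA (hB.le hc.1) (Cs_anti h1 (cs_sup hc.2 (mx_cs' h2 le_sup_right (e _ h2 le_sup_left))))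
    (mx_sq hB hc.1)

theorem AP.OZ_YY (h : AP J V W) : OZ (YY J V) = V := by
  ext x
  rw [mem_OZ_J]
  exact ⟨fun k => h.mem_of_all fun A h1 h2 => k A (h.mx_C.2 ⟨h1, h2⟩), fun k A hA => (h.mx_C.1 hA).2 k⟩

theorem AP.OZ_C (h : AP J V W) : OZ (J ⊓ Cs V) = V :=
  le_antisymm (OZ_le_OZ_J.trans h.OZ_YY.le) fun _ hv =>
    Bau.mem_OZ.2 ⟨⟨h.lV hv, h.cs hv⟩, le_Cs_comm.1 inf_le_right hv, h.sq hv⟩

theorem AP.mx_le_YY (h : AP J V W) (hA : Mx J A) (h1 : V ≤ A) : A ≤ YY J V := mx_le_J (h.mx_C.2 ⟨hA, h1⟩)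

theorem AP.V_le_YY (h : AP J V W) : V ≤ YY J V :=
  h.exists_mx.elim fun _ k => k.2.trans (h.mx_le_YY k.1 k.2)

theorem AP.YY_le (h : AP J V W) : YY J V ≤ V ⊔ YY J V ⊓ Cs W := JJ_le_of fun A hA =>
  have k := h.mx_C.1 hA
  (h.swV A k.1 k.2).1.trans (sup_le_sup_left (inf_le_inf_right _ (mx_le_J hA)) _)

theorem AP.comm_YY (h : AP J V W) : ⁅YY J V, W⁆ ≤ V := commutator_le.2 fun y hy w hw => by
  obtain ⟨v, hv, c, hc, rfl⟩ := (Solv.mem_sup_of_le_normalizer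
    (inf_le_left.trans (JJ_le.trans (inf_le_left.trans h.nV)))).1 (h.YY_le hy)
  have := V.mul_mem hv (mem_normalizer_conj (h.nV (h.lW hw)) (V.inv_mem hv))
  convert this using 1
  rw [commutatorElement_def, mul_assoc v c w, ← mem_Cs.1 hc.2 w hw]; group

theorem AP.inf_le_YY' (h : AP J V W) (hA : Mx J A) : A ⊓ Cs V ≤ YY J V :=
  (h.cov A hA).elim (fun k => inf_le_left.trans (h.mx_le_YY hA k)) fun k =>
    le_sup_right.trans (h.mx_le_YY (h.swW A hA k).2 le_sup_left)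

theorem AP.inf_le_YY (h : AP J V W) (hA : Mx J A) : A ⊓ Cs V ⊓ Cs W ≤ YY J V :=
  inf_le_left.trans (h.inf_le_YY' hA)

theorem AP.J_le (h : AP J V W) : J ≤ V ⊔ W ⊔ YY J V ⊓ Cs W := h.jj.ge.trans (JJ_le_of fun A hA =>
  (h.cov A hA).elim (fun k => (h.mx_le_YY hA k).trans (h.YY_le.trans (sup_le_sup_right le_sup_left _)))
    fun k => (h.swW A hA k).1.trans (sup_le_sup le_sup_right
      (le_inf (h.inf_le_YY' hA) (inf_le_left.trans (mx_cs' hA k)))))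

theorem AP.idx (h : AP J V W) (hA : Mx J A) (h1 : V ≤ A) : (Cs W).relIndex A = W.relIndex V := by
  have e : A ⊓ Cs W ⊔ V = A := le_antisymm (sup_le inf_le_left h1) (sup_comm V _ ▸ (h.swV A hA h1).1)
  have e2 : V ⊓ (A ⊓ Cs W) = V ⊓ W := le_antisymm (fun v hv => ⟨hv.1, h.mem_of_cs hv.1 hv.2.2⟩)
    fun v hv => ⟨hv.1, h1 hv.1, h.symm.cs hv.2⟩
  have := Solv.Coprime.relIndex_sup_of_le_normalizer (K := A ⊓ Cs W)
    (h1.trans ((mx_cs' hA inf_le_left).trans Cs_le_Ns))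
  rw [e, inf_relIndex_left, ← inf_relIndex_left V, e2, inf_relIndex_left] at this
  exact this

namespace ApX

theorem l0 (h : AP J V W) (h' : AP J V' W') (hA : Mx J A) (h1 : V ≤ A) (h2 : V' ≤ A) (hc : V ≤ Cs W') :
    V' ≤ Cs W := by
  have hB := (h.swV A hA h1).2
  refine (h'.cov _ hB).elim (fun k => k.trans (mx_cs' hB le_sup_left)) fun k => (h'.nge fun x hx => ?_).elim
  obtain ⟨w, hw, a, ha, rfl⟩ := (Solv.mem_sup_of_le_normalizer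
    (inf_le_left.trans (hA.le.trans h.nW))).1 (k hx)
  have := h.symm.mem_of_cs hw (((Cs V).mul_mem_cancel_right (mx_cs' hA h1 ha.1)).1 (le_Cs_comm.1 hc hx))
  exact h'.symm.mem_of_cs hx (mx_cs' hA h2 (A.mul_mem (h1 this) ha.1))

theorem l1 (h : AP J V W) (h' : AP J V' W') (h1 : V ≤ Cs V') (h2 : V ≤ Cs W') :
    V' ⊔ W' ≤ Cs V ⊓ Cs W := by
  obtain ⟨A, hA, k⟩ := h.exists_mx
  have e : ∀ {V' W' : Subgroup G}, AP J V' W' → V ≤ Cs V' → V ≤ Cs W' → V' ≤ A → V' ⊔ W' ≤ Cs W :=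
    fun h' h1 h2 k' => sup_le (l0 h h' hA k k' h2)
      (l0 h h'.symm (h'.swV A hA k').2 ((le_inf k h2).trans le_sup_right) le_sup_left h1)
  exact le_inf (sup_le (le_Cs_comm.1 h1) (le_Cs_comm.1 h2))
    ((h'.cov A hA).elim (e h' h1 h2) fun k' => sup_comm V' W' ▸ e h'.symm h2 h1 k')

theorem l2 (h : AP J V W) (h' : AP J V' W') (n2 : ¬ W ≤ Cs V') : V ≤ V' := fun _ hv =>
  h'.mem_of_all fun A hA k => (h.cov A hA).resolve_right (fun e => n2 (e.trans (mx_cs' hA k))) hv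

theorem l4 (h : AP J V W) (h' : AP J V' W') (h1 : V ≤ Cs V') :
    (V' = V ∧ W' = W) ∨ V' ⊔ W' ≤ Cs V ⊓ Cs W := by
  by_cases n1 : V ≤ Cs W'
  · exact Or.inr (l1 h h' h1 n1)
  have n2 : ¬ W ≤ Cs V' := fun k =>
    n1 (le_sup_left.trans ((l1 h' h (le_Cs_comm.1 h1) (le_Cs_comm.1 k)).trans inf_le_right))
  exact Or.inl ⟨le_antisymm (l2 h' h (mt le_Cs_comm.1 n1)) (l2 h h' n2),
    le_antisymm (l2 h'.symm h.symm (mt le_Cs_comm.1 n2)) (l2 h.symm h'.symm n1)⟩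

end ApX

theorem ap1 (h : AP J V W) (h' : AP J V' W') :
    (V' = V ∧ W' = W) ∨ (V' = W ∧ W' = V) ∨ V' ⊔ W' ≤ Cs V ⊓ Cs W := by
  obtain ⟨A, hA, k⟩ := h.exists_mx
  rcases h'.cov A hA with e | e
  · exact (l4 h h' (k.trans (mx_cs' hA e))).imp_right Or.inr
  · exact Or.inr ((l4 h h'.symm (k.trans (mx_cs' hA e))).imp And.symm fun c => sup_comm V' W' ▸ c)

theorem AP.eq_of_eq (h : AP J V W) (h' : AP J V W') : W' = W := by
  rcases ap1 h h' with e | e | e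
  exacts [e.2, (h.nle e.1.le).elim, (h.not_cs (le_sup_left.trans (e.trans inf_le_right))).elim]

theorem AP.ns (h : AP J V W) (h1 : g ∈ Ns J) (h2 : g ∈ Ns V) : g ∈ Ns W := by
  have := h.cj_ns h1
  rw [mem_Ns_iff.1 h2] at this
  exact mem_Ns_iff.2 (h.eq_of_eq this)

theorem AP.le_YY (h : AP J V W) (h' : AP J V' W') (hc : V' ⊔ W' ≤ Cs V ⊓ Cs W) :
    V' ⊔ W' ≤ YY J V := by
  have e : ∀ {V' W' : Subgroup G}, AP J V' W' → V' ≤ Cs V → V' ≤ YY J V := fun h' k =>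
    h'.exists_mx.elim fun _ c => (le_inf c.2 k).trans (h.inf_le_YY' c.1)
  exact sup_le (e h' (le_sup_left.trans (hc.trans inf_le_left)))
    (e h'.symm (le_sup_right.trans (hc.trans inf_le_left)))

theorem AP.sub (h : AP J V W) (hJ : JJ J' = J') (hm : ∀ A, Mx J' A ↔ Mx J A ∧ A ≤ T)
    (h1 : V ≤ T) (h2 : W ≤ T) : AP J' (V ⊔ OZ J') (W ⊔ OZ J') ∧ OZ J' ≤ Cs V ⊓ Cs W := by
  have hle : J' ≤ J := hJ.ge.trans (JJ_le_of fun A hA => ((hm A).1 hA).1.le)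
  have hZ : ∀ {x}, x ∈ OZ J' ↔ ∀ A, Mx J' A → x ∈ A := by intro x; rw [← mem_OZ_J, hJ]
  have zA : ∀ {A}, Mx J' A → OZ J' ≤ A := fun hA _ hx => hZ.1 hx _ hA
  have zc : J' ≤ Cs (OZ J') := le_Cs_comm.1 fun _ hx => (Bau.mem_OZ.1 hx).2.1
  have sw : ∀ {V W : Subgroup G}, AP J V W → W ≤ T → ∀ {A}, Mx J' A → V ≤ A → Mx J' (W ⊔ (A ⊓ Cs W)) :=
    fun h h2 A hA k => (hm _).2 ⟨(h.swV A ((hm A).1 hA).1 k).2, sup_le h2 (inf_le_left.trans ((hm A).1 hA).2)⟩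
  have lv : ∀ {V W : Subgroup G}, AP J V W → V ≤ T → V ≤ J' := fun h h1 => by
    obtain ⟨A, hA⟩ := exists_maxEA 2 J'
    exact (h.cov A ((hm A).1 hA).1).elim (fun k => k.trans hA.le) fun k =>
      le_sup_left.trans (sw h.symm h1 hA k).le
  have cv : ∀ {V W : Subgroup G}, AP J V W → V ≤ T → OZ J' ≤ Cs V := fun h h1 =>
    le_Cs_comm.1 ((lv h h1).trans zc)
  have dc : ∀ {V W : Subgroup G}, AP J V W → V ≤ T → ∀ {x}, x ∈ V ⊔ OZ J' → ∃ v ∈ V, ∃ z ∈ OZ J', v * z = x :=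
    fun h h1 _ hx => (Solv.mem_sup_of_le_normalizer ((cv h h1).trans Cs_le_Ns)).1 hx
  have s : ∀ {V W : Subgroup G}, AP J V W → W ≤ T → ∀ A, Mx J' A → V ⊔ OZ J' ≤ A →
      A ≤ (V ⊔ OZ J') ⊔ (A ⊓ Cs (W ⊔ OZ J')) ∧ Mx J' ((W ⊔ OZ J') ⊔ (A ⊓ Cs (W ⊔ OZ J'))) := by
    intro V W h h2 A hA k
    have e : A ⊓ Cs (W ⊔ OZ J') = A ⊓ Cs W := le_antisymm (inf_le_inf_left _ (Cs_anti le_sup_left))
      fun a ha => ⟨ha.1, cs_sup ha.2 (zc (hA.le ha.1))⟩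
    rw [e, sup_assoc W, sup_eq_right.2 (le_inf (zA hA) (cv h.symm h2))]
    exact ⟨(h.swV A ((hm A).1 hA).1 (le_sup_left.trans k)).1.trans (sup_le_sup_right le_sup_left _),
      sw h h2 hA (le_sup_left.trans k)⟩
  have zl : OZ J' ≤ J' := fun _ hx => (Bau.mem_OZ.1 hx).1
  have c1 := sup_le h.cs (cv h h1)
  have c2 := sup_le h.symm.cs (cv h.symm h2)
  refine ⟨⟨h.pg.to_le hle, hJ, le_antisymm (fun x hx => ?_) (le_inf le_sup_right le_sup_right),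
    sup_le (lv h h1) zl, sup_le (lv h.symm h2) zl, le_Ns_sup (hle.trans h.nV) (zc.trans Cs_le_Ns),
    le_Ns_sup (hle.trans h.nW) (zc.trans Cs_le_Ns), fun A hA => (h.cov A ((hm A).1 hA).1).imp
      (fun k => sup_le k (zA hA)) fun k => sup_le k (zA hA), fun x hx y hy e => ?_, s h h2, s h.symm h1,
    fun k => h.not_cs (le_sup_left.trans (k.trans c2)),
    fun k => h.symm.not_cs (le_sup_left.trans (k.trans c1))⟩, le_inf (cv h h1) (cv h.symm h2)⟩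
  · obtain ⟨v, hv, z, hz, rfl⟩ := dc h h1 hx.1
    exact mul_mem (hZ.2 fun A hA => h.mem_OZ.1 ⟨hv, h.mem_of_cs hv
      (((Cs W).mul_mem_cancel_right (cv h.symm h2 hz)).1 (c2 hx.2))⟩ A ((hm A).1 hA).1) hz
  · obtain ⟨v, hv, z, hz, rfl⟩ := dc h h1 hx
    obtain ⟨w, hw, z', hz', rfl⟩ := dc h.symm h2 hy
    refine (h.reg v hv w hw ?_).imp (fun k => mul_mem_sup k hz) fun k => mul_mem_sup k hz'
    rwa [mul_assoc, ← mul_assoc z, mem_Cs.1 (zc (lv h.symm h2 hw)) z hz, mul_assoc w z', ← mul_assoc z',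
      mem_Cs.1 (zc (lv h h1 hv)) z' hz', mul_assoc v z', mem_Cs.1 (zc (zl hz)) z' hz', mul_assoc w,
      ← mul_assoc, ← mul_assoc w, mul_left_inj] at e

end Cfsg.Lib.Bau
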