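import Cfsg.Agent.Bau.Defs
import Cfsg.Agent.Solv.FrattiniP

set_option autoImplicit false
set_option linter.unusedSectionVars false

open scoped commutatorElement

namespace Cfsg.Lib.Bau

open Cfsg Subgroup Cfsg.Lib.Trans Cfsg.Lib.Trans.TJ Cfsg.Lib.Gold Cfsg.Lib.Gomi

universe u

variable {G : Type u} [Group G] [Finite G]
  {A A' B C E H J J' K L L' L₁ L₂ M P S S' T V V' W W' X α δ : Subgroup G}
  {a b c d e g k n r r' s t t' u u' v w x x' y y' z z' : G}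

theorem TC.cj (h : TC d S) (g : G) : TC (g * d * g⁻¹) (cj g S) := by
  refine ⟨fun e => h.ne ?_, ?_, ?_, ?_, ?_⟩
  · have : d = g⁻¹ * (g * d * g⁻¹) * g := by group
    rw [this, e]; group
  · have : g * d * g⁻¹ * (g * d * g⁻¹) = g * (d * d) * g⁻¹ := by group
    rw [this, h.sq]; group
  · have := h.syl.cj g
    rwa [cj_top] at this
  · rw [← cj_C1]; exact cj_mono g h.le
  · rw [← cj_C1]; exact (cj_mono g h.nm).trans (cj_normalizer g S).le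

theorem DD.cj (h : DD d) (g : G) : DD (g * d * g⁻¹) := by
  obtain ⟨S, h⟩ := h
  exact ⟨_, h.cj g⟩

theorem ZD.cj (h : ZD X) (g : G) : ZD (cj g X) := by
  obtain ⟨d, h1, h2, h3⟩ := h
  exact ⟨_, conj_mem_cj.2 h1, h2.cj g, by rw [← cj_C1]; exact cj_mono g h3⟩

theorem Pt.cj (h : Pt B) (g : G) : Pt (cj g B) := by
  refine ⟨h.zd.cj g, ?_⟩
  exact (map_bau (MulAut.conj g).injective B).symm.trans (congrArg _ h.bb)

theorem TC.dd (h : TC d S) : DD d := by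
  exact ⟨S, h⟩

theorem TC.pg (h : TC d S) : IsPGroup 2 S := by
  exact h.syl.isPGroup

theorem TC.le_of (h : TC d S) (hP : IsPGroup 2 P) (h1 : P ≤ C1 d) : P ≤ S := by
  have h2 : IsPGroup 2 (P ⊔ S : Subgroup G) := hP.to_sup_of_normal_right' h.pg (h1.trans h.nm)
  rw [← h.syl.eq_of_le h2 le_sup_right le_top]
  exact le_sup_left

theorem TC.mem_of (h : TC d S) {m : ℕ} (hx : x ^ 2 ^ m = 1) (h1 : x ∈ C1 d) : x ∈ S := by
  refine h.le_of (P := zpowers x) ?_ (zpowers_le.2 h1) (mem_zpowers x)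
  rintro ⟨_, k, rfl⟩
  refine ⟨m, Subtype.ext ?_⟩
  change (x ^ k) ^ 2 ^ m = 1
  rw [← zpow_natCast, ← zpow_mul, mul_comm, zpow_mul, zpow_natCast, hx, one_zpow]

theorem TC.mem_of_sq (h : TC d S) (hx : x * x = 1) (h1 : x ∈ C1 d) : x ∈ S := by
  exact h.mem_of (m := 1) (by rw [pow_one, pow_two, hx]) h1

theorem TC.mem_of_pg (h : TC d S) (hP : IsPGroup 2 P) (hx : x ∈ P) (h1 : x ∈ C1 d) : x ∈ S := by
  obtain ⟨m, hm⟩ := hP ⟨x, hx⟩
  exact h.mem_of (m := m) (congrArg Subtype.val hm) h1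

theorem TC.mem (h : TC d S) : d ∈ S := by
  exact h.mem_of_sq h.sq (mem_C1.2 rfl)

theorem TC.uniq (h : TC d S) (h' : TC d S') : S = S' := by
  exact le_antisymm (h'.le_of h.pg h.le) (h.le_of h'.pg h'.le)

theorem TC.exists_cj (h : TC d S) (h' : TC e S') : ∃ g, Trans.cj g S' = S := by
  obtain ⟨g, -, hg⟩ := h.syl.exists_cj_eq h'.syl
  exact ⟨g, hg⟩

theorem TC.ns_inf (h : TC d S) (hd : d ∈ X) : Ns X ≤ Ns (S ⊓ Cs X) := by
  intro n hn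
  have h1 : Trans.cj n (S ⊓ Cs X) ≤ Cs X := (cj_mono n inf_le_right).trans
    (cj_eq_of_mem_normalizer (normalizer_le_normalizer_centralizer X hn)).le
  exact mem_normalizer_of_cj_le (le_inf (h.le_of (isPGroup_cj h.pg.to_inf_left n)
    (h1.trans (Cs_le_C1 hd))) h1)

theorem TC.comm_mem (h : TC d S) (hd : d ∈ X) (hs : s ∈ S) (h1 : s ∈ Ns X) (hc : c ∈ Cs X) :
    ⁅s, c⁆ ∈ S ⊓ Cs X := by
  refine mem_inf.2 ⟨?_, ?_⟩
  · have := mul_mem hs (mem_normalizer_conj (h.nm (Cs_le_C1 hd hc)) (inv_mem hs))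
    simpa [commutatorElement_def, mul_assoc] using this
  · exact mul_mem (mem_normalizer_conj (normalizer_le_normalizer_centralizer X h1) hc) (inv_mem hc)

theorem TC.one_class (h : TC t S) (h1 : ∀ e, TC e S → IsConj t e) (hd : DD d) : IsConj t d := by
  obtain ⟨S', h'⟩ := hd
  obtain ⟨g, hg⟩ := h.exists_cj h'
  exact (h1 _ (hg ▸ h'.cj g)).trans (isConj_iff.2 ⟨g, rfl⟩).symm

theorem mem_OZ : x ∈ OZ X ↔ x ∈ X ∧ x ∈ Cs X ∧ x * x = 1 := by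
  rw [mem_omegaOne_center_iff, pow_two]

theorem mem_BB : x ∈ BB X ↔ x ∈ X ∧ x ∈ Cs (OZ (JJ X)) := by
  exact Iff.rfl

theorem mx_sq (h : Mx X A) (ha : a ∈ A) : a * a = 1 := by
  rw [← pow_two]; exact ea_pow h.ea ha

theorem mx_cs (h : Mx X A) : A ≤ Cs A := by
  exact ea_le_centralizer h.ea

theorem mx_mem (h : Mx X A) (hx : x ∈ X) (h1 : x ∈ Cs A) (h2 : x * x = 1) : x ∈ A := by
  exact h.mem_of_mem_centralizer hx h1 (by rw [pow_two, h2])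

theorem mx_le (h : Mx X A) (hW : W ≤ X) (h1 : W ≤ Cs A) (h2 : ∀ w ∈ W, w * w = 1) : W ≤ A := by
  exact fun w hw => mx_mem h (hW hw) (h1 hw) (h2 w hw)

theorem mx_le_J (h : Mx X A) : A ≤ JJ X := by
  exact h.le_J

theorem mx_cj (h : Mx X A) (g : G) : Mx (cj g X) (cj g A) := by
  exact h.map (MulAut.conj g).injective

theorem mx_of_J_le (h1 : JJ X ≤ P) (h2 : P ≤ X) : Mx P A ↔ Mx X A := by
  obtain ⟨A₀, h0⟩ := exists_maxEA 2 X
  exact ⟨fun h => h0.up (h0.le_J.trans h1) h2 h, fun h => h.of_le (h.le_J.trans h1) h2⟩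

theorem mx_J : Mx (JJ X) A ↔ Mx X A := by
  exact mx_of_J_le le_rfl (J_le X)

theorem mx_of_JJ_eq (h : JJ P = JJ X) : Mx P A ↔ Mx X A := by
  rw [← mx_J (X := P), h, mx_J]

theorem mx_up (h : Mx X A) (h1 : A ≤ P) (h2 : P ≤ X) : Mx P A' ↔ Mx X A' ∧ A' ≤ P := by
  exact ⟨fun h' => ⟨h.up h1 h2 h', h'.le⟩, fun h' => h'.1.of_le h'.2 h2⟩

theorem JJ_le_of (h : ∀ A, Mx X A → A ≤ K) : JJ X ≤ K := by
  exact J_le_iff.2 h

theorem JJ_le : JJ X ≤ X := by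
  exact J_le X

theorem JJ_JJ : JJ (JJ X) = JJ X := by
  exact J_eq_of_le le_rfl (J_le X)

theorem JJ_BB : JJ (BB X) = JJ X := by
  exact J_eq_of_le (J_le_bau X) (bau_le X)

theorem JJ_cj (g : G) (X : Subgroup G) : JJ (cj g X) = cj g (JJ X) := by
  exact (map_J X (MulAut.conj g).injective).symm

theorem BB_cj (g : G) (X : Subgroup G) : BB (cj g X) = cj g (BB X) := by
  exact (map_bau (MulAut.conj g).injective X).symm

theorem OZ_cj (g : G) (X : Subgroup G) : OZ (cj g X) = cj g (OZ X) := by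
  exact (map_omegaOne_center_of_injOn X
    (inf_ker_eq_bot_of_injective X (MulAut.conj g).injective)).symm

theorem ns_le_JJ : Ns X ≤ Ns (JJ X) := by
  exact normalizer_le_normalizer_J X

theorem ns_le_OZ : Ns X ≤ Ns (OZ X) := by
  exact normalizer_le_normalizer_omegaOne_center X

theorem ns_BB_le : Ns (BB X) ≤ Ns (JJ X) := by
  rw [← JJ_BB]; exact ns_le_JJ

theorem mem_OZ_J : x ∈ OZ (JJ X) ↔ ∀ A, Mx X A → x ∈ A := by
  refine ⟨fun h A hA => hA.omegaOne_center_J_le h, fun h => ?_⟩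
  obtain ⟨A₀, h0⟩ := exists_maxEA 2 X
  refine mem_OZ.2 ⟨h0.le_J (h _ h0), ?_, mx_sq h0 (h _ h0)⟩
  have : JJ X ≤ C1 x := JJ_le_of fun A hA => (mx_cs hA).trans (Cs_le_C1 (h A hA))
  exact mem_Cs.2 fun u hu => mem_C1.1 (this hu)

theorem OZ_le_OZ_J : OZ X ≤ OZ (JJ X) := by
  exact omegaOne_center_le_omegaOne_center_J X

theorem Pt.OZ_J (h : Pt B) : OZ (JJ B) = OZ B := by
  refine le_antisymm (fun x hx => ?_) OZ_le_OZ_J
  obtain ⟨h1, -, h3⟩ := mem_OZ.1 hx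
  refine mem_OZ.2 ⟨JJ_le h1, mem_Cs.2 fun u hu => ?_, h3⟩
  rw [← h.bb] at hu
  exact (mem_Cs.1 (mem_BB.1 hu).2 x hx).symm

theorem JJ_eq_of_syl (hS : IsSylowIn 2 S ⊤) (hP : IsPGroup 2 P) (h : JJ S ≤ P) : JJ P = JJ S := by
  obtain ⟨g, -, hg⟩ := hS.exists_cj_le hP le_top
  have hT : P ≤ cj g⁻¹ S := cj_le_iff_le_cj_inv.1 hg
  have h1 : JJ S ≤ JJ (cj g⁻¹ S) := JJ_le_of fun A hA =>
    ((mx_cj hA g⁻¹).of_card_le (hA.le_J.trans (h.trans hT)) hA.ea (card_cj _ _).le).le_J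
  have h2 : JJ S = JJ (cj g⁻¹ S) := eq_of_le_of_card_ge h1 (by rw [JJ_cj, card_cj])
  rw [h2] at h ⊢
  exact J_eq_of_le h hT

theorem jn (hP : IsPGroup 2 P) (h : J ≤ P) (e : JJ (P ⊓ Ns J) = J) : JJ P = J := by
  rcases (inf_le_left : P ⊓ Ns J ≤ P).eq_or_lt with h1 | h1
  · rwa [h1] at e
  · have h2 := lt_inf_normalizer hP h1
    have h3 : Ns (P ⊓ Ns J) ≤ Ns J := by
      conv_rhs => rw [← e]
      exact ns_le_JJ
    exact absurd (inf_le_inf_left P h3) h2.not_ge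

theorem exists_mx_not_le (hP : IsPGroup 2 P) (h : J ≤ P) (hJ : JJ J = J) (hne : JJ P ≠ J) :
    ∃ A, Mx (P ⊓ Ns J) A ∧ ¬ A ≤ J := by
  by_contra hc
  push Not at hc
  have h1 := J_eq_of_le (JJ_le_of hc) (le_inf h le_normalizer)
  exact hne (jn hP h (h1.symm.trans hJ))

theorem TC.mem_OZ (h : TC d S) (hX : X ≤ S) (hd : d ∈ X) : d ∈ OZ X := by
  exact Bau.mem_OZ.2 ⟨hd, mem_Cs.2 fun u hu => mem_C1.1 (h.le (hX hu)), h.sq⟩

theorem TC.mem_OZ_J (h : TC d S) : d ∈ OZ (JJ S) := by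
  exact OZ_le_OZ_J (h.mem_OZ le_rfl h.mem)

theorem TC.zd (h : TC d S) (hX : X ≤ S) (hd : d ∈ X) : ZD X := by
  exact ⟨d, hd, h.dd, hX.trans h.le⟩

theorem TC.BB_eq (h : TC d S) (h' : TC e S') (e : JJ S = JJ S') : BB S = BB S' := by
  have key : ∀ {d e : G} {S S' : Subgroup G}, TC d S → TC e S' → JJ S = JJ S' → BB S ≤ BB S' := by
    intro d e S S' h h' he x hx
    obtain ⟨h1, h2⟩ := mem_BB.1 hx
    rw [he] at h2
    exact mem_BB.2 ⟨h'.mem_of_pg h.pg h1 (Cs_le_C1 h'.mem_OZ_J h2), h2⟩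
  exact le_antisymm (key h h' e) (key h' h e.symm)

theorem TC.ns_JJ_le (h : TC d S) : Ns (JJ S) ≤ Ns (BB S) := by
  exact ns_le_OZ.trans (h.ns_inf h.mem_OZ_J)

theorem TC.pt_BB (h : TC d S) (hP : P ≤ S) (hd : d ∈ P) : Pt (BB P) ∧ d ∈ JJ P := by
  have h1 : d ∈ JJ P := (Bau.mem_OZ.1 (OZ_le_OZ_J (h.mem_OZ hP hd))).1
  exact ⟨⟨h.zd ((bau_le P).trans hP) (J_le_bau P h1), bau_bau P⟩, h1⟩

theorem TC.pt (h : TC d S) (h1 : JJ S ≤ B) (h2 : B ≤ BB S) :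
    Pt B ∧ JJ B = JJ S ∧ OZ B = OZ (JJ S) ∧ B ≤ S ∧ d ∈ OZ B := by
  have h3 : B ≤ S := h2.trans (bau_le S)
  have h4 : JJ B = JJ S := J_eq_of_le h1 h3
  have h5 : d ∈ B := h1 (Bau.mem_OZ.1 h.mem_OZ_J).1
  have h6 : Pt B := ⟨h.zd h3 h5, le_antisymm (bau_le B) fun x hx =>
    mem_BB.2 ⟨hx, by rw [h4]; exact (mem_BB.1 (h2 hx)).2⟩⟩
  exact ⟨h6, h4, by rw [← h6.OZ_J, h4], h3, h.mem_OZ h3 h5⟩

theorem phi (hd : DD d) (h1 : z * d ∈ Cs X) (h2 : e⁻¹ * d ∈ C1 s) (h3 : ⁅s, e⁆ * z⁻¹ ∈ Cs X) :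
    ∃ d', DD d' ∧ d' ∈ Cs X := by
  refine ⟨_, hd.cj s, ?_⟩
  have h4 : s * d * s⁻¹ = ⁅s, e⁆ * z⁻¹ * (z * d) := by
    have h5 := mem_C1.1 h2
    calc s * d * s⁻¹ = s * e * (e⁻¹ * d * s⁻¹) := by group
      _ = s * e * (s⁻¹ * (s * (e⁻¹ * d)) * s⁻¹) := by group
      _ = ⁅s, e⁆ * z⁻¹ * (z * d) := by rw [← h5, commutatorElement_def]; group
  rw [h4]
  exact mul_mem h3 h1

theorem res_le_of (hE : O2 E = E) (h1 : E ≤ K ⊔ P) (hP : IsPGroup 2 P) (h2 : P ≤ Ns K) : E ≤ K := by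
  rw [← hE]; exact Local.resOf_le_of_le_sup hP h2 h1

theorem O2_O2 : O2 (O2 L) = O2 L := by
  exact Local.resOf_resOf L

theorem ns_le_O2 : Ns L ≤ Ns (O2 L) := by
  exact Local.normalizer_le_normalizer_resOf L

theorem O2_cj (g : G) (L : Subgroup G) : O2 (cj g L) = cj g (O2 L) := by
  exact (Local.cj_resOf g L).symm

theorem ns_sSup {𝓔 : Set (Subgroup G)} (h : ∀ E ∈ 𝓔, cj g E ≤ sSup 𝓔) : g ∈ Ns (sSup 𝓔) := by
  exact mem_normalizer_of_cj_le (cj_le_iff_le_cj_inv.2 (sSup_le fun E hE =>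
    cj_le_iff_le_cj_inv.1 (h E hE)))

theorem eq_of_le_comm_sup (hS : IsPGroup 2 S) (h1 : H ≤ S) (h2 : S ≤ ⁅S, S⁆ ⊔ H) : H = S := by
  have h3 : H.subgroupOf S ⊔ frattini S = ⊤ := by
    apply map_injective S.subtype_injective
    rw [Subgroup.map_sup, Solv.map_frattini_eq_commutator_sup_powerClosure hS,
      ← MonoidHom.range_eq_map, range_subtype, subgroupOf_map_subtype, inf_eq_left.2 h1]
    refine le_antisymm (sup_le h1 ?_) (h2.trans (sup_le (le_sup_of_le_right le_sup_left)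
      le_sup_left))
    rw [← Solv.map_frattini_eq_commutator_sup_powerClosure hS]
    exact map_subtype_le _
  exact le_antisymm h1 (subgroupOf_eq_top.1 (frattini_nongenerating h3))

end Cfsg.Lib.Bau
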