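import Cfsg.Agent.Bau.Dat
import Cfsg.Agent.Solv.PGroupNormal

/-! Commuting data on the same involution. -/

set_option autoImplicit false
set_option linter.unusedSectionVars false

open scoped commutatorElement

namespace Cfsg.Lib.Bau

open Cfsg Subgroup Cfsg.Lib.Trans Cfsg.Lib.Trans.TJ Cfsg.Lib.Gold Cfsg.Lib.Gomi

universe u

variable {G : Type u} [Group G] [Finite G]
  {A A' B C E H J J' K L L' L₁ L₂ M P S S' T V V' W W' X α δ : Subgroup G}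
  {a b c d e g k n r r' s t t' u u' v w x x' y y' z z' : G}

namespace BcX

variable {O : Subgroup G} {f : G}

/-- a datum that centralises `O`. -/
structure InD (S : Subgroup G) (r : G) (O : Subgroup G) (w : G) : Prop where
  da : Da S r w
  cs : w ∈ Cs O

/-- the maximal counterexample. -/
structure Bad (t : G) (S : Subgroup G) (r : G) (O : Subgroup G) : Prop where
  tc : TC t S
  le : O ≤ S ⊓ C1 r
  rO : r ∈ O
  mem : ∀ {w}, InD S r O w → w ∈ O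
  mx : ∀ {w w'}, InD S r O w → InD S r O w' → w' ≠ w → w' ≠ r * w →
    ∀ s ∈ S ⊓ C1 r, s ∈ C1 w → s ∈ C1 w' → s ∈ O
  oth : ∀ w, ∃ w', InD S r O w' ∧ w' ≠ w ∧ w' ≠ r * w

theorem exists_cen (hP : IsPGroup 2 P) (h : ¬ P ≤ O) : ∃ z ∈ P, z ∉ O ∧ ∀ s ∈ P, ⁅z, s⁆ ∈ O :=
  let ⟨z, a, b, c⟩ := Solv.PG.exists_not_mem_commutator_mem hP.isNilpotent le_rfl le_normalizer h
  ⟨z, a, b, fun s hs => (c s hs).1⟩

theorem exists_sq (hP : IsPGroup 2 P) (h1 : O ≤ P) (h : ¬ P ≤ O) :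
    ∃ a ∈ P, a ∈ Ns O ∧ a ∉ O ∧ a * a ∈ O := by
  obtain ⟨z, a, b, c⟩ := exists_cen hP h
  have n : z ∈ Ns O := mem_normalizer_fintype fun o ho => by
    simpa [commutatorElement_def] using O.mul_mem (c o (h1 ho)) ho
  obtain ⟨k, e⟩ := hP ⟨z, a⟩
  obtain ⟨j, e1, e2⟩ := Solv.PG.exists_pow_not_mem_pow_mem (p := 2) (k := k) b
    (by rw [show z ^ 2 ^ k = 1 from congrArg Subtype.val e]; exact one_mem _)
  exact ⟨_, pow_mem a _, pow_mem n _, e1, pow_two (z ^ 2 ^ j) ▸ e2⟩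

theorem InD.cj (h : InD S r O w) (h1 : g ∈ Ns S) (h2 : g ∈ C1 r) (h3 : g ∈ Ns O) :
    InD S r O (g * w * g⁻¹) := ⟨h.da.cj_ns h1 h2, mem_normalizer_conj (mem_Ns_Cs h3) h.cs⟩

theorem Bad.swap (h : Bad t S r O) (hw : InD S r O w) : InD S r O (r * w) :=
  ⟨hw.da.swap, mul_mem (fun s hs => mem_C1.1 (h.le hs).2) hw.cs⟩

theorem Bad.lo (h : Bad t S r O) (hw : InD S r O w) : O ≤ S ⊓ Cs (Four r w) := fun s hs =>
  ⟨(h.le hs).1, mem_Cs_Four.2 ⟨(h.le hs).2, mem_C1.2 (hw.cs s hs)⟩⟩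

theorem Bad.ny (h : Bad t S r O) (hw : InD S r O w) (d : Dat S r w y x A) : y ∈ Ns O :=
  d.le_ns ((closure_le _).2 (by rintro _ (rfl | rfl); exacts [h.rO, h.mem hw])) (h.lo hw)
    (subset_closure (by simp))

theorem Bad.ex_a (h : Bad t S r O) (hw : InD S r O w) :
    ∃ a ∈ S ⊓ Cs (Four r w), a ∈ Ns O ∧ a ∉ O ∧ a * a ∈ O := by
  refine exists_sq (h.tc.pg.to_le inf_le_left) (h.lo hw) fun e => ?_
  obtain ⟨w', hw', n1, n2⟩ := h.oth w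
  obtain ⟨y, x, A, d⟩ := hw.da
  obtain ⟨y', x', A', d'⟩ := hw'.da
  have a := mem_normalizer_conj (d.ns_four (d.d4 (le_antisymm (h.lo hw) e ▸ h.ny hw' d')))
    (subset_closure (by simp) : r ∈ Four r w)
  rw [d'.yr, mem_Four d.r2 d.u2 d.ru] at a
  rcases a with a | a | a | a
  exacts [d'.u1.1 a, d'.u1.2 a, n1 a, n2 a]

theorem Bad.ex_z (h : Bad t S r O) :
    ∃ z ∈ S, z * r = r * z ∧ ∀ w, InD S r O w → z * w * z⁻¹ = r * w := by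
  have na : ∀ {w}, S ⊓ Cs (Four r w) ≤ S ⊓ C1 r := fun {w} a ha => ⟨ha.1, (mem_Cs_Four.1 ha.2).1⟩
  obtain ⟨z, hz, zO, c⟩ := exists_cen (P := S ⊓ C1 r ⊓ Ns O) (O := O)
    (h.tc.pg.to_le (inf_le_left.trans inf_le_left)) fun e => by
      obtain ⟨w, hw, -⟩ := h.oth 1
      obtain ⟨a, a1, a2, a3, -⟩ := h.ex_a hw
      exact a3 (e ⟨na a1, a2⟩)
  have k : ∀ {w}, InD S r O w → z * w * z⁻¹ = w ∨ z * w * z⁻¹ = r * w := fun {w} hw => by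
    by_contra! n
    obtain ⟨a, a1, a2, a3, -⟩ := h.ex_a hw
    have aw := (mem_Cs_Four.1 a1.2).2
    refine a3 (h.mx hw (hw.cj (le_normalizer hz.1.1) hz.1.2 hz.2) n.1 n.2 a (na a1) aw ?_)
    have e := mem_C1.1 (mul_mem (mem_C1.2 (hw.cs _ (mem_normalizer_conj' hz.2
      (inv_mem (c a ⟨na a1, a2⟩))))) aw)
    rw [mem_C1]
    calc a * (z * w * z⁻¹) = z * (z⁻¹ * ⁅z, a⁆⁻¹ * z * a * w) * z⁻¹ := by
          simp only [commutatorElement_def]; group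
      _ = _ := by rw [e]; simp only [commutatorElement_def]; group
  refine ⟨z, hz.1.1, mem_C1.1 hz.1.2, fun w hw => (k hw).resolve_left fun e => ?_⟩
  obtain ⟨w', hw', n1, n2⟩ := h.oth w
  obtain ⟨y, x, A, d⟩ := hw.da
  have zw : z ∈ C1 w := mem_C1.2 (mul_inv_eq_iff_eq_mul.1 e)
  rcases k hw' with a | a
  · exact zO (h.mx hw hw' n1 n2 z hz.1 zw (mem_C1.2 (mul_inv_eq_iff_eq_mul.1 a)))
  · have := d.comm_mem ⟨hz.1.1, mem_Cs_Four.2 ⟨hz.1.2, zw⟩⟩ (h.lo hw (h.mem hw'))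
    rw [commutatorElement_def, a, mul_inv_cancel_right] at this
    exact d.r1 (d.eq_one (subset_closure (by simp)) (mem_Cs_E4.1 this).2.2)

theorem fix (h : f ∈ C1 y) : MulAut.conj y f = f := mul_inv_eq_iff_eq_mul.2 (mem_C1.1 h).symm

/-- a new member of the class. -/
theorem mem_D (ht : TC t S) (d : Dat S r w y x A) (d' : Dat S r (w * f) y' x' A') (hf : f ∈ C1 y) :
    DD (t * r * (r * f)) := by
  have a := (ht.dd.cj y').cj y⁻¹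
  have e1 : MulAut.conj y' r = w * f := d'.yr
  have e2 : MulAut.conj y r = w := d.yr
  have e3 : y' * t * y'⁻¹ = y * (t * r * (r * f)) * y⁻¹ := by
    change MulAut.conj y' t = MulAut.conj y _
    rw [map_mul, map_mul _ r, e2, fix hf, fix (mem_Cs_E4.1 (d.tr ht)).2.2, ← e1,
      ← fix (mem_Cs_E4.1 (d'.tr ht)).2.2, ← map_mul, mul_assoc, d.r2, mul_one]
  simpa [e3, mul_assoc] using a

theorem Bad.false (h : Bad t S r O) : False := by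
  obtain ⟨z, zS, zr, zw⟩ := h.ex_z
  obtain ⟨m, zm⟩ := h.tc.pg ⟨z, zS⟩
  have cm : ∀ {w w'}, InD S r O w → InD S r O w' → w * w' = w' * w := fun a b => b.cs _ (h.mem a)
  have zf : ∀ {w w'}, InD S r O w → InD S r O w' → w * w' ∈ C1 z := fun {w w'} a b => by
    obtain ⟨y, x, A, d⟩ := a.da
    rw [mem_C1, eq_comm, ← mul_inv_eq_iff_eq_mul, ← conj_mul, zw w a, zw w' b, d.ru, mul_assoc,
      ← mul_assoc r, d.r2, one_mul]
  have dc : ∀ {w w' y x A}, InD S r O w → InD S r O w' → Dat S r w y x A →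
      w * w' ∈ C1 y ∨ r * (w * w') ∈ C1 y := fun {w w' y x A} a b d => by
    have o := h.lo a (mul_mem (h.mem a) (h.mem b))
    exact (d.dec2 zS zr (zw w a) o (zf a b)).imp (fun e => (mem_Cs_E4.1 e).2.2)
      fun e => mem_C1.1 (mem_Cs_Four.1 o.2).1 ▸ (mem_Cs_E4.1 e).2.2
  have nd : ∀ {w y x A f}, InD S r O w → Dat S r w y x A → DD (t * r * (r * f)) → f ∈ C1 z →
      r * f ∉ C1 y := fun {w y x A f} a d b c e => by
    have rz : r ∈ C1 z := mem_C1.2 zr.symm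
    exact d.nc4 b (mul_mem (mem_Cs_E4.1 (d.tr h.tc)).2.2 e) (mul_mem (mul_mem
      (mem_C1.2 (mem_C1.1 (h.tc.le zS)).symm) rz) (mul_mem rz c)) (congrArg Subtype.val zm) zr (zw w a)
  obtain ⟨u, hu, -⟩ := h.oth 1
  obtain ⟨y, x, A, d⟩ := hu.da
  have ry : r ∉ C1 y := fun e => d.r1 (d.eq_one (subset_closure (by simp)) e)
  obtain ⟨v, hv, n1, n2, yf⟩ : ∃ v, InD S r O v ∧ v ≠ u ∧ v ≠ r * u ∧ u * v ∈ C1 y := by
    obtain ⟨v, hv, n1, n2⟩ := h.oth u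
    rcases dc hu hv d with a | a
    · exact ⟨v, hv, n1, n2, a⟩
    · exact ⟨r * v, h.swap hv, fun e => n2 (by rw [← e, ← mul_assoc, d.r2, one_mul]),
        fun e => n1 (mul_left_cancel e), by rwa [← mul_assoc, ← d.ru, mul_assoc]⟩
  obtain ⟨y', x', A', d'⟩ := hv.da
  obtain ⟨a, a1, a2, a3, a4⟩ := h.ex_a hu
  obtain ⟨ar, au⟩ := mem_Cs_Four.1 a1.2
  have hv₁ := hv.cj (le_normalizer a1.1) ar a2
  obtain ⟨y₁, x₁, A₁, d₁⟩ := hv₁.da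
  have uu : ∀ b, u * (u * b) = b := fun b => by rw [← mul_assoc, d.u2, one_mul]
  have af : a * (u * v) * a⁻¹ = u * (a * v * a⁻¹) := by rw [← mul_assoc, mem_C1.1 au]; group
  have yf₁ : u * (a * v * a⁻¹) ∈ C1 y := by
    have := mul_mem (mem_Cs_E4.1 (d.comm_mem a1 (h.lo hu (mul_mem (h.mem hu) (h.mem hv))))).2.2 yf
    rwa [commutatorElement_def, inv_mul_cancel_right, af] at this
  have y'f : u * v ∈ C1 y' := cm hv hu ▸ (dc hv hu d').resolve_right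
    (cm hu hv ▸ nd hv d' (mem_D h.tc d (by rwa [uu]) yf) (zf hu hv))
  have vv : v * (a * v * a⁻¹) = u * v * (u * (a * v * a⁻¹)) := by
    rw [cm hu hv, mul_assoc v u, uu]
  have y'f₁ : u * (a * v * a⁻¹) ∈ C1 y' := by
    rcases dc hv hv₁ d' with b | b
    · exact (mul_mem_cancel_left y'f).1 (vv ▸ b)
    · refine absurd ((mul_mem_cancel_left y'f).1 ?_)
        (nd hv d' (mem_D h.tc d (by rwa [uu]) yf₁) (zf hu hv₁))
      rwa [vv, ← mul_assoc r, ← mem_C1.1 (h.le (mul_mem (h.mem hu) (h.mem hv))).2, mul_assoc] at b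
  have av : a ∉ C1 v := fun e => a3 (h.mx hu hv n1 n2 a ⟨a1.1, ar⟩ au e)
  have e1 : MulAut.conj y r = u := d.yr
  have e2 : MulAut.conj y u = r * u := d.yu
  have e3 : MulAut.conj y (r * u) = r := d.yru
  have e4 : MulAut.conj y' v = r * v := d'.yu
  have e5 : MulAut.conj y' (r * v) = r := d'.yru
  have uv : u = v * (u * v) := by rw [cm hu hv, ← mul_assoc, d'.u2, one_mul]
  have cr : y * y' * y ∈ C1 r := by
    rw [mem_C1, ← mul_inv_eq_iff_eq_mul]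
    change MulAut.conj (y * y' * y) r = r
    rw [map_mul, map_mul, MulAut.mul_apply, MulAut.mul_apply, e1, uv, map_mul, e4, fix y'f,
      mul_assoc, ← uv, e3]
  have cu : MulAut.conj (y * y' * y) u = v := by
    rw [map_mul, map_mul, MulAut.mul_apply, MulAut.mul_apply, e2, uv, ← mul_assoc, map_mul, e5,
      fix y'f, map_mul, e1, fix yf, uu]
  have cf : ∀ {f}, f ∈ C1 y → f ∈ C1 y' → y * y' * y ∈ C1 f := fun a b =>
    mul_mem (mul_mem (mem_C1.2 (mem_C1.1 a).symm) (mem_C1.2 (mem_C1.1 b).symm))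
      (mem_C1.2 (mem_C1.1 a).symm)
  have ct : y * y' * y ∈ C1 t := by
    have := mul_mem (mem_C1.2 (mem_C1.1 (cf (mem_Cs_E4.1 (d.tr h.tc)).2.2
      (mem_Cs_E4.1 (d'.tr h.tc)).2.2)).symm) (mem_C1.2 (mem_C1.1 cr).symm)
    rw [mul_assoc t, d.r2, mul_one] at this
    exact mem_C1.2 (mem_C1.1 this).symm
  have k := hv₁.cj (h.tc.nm ct) cr (mul_mem (mul_mem (h.ny hu d) (h.ny hv d')) (h.ny hu d))
  have e6 : y * y' * y * (a * v * a⁻¹) * (y * y' * y)⁻¹ = u * (v * (a * v * a⁻¹)) := by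
    change MulAut.conj _ _ = _
    rw [← uu (a * v * a⁻¹), map_mul, cu, fix (mem_C1.2 (mem_C1.1 (cf yf₁ y'f₁)).symm), uu,
      ← mul_assoc, cm hv hu, mul_assoc]
  rw [e6] at k
  refine a3 (h.mx hu k (fun e => av ?_) (fun e => ry ?_) a ⟨a1.1, ar⟩ au ?_)
  · rw [mul_eq_left, mul_eq_one_iff_inv_eq, inv_eq_of_mul_eq_one_right d'.u2] at e
    exact mem_C1.2 (mul_inv_eq_iff_eq_mul.1 e.symm)
  · rw [d.ru, mul_right_inj] at e
    exact e ▸ vv ▸ mul_mem yf yf₁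
  · have b : a * a * v = v * (a * a) := hv.cs _ a4
    refine mem_C1.2 (Commute.mul_right (mem_C1.1 au) ?_).eq
    calc a * (v * (a * v * a⁻¹)) = a * v * a⁻¹ * (a * a * v) * a⁻¹ := by group
      _ = a * v * a⁻¹ * v * a := by rw [b]; group
      _ = _ := by rw [← cm hv hv₁]

end BcX

open BcX in
theorem bc (ht : TC t S) (hu : Da S r u) (hv : Da S r v) (e : u * v = v * u) : v = u ∨ v = r * u := by
  by_contra! hn
  obtain ⟨⟨u, v⟩, ⟨hu, hv, e, n1, n2⟩, hm⟩ := Set.exists_max_image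
    {p : G × G | Da S r p.1 ∧ Da S r p.2 ∧ p.1 * p.2 = p.2 * p.1 ∧ p.2 ≠ p.1 ∧ p.2 ≠ r * p.1}
    (fun p => Nat.card (S ⊓ C1 r ⊓ C1 p.1 ⊓ C1 p.2 : Subgroup G)) (Set.toFinite _)
    ⟨(u, v), hu, hv, e, hn⟩
  have iu : InD S r (S ⊓ C1 r ⊓ C1 u ⊓ C1 v) u := ⟨hu, fun s hs => mem_C1.1 hs.1.2⟩
  have iv : InD S r (S ⊓ C1 r ⊓ C1 u ⊓ C1 v) v := ⟨hv, fun s hs => mem_C1.1 hs.2⟩
  obtain ⟨y, x, A, d⟩ := hu
  obtain ⟨y', x', A', d'⟩ := hv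
  have uO : u ∈ S ⊓ C1 r ⊓ C1 u ⊓ C1 v :=
    ⟨⟨⟨d.uS, mem_C1.2 d.ru.symm⟩, mem_C1.2 rfl⟩, mem_C1.2 e⟩
  have vO : v ∈ S ⊓ C1 r ⊓ C1 u ⊓ C1 v :=
    ⟨⟨⟨d'.uS, mem_C1.2 d'.ru.symm⟩, mem_C1.2 e.symm⟩, mem_C1.2 rfl⟩
  have mem : ∀ {w}, InD S r (S ⊓ C1 r ⊓ C1 u ⊓ C1 v) w → w ∈ S ⊓ C1 r ⊓ C1 u ⊓ C1 v := fun h =>
    let ⟨_, _, _, c⟩ := h.da
    ⟨⟨⟨c.uS, mem_C1.2 c.ru.symm⟩, mem_C1.2 (h.cs u uO).symm⟩, mem_C1.2 (h.cs v vO).symm⟩
  refine Bad.false (O := S ⊓ C1 r ⊓ C1 u ⊓ C1 v) ⟨ht, inf_le_left.trans inf_le_left,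
    ⟨⟨⟨d.rS, mem_C1.2 rfl⟩, mem_C1.2 d.ru⟩, mem_C1.2 d'.ru⟩, mem,
    fun {w w'} a b m1 m2 s s1 s2 s3 => ?_, fun w => ?_⟩
  · exact (eq_of_le_of_card_ge (H := S ⊓ C1 r ⊓ C1 u ⊓ C1 v) (K := S ⊓ C1 r ⊓ C1 w ⊓ C1 w')
      (fun s hs => ⟨⟨hs.1.1,
      mem_C1.2 (a.cs s hs)⟩, mem_C1.2 (b.cs s hs)⟩)
      (hm (w, w') ⟨a.da, b.da, b.cs w (mem a), m1, m2⟩)).ge ⟨⟨s1, s2⟩, s3⟩
  · by_cases c : u ≠ w ∧ u ≠ r * w
    · exact ⟨u, iu, c⟩
    · refine ⟨v, iv, ?_⟩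
      rcases not_and_or.1 c with c | c <;> rw [not_not] at c <;> subst c
      · exact ⟨n1, n2⟩
      · exact ⟨by rwa [← mul_assoc, d.r2, one_mul] at n2, n1⟩

end Cfsg.Lib.Bau
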