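import Cfsg.Agent.Bau.Prod

set_option autoImplicit false
set_option linter.unusedSectionVars false

open scoped commutatorElement

namespace Cfsg.Lib.Bau

open Cfsg Subgroup Cfsg.Lib.Trans Cfsg.Lib.Trans.TJ Cfsg.Lib.Gold Cfsg.Lib.Gomi

universe u

variable {G : Type u} [Group G] [Finite G]
  {A A' B C E H J J' K L L' L₁ L₂ M P S S' T V V' W W' X α δ : Subgroup G}
  {a b c d e g k n r r' s t t' u u' v w x x' y y' z z' : G}

theorem r_mem_Four : r ∈ Four r u := subset_closure (by simp)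

theorem u_mem_Four : u ∈ Four r u := subset_closure (by simp)

theorem r_mem_E4 : r ∈ E4 r u y := subset_closure (by simp)

theorem u_mem_E4 : u ∈ E4 r u y := subset_closure (by simp)

theorem y_mem_E4 : y ∈ E4 r u y := subset_closure (by simp)

theorem Four_le_iff : Four r u ≤ X ↔ r ∈ X ∧ u ∈ X := by
  simp [Four, closure_le, Set.insert_subset_iff]

theorem E4_le_iff : E4 r u y ≤ X ↔ r ∈ X ∧ u ∈ X ∧ y ∈ X := by
  simp [E4, closure_le, Set.insert_subset_iff]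

theorem Four_le_E4 : Four r u ≤ E4 r u y := Four_le_iff.2 ⟨r_mem_E4, u_mem_E4⟩

theorem mem_C1_symm : g ∈ C1 a ↔ a ∈ C1 g := by
  rw [mem_C1, mem_C1, eq_comm]

theorem mem_C1_conj : g ∈ C1 a ↔ g * a * g⁻¹ = a := by
  rw [mem_C1, mul_inv_eq_iff_eq_mul]

theorem mem_Cs_iff_le : g ∈ Cs X ↔ X ≤ C1 g :=
  ⟨fun h _ hx => mem_C1.2 (mem_Cs.1 h _ hx), fun h => mem_Cs.2 fun _ hx => mem_C1.1 (h hx)⟩

theorem mem_Four (hr : r * r = 1) (hu : u * u = 1) (e : r * u = u * r) :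
    w ∈ Four r u ↔ w = 1 ∨ w = r ∨ w = u ∨ w = r * u := by
  have h1 : ∀ g, r * (r * g) = g := fun g => by rw [← mul_assoc, hr, one_mul]
  have h2 : ∀ g, u * (u * g) = g := fun g => by rw [← mul_assoc, hu, one_mul]
  have h3 : ∀ g, u * (r * g) = r * (u * g) := fun g => by rw [← mul_assoc, ← e, mul_assoc]
  constructor
  · intro h
    induction h using closure_induction with
    | mem x hx => rcases hx with rfl | rfl <;> simp
    | one => simp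
    | mul x y _ _ hx hy =>
      rcases hx with rfl | rfl | rfl | rfl <;> rcases hy with rfl | rfl | rfl | rfl <;>
        simp [mul_assoc, hr, hu, h1, h2, h3, ← e]
    | inv x _ hx =>
      rcases hx with rfl | rfl | rfl | rfl <;>
        simp [inv_eq_of_sq hr, inv_eq_of_sq hu, ← e]
  · rintro (rfl | rfl | rfl | rfl)
    exacts [one_mem _, r_mem_Four, u_mem_Four, mul_mem r_mem_Four u_mem_Four]

theorem mem_Cs_Four : g ∈ Cs (Four r u) ↔ g ∈ C1 r ∧ g ∈ C1 u := by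
  rw [mem_Cs_iff_le, Four_le_iff, mem_C1_symm, mem_C1_symm (g := u)]

theorem mem_Cs_E4 : g ∈ Cs (E4 r u y) ↔ g ∈ C1 r ∧ g ∈ C1 u ∧ g ∈ C1 y := by
  rw [mem_Cs_iff_le, E4_le_iff, mem_C1_symm, mem_C1_symm (g := u), mem_C1_symm (g := y)]

theorem Four_cj (g r u : G) : cj g (Four r u) = Four (g * r * g⁻¹) (g * u * g⁻¹) := by
  rw [Four, cj_closure, Set.image_pair, Four]

theorem E4_cj (g r u y : G) :
    cj g (E4 r u y) = E4 (g * r * g⁻¹) (g * u * g⁻¹) (g * y * g⁻¹) := by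
  rw [E4, cj_closure, Set.image_insert_eq, Set.image_pair, E4]

theorem Dat.cj (h : Dat S r u y x A) (g : G) :
    Dat (cj g S) (g * r * g⁻¹) (g * u * g⁻¹) (g * y * g⁻¹) (g * x * g⁻¹) (cj g A) := by
  have m : ∀ a b : G, g * a * g⁻¹ * (g * b * g⁻¹) = g * (a * b) * g⁻¹ := fun a b => by group
  have i : ∀ a : G, (g * a * g⁻¹)⁻¹ = g * a⁻¹ * g⁻¹ := fun a => by group
  have o : g * 1 * g⁻¹ = 1 := by group
  refine ⟨conj_mem_cj.2 h.rS, conj_mem_cj.2 h.uS, conj_mem_cj.2 h.xS, fun e => h.r1 ?_, ?_, ?_, ?_,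
    ?_, ?_, ?_, ?_, ?_, ?_, ?_, ?_, ?_, ?_⟩
  · rwa [conj_eq_one_iff] at e
  · rw [m, h.r2, o]
  · rw [m, h.u2, o]
  · rw [m, m, h.ru]
  · rw [conj_pow, h.y3, o]
  · rw [i, m, m, h.yr]
  · rw [i, m, m, m, h.yu]
  · intro s hs
    rw [← Four_cj, ← cj_Cs, ← cj_inf, mem_cj] at hs
    obtain ⟨w, hw, h1⟩ := h.d1 _ hs
    refine ⟨g * w * g⁻¹, by rw [← Four_cj]; exact conj_mem_cj.2 hw, ?_⟩
    rw [← cj_C1, mem_cj]
    convert h1 using 1
    group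
  · rw [← Four_cj, ← cj_Cs, ← cj_inf, ← E4_cj, ← cj_Ns, ← cj_Ns]
    exact cj_mono g h.d4
  · rw [m, h.x2, o]
  · rw [m, m, h.xr]
  · rw [i, m, m, m, m, h.xu]
  · rw [← E4_cj, ← cj_Cs, ← cj_C1, ← cj_inf, ← cj_inf]
    exact cj_mono g h.le
  · rw [← Four_cj, ← cj_Cs, ← cj_inf, ← cj_sup]
    exact mx_cj h.mx g

theorem Da.cj (h : Da S r u) (g : G) : Da (cj g S) (g * r * g⁻¹) (g * u * g⁻¹) := by
  obtain ⟨y, x, A, h⟩ := h
  exact ⟨_, _, _, h.cj g⟩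

theorem Da.cj_ns (h : Da S r u) (h1 : g ∈ Ns S) (h2 : g ∈ C1 r) : Da S r (g * u * g⁻¹) := by
  have := h.cj g
  rwa [mem_Ns_iff.1 h1, mem_C1_conj.1 h2] at this

theorem Dat.yru (h : Dat S r u y x A) : y * (r * u) * y⁻¹ = r := by
  calc y * (r * u) * y⁻¹ = y * r * y⁻¹ * (y * u * y⁻¹) := by group
    _ = r := by rw [h.yr, h.yu, ← mul_assoc, ← h.ru, mul_assoc, h.u2, mul_one]

theorem Dat.rru (h : Dat S r u y x A) : r * (r * u) = u := by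
  rw [← mul_assoc, h.r2, one_mul]

theorem Dat.yr' (h : Dat S r u y x A) : y⁻¹ * r * y = r * u := by
  conv_lhs => rw [← h.yru]
  group

theorem Dat.yu' (h : Dat S r u y x A) : y⁻¹ * u * y = r := by
  conv_lhs => rw [← h.yr]
  group

theorem Dat.yru' (h : Dat S r u y x A) : y⁻¹ * (r * u) * y = u := by
  conv_lhs => rw [← h.yu]
  group

theorem Dat.xrx (h : Dat S r u y x A) : x * r * x⁻¹ = r := by
  rw [h.xr, mul_inv_cancel_right]

theorem Dat.r_ux (h : Dat S r u y x A) : x * u * x⁻¹ * r = r * (x * u * x⁻¹) := by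
  conv_lhs => rw [← h.xrx]
  conv_rhs => rw [← h.xrx]
  calc _ = x * (u * r) * x⁻¹ := by group
    _ = _ := by rw [← h.ru]; group

theorem Dat.swap (h : Dat S r u y x A) :
    Dat S r (r * u) y⁻¹ x A ∧ Four r (r * u) = Four r u ∧ E4 r (r * u) y⁻¹ = E4 r u y := by
  have h1 : Four r (r * u) = Four r u := by
    refine le_antisymm (Four_le_iff.2 ⟨r_mem_Four, mul_mem r_mem_Four u_mem_Four⟩)
      (Four_le_iff.2 ⟨r_mem_Four, ?_⟩)
    have := mul_mem (r_mem_Four (r := r) (u := r * u)) u_mem_Four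
    rwa [h.rru] at this
  have h2 : E4 r (r * u) y⁻¹ = E4 r u y := by
    refine le_antisymm (E4_le_iff.2 ⟨r_mem_E4, mul_mem r_mem_E4 u_mem_E4, inv_mem y_mem_E4⟩)
      (E4_le_iff.2 ⟨r_mem_E4, ?_, (inv_mem_iff (x := y)).1 y_mem_E4⟩)
    have := mul_mem (r_mem_E4 (r := r) (u := r * u) (y := y⁻¹)) u_mem_E4
    rwa [h.rru] at this
  refine ⟨⟨h.rS, mul_mem h.rS h.uS, h.xS, h.r1, h.r2, ?_, ?_, ?_, ?_, ?_, ?_, ?_, h.x2, h.xr, ?_,
    ?_, ?_⟩, h1, h2⟩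
  · rw [mul_assoc, ← mul_assoc u, ← h.ru, mul_assoc, h.u2, mul_one, h.r2]
  · rw [mul_assoc, h.ru]
  · rw [inv_pow, h.y3, inv_one]
  · rw [inv_inv, h.yr']
  · rw [inv_inv, h.yru', h.rru]
  · rw [h1]
    intro s hs
    obtain ⟨w, hw, h3⟩ := h.d1 s hs
    exact ⟨w, hw, mem_C1_symm.1 (inv_mem (mem_C1_symm.1 h3))⟩
  · rw [h1, h2]; exact h.d4
  · have e : r * u * (x * (r * u) * x⁻¹) = u * (x * u * x⁻¹) := by
      calc _ = r * u * (x * r * x⁻¹) * (x * u * x⁻¹) := by group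
        _ = _ := by rw [h.xrx, mul_assoc r, ← h.ru, h.rru]
    rw [e, h.xu]
  · rw [h2]; exact h.le
  · rw [h1]; exact h.mx

theorem Da.swap (h : Da S r u) : Da S r (r * u) := by
  obtain ⟨y, x, A, h⟩ := h
  exact ⟨_, _, _, h.swap.1⟩

theorem Dat.u1 (h : Dat S r u y x A) : u ≠ 1 ∧ u ≠ r := by
  refine ⟨fun e => h.r1 ?_, fun e => h.r1 ?_⟩
  · rw [← h.yu', e]; group
  · have h1 := h.yr
    have h2 := h.yu
    rw [e] at h1 h2
    rw [← h1, h2, h.r2]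

theorem Dat.ru_ne (h : Dat S r u y x A) : r * u ≠ r ∧ r * u ≠ u :=
  ⟨fun e => h.u1.1 (mul_eq_left.1 e), fun e => h.r1 (mul_eq_right.1 e)⟩

theorem Dat.mem_four (h : Dat S r u y x A) : w ∈ Four r u ↔ w = 1 ∨ w = r ∨ w = u ∨ w = r * u :=
  mem_Four h.r2 h.u2 h.ru

theorem Dat.four_le (h : Dat S r u y x A) : Four r u ≤ S ⊓ Cs (Four r u) :=
  Four_le_iff.2 ⟨⟨h.rS, mem_Cs_Four.2 ⟨mem_C1.2 rfl, mem_C1.2 h.ru⟩⟩,
    ⟨h.uS, mem_Cs_Four.2 ⟨mem_C1.2 h.ru.symm, mem_C1.2 rfl⟩⟩⟩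

theorem Dat.four_sq (h : Dat S r u y x A) (hw : w ∈ Four r u) : w * w = 1 := by
  rcases h.mem_four.1 hw with rfl | rfl | rfl | rfl
  exacts [one_mul _, h.r2, h.u2, h.swap.1.u2]

theorem Dat.eq_one (h : Dat S r u y x A) (hw : w ∈ Four r u) (h1 : w ∈ C1 y) : w = 1 := by
  have h2 := mem_C1_conj.1 (mem_C1_symm.1 h1)
  rcases h.mem_four.1 hw with rfl | rfl | rfl | rfl
  · rfl
  · exact absurd (h.yr.symm.trans h2) h.u1.2
  · exact absurd (h.yu.symm.trans h2) h.ru_ne.2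
  · exact absurd (h2.symm.trans h.yru) h.ru_ne.1

theorem Dat.dec (h : Dat S r u y x A) (hs : s ∈ S ⊓ Cs (Four r u)) :
    ∃ w ∈ Four r u, ∃ f ∈ S ⊓ Cs (E4 r u y), s = w * f := by
  obtain ⟨w, hw, h1⟩ := h.d1 s hs
  have h2 := mul_mem hs (h.four_le hw)
  refine ⟨w, hw, s * w, ⟨h2.1, mem_Cs_E4.2 ⟨(mem_Cs_Four.1 h2.2).1, (mem_Cs_Four.1 h2.2).2, h1⟩⟩, ?_⟩
  rw [← mul_assoc, mem_Cs.1 hs.2 w hw, mul_assoc, h.four_sq hw, mul_one]

theorem Dat.le_ns_four (h : Dat S r u y x A) : E4 r u y ≤ Ns (Four r u) := by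
  refine E4_le_iff.2 ⟨le_normalizer r_mem_Four, le_normalizer u_mem_Four,
    mem_normalizer_of_cj_le ?_⟩
  rw [Four_cj, h.yr, h.yu]
  exact Four_le_iff.2 ⟨u_mem_Four, mul_mem r_mem_Four u_mem_Four⟩

theorem Dat.mem_E4 (h : Dat S r u y x A) (hg : g ∈ E4 r u y) :
    ∃ w ∈ Four r u, g = w ∨ g = w * y ∨ g = w * y⁻¹ := by
  have h1 : E4 r u y ≤ Four r u ⊔ zpowers y := E4_le_iff.2
    ⟨mem_sup_left r_mem_Four, mem_sup_left u_mem_Four, mem_sup_right (mem_zpowers y)⟩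
  obtain ⟨w, hw, _, ⟨k, rfl⟩, rfl⟩ := (Solv.mem_sup_of_le_normalizer
    ((zpowers_le.2 y_mem_E4).trans h.le_ns_four)).1 (h1 hg)
  refine ⟨w, hw, ?_⟩
  have h3 : y ^ (3 : ℤ) = 1 := by exact_mod_cast h.y3
  have h2 : y ^ k = y ^ (k % 3) := by
    conv_lhs => rw [← Int.emod_add_mul_ediv k 3, zpow_add, zpow_mul, h3, one_zpow, mul_one]
  have h4 : y ^ (2 : ℤ) = y⁻¹ := by
    rw [eq_inv_iff_mul_eq_one, ← h3]; group
  change w * y ^ k = w ∨ w * y ^ k = w * y ∨ w * y ^ k = w * y⁻¹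
  rw [h2]
  obtain e | e | e : k % 3 = 0 ∨ k % 3 = 1 ∨ k % 3 = 2 := by omega
  · simp [e]
  · simp [e]
  · rw [e, h4]; simp

theorem Dat.conj_four (h : Dat S r u y x A) (hw : w ∈ Four r u) (ha : a ∈ Four r u) :
    w * g * b * (w * g)⁻¹ = a ↔ g * b * g⁻¹ = a := by
  have h1 := mem_Cs.1 (h.four_le hw).2 a ha
  constructor
  · intro e
    calc _ = w⁻¹ * (w * g * b * (w * g)⁻¹) * w := by group
      _ = a := by rw [e, mul_assoc, h1, inv_mul_cancel_left]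
  · intro e
    calc _ = w * (g * b * g⁻¹) * w⁻¹ := by group
      _ = a := by rw [e, ← h1, mul_inv_cancel_right]

theorem cyc3 {j : ℕ} (h1 : k * r * k⁻¹ = a) (h2 : k * a * k⁻¹ = b) (h3 : k * b * k⁻¹ = r)
    (ha : a ≠ r) (hb : b ≠ r) : k ^ 2 ^ j ≠ 1 := by
  induction j generalizing k a b with
  | zero =>
    intro e
    rw [pow_zero, pow_one] at e
    rw [e] at h1
    exact ha (by rw [← h1]; group)
  | succ j ih =>
    have m : ∀ c, k * k * c * (k * k)⁻¹ = k * (k * c * k⁻¹) * k⁻¹ := fun c => by group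
    rw [pow_succ', pow_mul, pow_two]
    exact ih (a := b) (b := a) (by rw [m, h1, h2]) (by rw [m, h3, h1]) (by rw [m, h2, h3]) hb ha

theorem Dat.mem_four_of_pow (h : Dat S r u y x A) (hg : g ∈ E4 r u y) {j : ℕ}
    (h1 : g ^ 2 ^ j = 1) : g ∈ Four r u := by
  have hru : r * u ∈ Four r u := mul_mem r_mem_Four u_mem_Four
  obtain ⟨w, hw, rfl | rfl | rfl⟩ := h.mem_E4 hg
  · exact hw
  · exact absurd h1 (cyc3 ((h.conj_four hw u_mem_Four).2 h.yr) ((h.conj_four hw hru).2 h.yu)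
      ((h.conj_four hw r_mem_Four).2 h.yru) h.u1.2 h.ru_ne.1)
  · exact absurd h1 (cyc3 ((h.conj_four hw hru).2 h.swap.1.yr)
      ((h.conj_four hw u_mem_Four).2 (h.swap.1.yu.trans h.rru))
      ((h.conj_four hw r_mem_Four).2 (by rw [inv_inv, h.yu'])) h.ru_ne.1 h.u1.2)

theorem Dat.ns_four (h : Dat S r u y x A) : Ns (E4 r u y) ≤ Ns (Four r u) := by
  intro n hn
  refine mem_normalizer_of_cj_le (cj_le_iff.2 fun w hw => ?_)
  refine h.mem_four_of_pow (mem_normalizer_conj hn (Four_le_E4 hw)) (j := 1) ?_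
  rw [conj_pow, pow_one, pow_two, h.four_sq hw]
  group

theorem Dat.le_ns (h : Dat S r u y x A) (h1 : Four r u ≤ X) (h2 : X ≤ S ⊓ Cs (Four r u)) :
    E4 r u y ≤ Ns X := by
  refine E4_le_iff.2 ⟨le_normalizer (h1 r_mem_Four), le_normalizer (h1 u_mem_Four),
    mem_normalizer_of_cj_le (cj_le_iff.2 fun s hs => ?_)⟩
  obtain ⟨w, hw, f, hf, rfl⟩ := h.dec (h2 hs)
  have h3 := mem_C1.1 (mem_Cs_E4.1 hf.2).2.2
  have e : y * (w * f) * y⁻¹ = y * w * y⁻¹ * w⁻¹ * (w * f) := by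
    calc _ = y * w * y⁻¹ * (y * f) * y⁻¹ := by group
      _ = _ := by rw [← h3]; group
  rw [e]
  exact mul_mem (h1 (mul_mem (mem_normalizer_conj (h.le_ns_four y_mem_E4) hw) (inv_mem hw))) hs

theorem Dat.ns (h : Dat S r u y x A) (hs : s ∈ Ns S) (h1 : s ∈ Ns (Four r u)) : s ∈ Ns (E4 r u y) :=
  h.d4 (mem_Ns_inf hs (mem_Ns_Cs h1))

theorem Dat.ns_of (h : Dat S r u y x A) (h1 : v * r = r * v) (h2 : v * u * v⁻¹ = r * u) :
    v ∈ Ns (Four r u) := by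
  rw [mem_Ns_iff, Four_cj, h2, h1, mul_inv_cancel_right, h.swap.2.1]

theorem Dat.sq_mem (h : Dat S r u y x A) (hs : s ∈ S ⊓ Cs (Four r u)) : s * s ∈ Cs (E4 r u y) := by
  obtain ⟨w, hw, f, hf, rfl⟩ := h.dec hs
  have h1 := mem_Cs.1 hf.2 w (Four_le_E4 hw)
  have e : w * f * (w * f) = f * f := by
    calc _ = w * (f * w) * f := by group
      _ = _ := by rw [← h1, ← mul_assoc, h.four_sq hw, one_mul]
  rw [e]
  exact mul_mem hf.2 hf.2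

theorem comm_mul_left (h1 : c * a = a * c) (h2 : c * b = b * c) : ⁅c * a, b⁆ = ⁅a, b⁆ := by
  have h3 : Commute c (a * b * a⁻¹) :=
    ((show Commute c a from h1).mul_right h2).mul_right (show Commute c a from h1).inv_right
  calc _ = c * (a * b * a⁻¹) * c⁻¹ * b⁻¹ := by rw [commutatorElement_def]; group
    _ = _ := by rw [h3.eq, commutatorElement_def]; group

theorem comm_mul_right (h1 : c * a = a * c) (h2 : c * b = b * c) : ⁅a, c * b⁆ = ⁅a, b⁆ := by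
  rw [← commutatorElement_inv, comm_mul_left h2 h1, commutatorElement_inv]

theorem Dat.comm_mem (h : Dat S r u y x A) (ha : a ∈ S ⊓ Cs (Four r u))
    (hb : b ∈ S ⊓ Cs (Four r u)) : ⁅a, b⁆ ∈ Cs (E4 r u y) := by
  obtain ⟨w, hw, f, hf, rfl⟩ := h.dec ha
  rw [comm_mul_left (mem_Cs.1 hf.2 w (Four_le_E4 hw)) (mem_Cs.1 hb.2 w hw)]
  obtain ⟨w', hw', f', hf', rfl⟩ := h.dec hb
  rw [comm_mul_right (mem_Cs.1 hf.2 w' (Four_le_E4 hw')) (mem_Cs.1 hf'.2 w' (Four_le_E4 hw')),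
    commutatorElement_def]
  exact mul_mem (mul_mem (mul_mem hf.2 hf'.2) (inv_mem hf.2)) (inv_mem hf'.2)

theorem Da.sq_ne (h : Da S r u) (hg : g ∈ S ⊓ C1 r) (e : g * u = u * g) : g * g ≠ r := by
  obtain ⟨y, x, A, h⟩ := h
  intro e'
  have := h.sq_mem ⟨hg.1, mem_Cs_Four.2 ⟨hg.2, mem_C1.2 e⟩⟩
  rw [e'] at this
  exact h.r1 (h.eq_one r_mem_Four (mem_Cs_E4.1 this).2.2)

theorem Dat.ux_sq (h : Dat S r u y x A) : x * u * x⁻¹ * (x * u * x⁻¹) = 1 := by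
  calc _ = x * (u * u) * x⁻¹ := by group
    _ = 1 := by rw [h.u2]; group

theorem Dat.ux (h : Dat S r u y x A) :
    Da S r (x * u * x⁻¹) ∧ x * u * x⁻¹ * u * (x * u * x⁻¹)⁻¹ = r * u := by
  refine ⟨Da.cj_ns ⟨_, _, _, h⟩ (le_normalizer h.xS) (mem_C1.2 h.xr), ?_⟩
  rw [inv_eq_of_sq h.ux_sq, h.ru, ← h.xu]
  simp only [← mul_assoc, h.u2, one_mul]

theorem Dat.k_act (h : Dat S r u y x A) (h4 : v * r = r * v) (h5 : v * u * v⁻¹ = r * u) :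
    ⁅y, v⁆ * r * ⁅y, v⁆⁻¹ = r * u ∧ ⁅y, v⁆ * (r * u) * ⁅y, v⁆⁻¹ = u ∧
      ⁅y, v⁆ * u * ⁅y, v⁆⁻¹ = r := by
  have m : ∀ c, ⁅y, v⁆ * c * ⁅y, v⁆⁻¹ = y * (v * (y⁻¹ * (v⁻¹ * c * v) * y) * v⁻¹) * y⁻¹ :=
    fun c => by rw [commutatorElement_def]; group
  have e1 : v * r * v⁻¹ = r := by rw [h4, mul_inv_cancel_right]
  have e2 : v * (r * u) * v⁻¹ = u := by
    calc _ = v * r * v⁻¹ * (v * u * v⁻¹) := by group
      _ = u := by rw [e1, h5, h.rru]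
  have e3 : v⁻¹ * r * v = r := by rw [mul_assoc, ← h4, inv_mul_cancel_left]
  have e4 : v⁻¹ * (r * u) * v = u := by rw [← h5]; group
  have e5 : v⁻¹ * u * v = r * u := by
    conv_lhs => rw [← e2]
    group
  exact ⟨by rw [m, e3, h.yr', e2, h.yu], by rw [m, e4, h.yu', e1, h.yr],
    by rw [m, e5, h.yru', h5, h.yru]⟩

theorem Dat.nc4 (h : Dat S r u y x A) (hd : DD d) (h1 : d ∈ C1 y) (h2 : d ∈ C1 v) {m : ℕ}
    (h3 : v ^ 2 ^ m = 1) (h4 : v * r = r * v) (h5 : v * u * v⁻¹ = r * u) : False := by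
  obtain ⟨S', hS⟩ := hd
  have hv := hS.mem_of h3 (mem_C1_symm.1 h2)
  have hk : ⁅y, v⁆ ∈ S' := mul_mem (mem_normalizer_conj (hS.nm (mem_C1_symm.1 h1)) hv) (inv_mem hv)
  obtain ⟨j, hj⟩ := hS.pg ⟨_, hk⟩
  obtain ⟨e1, e2, e3⟩ := h.k_act h4 h5
  exact cyc3 e1 e2 e3 h.ru_ne.1 h.u1.2 (congrArg Subtype.val hj)

theorem Dat.fix_dec (h : Dat S r u y x A) (hv : v ∈ Ns S) (h0 : v ∈ Ns (Four r u))
    (hw : w ∈ Four r u) {f : G} (hf : f ∈ Cs (E4 r u y)) (h6 : w * f ∈ C1 v) :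
    v * w * v⁻¹ = w := by
  have h1 := mem_normalizer_conj (mem_Ns_Cs (h.ns hv h0)) hf
  have h2 := mem_C1_conj.1 (mem_C1_symm.1 h6)
  have e : w⁻¹ * (v * w * v⁻¹) = f * (v * f * v⁻¹)⁻¹ := by
    calc _ = w⁻¹ * (v * (w * f) * v⁻¹) * (v * f * v⁻¹)⁻¹ := by group
      _ = _ := by rw [h2]; group
  have h3 := h.eq_one (mul_mem (inv_mem hw) (mem_normalizer_conj h0 hw))
    (e ▸ (mem_Cs_E4.1 (mul_mem hf (inv_mem h1))).2.2)
  exact (inv_mul_eq_one.1 h3).symm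

theorem Dat.dec2 (h : Dat S r u y x A) (hv : v ∈ S) (h4 : v * r = r * v)
    (h5 : v * u * v⁻¹ = r * u) (hs : s ∈ S ⊓ Cs (Four r u)) (h6 : s ∈ C1 v) :
    s ∈ Cs (E4 r u y) ∨ s * r ∈ Cs (E4 r u y) := by
  obtain ⟨w, hw, f, hf, rfl⟩ := h.dec hs
  have h1 := h.fix_dec (le_normalizer hv) (h.ns_of h4 h5) hw hf.2 h6
  rcases h.mem_four.1 hw with rfl | rfl | rfl | rfl
  · exact Or.inl (by rw [one_mul]; exact hf.2)
  · refine Or.inr ?_
    rw [mul_assoc, ← mem_Cs.1 hf.2 w r_mem_E4, ← mul_assoc, h.r2, one_mul]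
    exact hf.2
  · exact absurd (h5.symm.trans h1) h.ru_ne.2
  · refine absurd (h1.symm.trans ?_) h.ru_ne.2
    calc _ = v * r * v⁻¹ * (v * u * v⁻¹) := by group
      _ = u := by rw [h4, mul_inv_cancel_right, h5, h.rru]

set_option linter.unusedVariables false in
theorem Dat.dd (h : Dat S r u y x A) (hS : IsPGroup 2 S) (hd : DD d)
    (hs : d ∈ S ⊓ Cs (Four r u)) (h6 : d ∈ C1 (x * u * x⁻¹)) : d * r ∈ Cs (E4 r u y) := by
  refine (h.dec2 (mul_mem (mul_mem h.xS h.uS) (inv_mem h.xS)) h.r_ux h.ux.2 hs h6).resolve_left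
    fun h1 => h.nc4 hd (mem_Cs_E4.1 h1).2.2 h6 (m := 1) ?_ h.r_ux h.ux.2
  rw [pow_one, pow_two, h.ux_sq]

theorem Dat.tr (h : Dat S r u y x A) (ht : TC t S) : t * r ∈ Cs (E4 r u y) :=
  h.dd ht.pg ht.dd ⟨ht.mem, mem_Cs_Four.2 ⟨mem_C1_symm.1 (ht.le h.rS), mem_C1_symm.1 (ht.le h.uS)⟩⟩
    (mem_C1_symm.1 (ht.le (mul_mem (mul_mem h.xS h.uS) (inv_mem h.xS))))

theorem Dat.le_ncl (h : Dat S r u y x A) (hv : v ∈ S) (h4 : v * r = r * v)
    (h5 : v * u * v⁻¹ = r * u) : E4 r u y ≤ ncl (zpowers v) (E4 r u y) := by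
  have hn : E4 r u y ≤ Ns (ncl (zpowers v) (E4 r u y)) := le_Ns_ncl
  have h1 : v ∈ ncl (zpowers v) (E4 r u y) := le_ncl' (mem_zpowers v)
  have h2 : r ∈ ncl (zpowers v) (E4 r u y) := by
    have := mul_mem h1 (mem_normalizer_conj (hn u_mem_E4) (inv_mem h1))
    rwa [show v * (u * v⁻¹ * u⁻¹) = v * u * v⁻¹ * u⁻¹ by group, h5, mul_inv_cancel_right] at this
  have h3 : u ∈ ncl (zpowers v) (E4 r u y) := by
    have := mem_normalizer_conj (hn y_mem_E4) h2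
    rwa [h.yr] at this
  have h6 := Four_le_iff.2 ⟨h2, h3⟩
  refine E4_le_iff.2 ⟨h2, h3, ?_⟩
  have h7 : ⁅y, v⁆ ∈ ncl (zpowers v) (E4 r u y) :=
    mul_mem (mem_normalizer_conj (hn y_mem_E4) h1) (inv_mem h1)
  have h8 : ⁅y, v⁆ ∈ E4 r u y := by
    have := mul_mem y_mem_E4
      (mem_normalizer_conj (h.ns (le_normalizer hv) (h.ns_of h4 h5)) (inv_mem y_mem_E4))
    simpa [commutatorElement_def, mul_assoc] using this
  obtain ⟨w, hw, e | e | e⟩ := h.mem_E4 h8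
  · have := (h.k_act h4 h5).1
    rw [e, ← mem_Cs.1 (h.four_le hw).2 r r_mem_Four, mul_inv_cancel_right] at this
    exact absurd this.symm h.ru_ne.1
  · rw [e] at h7
    exact (mul_mem_cancel_left (h6 hw)).1 h7
  · rw [e] at h7
    exact (inv_mem_iff (x := y)).1 ((mul_mem_cancel_left (h6 hw)).1 h7)

theorem Dat.res (h : Dat S r u y x A) : O2 (E4 r u y) = E4 r u y := by
  refine le_antisymm (Local.resOf_le _) ?_
  have hn : E4 r u y ≤ Ns (O2 (E4 r u y)) := Local.le_normalizer_resOf _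
  have h1 : y ∈ O2 (E4 r u y) := Local.mem_resOf y_mem_E4
    (Nat.Coprime.coprime_dvd_left (orderOf_dvd_of_pow_eq_one h.y3) (by norm_num))
  have h2 : r * u ∈ O2 (E4 r u y) := by
    have := mul_mem (mem_normalizer_conj (hn r_mem_E4) h1) (inv_mem h1)
    rwa [show r * y * r⁻¹ * y⁻¹ = r * (y * r * y⁻¹)⁻¹ by group, h.yr, inv_eq_of_sq h.u2] at this
  have h3 := mem_normalizer_conj (hn y_mem_E4) h2
  rw [h.yru] at h3
  have h4 := mem_normalizer_conj (hn y_mem_E4) h3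
  rw [h.yr] at h4
  exact E4_le_iff.2 ⟨h3, h4, h1⟩

theorem Dat.le_KS (h : Dat S r u y x A) : E4 r u y ≤ KS S r :=
  le_sSup ⟨_, _, _, _, h, rfl⟩

theorem KS_le_iff : KS S r ≤ X ↔ ∀ v y x A, Dat S r v y x A → E4 r v y ≤ X := by
  refine ⟨fun h v y x A h1 => h1.le_KS.trans h, fun h => sSup_le ?_⟩
  rintro _ ⟨v, y, x, A, h1, rfl⟩
  exact h v y x A h1

theorem cj_KS_le (g : G) (S : Subgroup G) (r : G) : cj g (KS S r) ≤ KS (cj g S) (g * r * g⁻¹) := by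
  refine cj_le_iff_le_cj_inv.2 (KS_le_iff.2 fun v y x A h => cj_le_iff_le_cj_inv.1 ?_)
  rw [E4_cj]
  exact (h.cj g).le_KS

theorem KS_cj (g : G) (S : Subgroup G) (r : G) : KS (cj g S) (g * r * g⁻¹) = cj g (KS S r) := by
  refine le_antisymm (cj_inv_le_iff_le_cj.1 ?_) (cj_KS_le g S r)
  have := cj_KS_le g⁻¹ (cj g S) (g * r * g⁻¹)
  rwa [cj_inv_cj, show g⁻¹ * (g * r * g⁻¹) * g⁻¹⁻¹ = r by group] at this

theorem ns_KS (h1 : g ∈ Ns S) (h2 : g ∈ C1 r) : g ∈ Ns (KS S r) := by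
  rw [mem_Ns_iff, ← KS_cj, mem_Ns_iff.1 h1, mem_C1_conj.1 h2]

theorem KS_res : O2 (KS S r) = KS S r :=
  le_antisymm (Local.resOf_le _) (KS_le_iff.2 fun _ _ _ _ h =>
    h.res.ge.trans (Local.resOf_mono h.le_KS))

theorem exists_of_KS (h : KS S r ≠ ⊥) : ∃ u, Da S r u := by
  by_contra hc
  exact h (eq_bot_iff.2 (KS_le_iff.2 fun v y x A h1 => absurd ⟨v, y, x, A, h1⟩ hc))

theorem mem_Cs_KS : g ∈ Cs (KS S r) ↔ ∀ v y x A, Dat S r v y x A → g ∈ Cs (E4 r v y) := by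
  simp only [mem_Cs_iff_le, KS_le_iff]

theorem mem_ns_KS (h : ∀ v y x A, Dat S r v y x A → g ∈ Ns (E4 r v y)) : g ∈ Ns (KS S r) := by
  refine ns_sSup ?_
  rintro _ ⟨v, y, x, A, h1, rfl⟩
  rw [mem_Ns_iff.1 (h v y x A h1)]
  exact h1.le_KS

end Cfsg.Lib.Bau
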