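import Cfsg.Agent.Bau.LvB
import Cfsg.Agent.Bau.Prod

/-! A live pair below the Thompson subgroup is swapped, over the field with two elements. -/

set_option autoImplicit false
set_option linter.unusedSectionVars false
set_option linter.unusedVariables false

open scoped commutatorElement

namespace Cfsg.Lib.Bau

open Cfsg Subgroup Cfsg.Lib.Trans Cfsg.Lib.Trans.TJ Cfsg.Lib.Gold Cfsg.Lib.Gomi

universe u

variable {G : Type u} [Group G] [Finite G]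
  {A A' B C E H J J' K L L' L₁ L₂ M P S S' T V V' W W' X α δ : Subgroup G}
  {a b c d e g k n r r' s t t' u u' v w x x' y y' z z' : G}

theorem dd1_ns_iSup (A V : Subgroup G) : A ≤ Ns (⨆ a : A, cj (a : G) V) := fun b hb => by
  refine mem_normalizer_of_cj_le ?_
  rw [cj_iSup]
  refine iSup_le fun a => ?_
  rw [cj_cj]
  exact le_iSup (fun a : A => cj (a : G) V) ⟨b * a, mul_mem hb a.2⟩

theorem dd1_le_iSup (A V : Subgroup G) : V ≤ ⨆ a : A, cj (a : G) V :=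
  (cj_one V).ge.trans (le_iSup (fun a : A => cj (a : G) V) 1)

theorem dd1_cyc {Γ : Type*} [Group Γ] [IsCyclic Γ] {a b : Γ} (ha : a * a = 1) (hb : b * b = 1)
    (a1 : a ≠ 1) (b1 : b ≠ 1) : a = b := by
  obtain ⟨g, hg⟩ := IsCyclic.exists_generator (α := Γ)
  obtain ⟨i, rfl⟩ := mem_zpowers_iff.1 (hg a)
  obtain ⟨j, rfl⟩ := mem_zpowers_iff.1 (hg b)
  rw [← zpow_add, ← orderOf_dvd_iff_zpow_eq_one] at ha hb
  rw [Ne, ← orderOf_dvd_iff_zpow_eq_one] at a1 b1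
  obtain ⟨k, hk⟩ := ha
  obtain ⟨l, hl⟩ := hb
  rcases Int.even_or_odd' k with ⟨k, rfl | rfl⟩
  · exact (a1 ⟨k, by linarith⟩).elim
  rcases Int.even_or_odd' l with ⟨l, rfl | rfl⟩
  · exact (b1 ⟨l, by linarith⟩).elim
  rw [← mul_inv_eq_one, ← zpow_neg, ← zpow_add, ← orderOf_dvd_iff_zpow_eq_one]
  exact ⟨k - l, by linarith⟩

theorem dd_swap (h : Live J V W) (hS : IsPGroup 2 S) (hJ : J ≤ S) (hm : HM S J V W)
    (hA : Mx (S ⊓ Ns J) A) (h1 : ¬ A ≤ J) : ∃ x ∈ A, cj x V = W := by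
  by_contra hn
  push Not at hn
  have h2 : (⨆ a : A, cj (a : G) V) ≤ YY J V := iSup_le fun a => by
    have h' := h.ap.cj_ns (hA.le a.2).2
    rcases ap1 h.ap h' with ⟨e, -⟩ | ⟨e, -⟩ | e
    · exact e.le.trans h.ap.V_le_YY
    · exact (hn a a.2 e).elim
    · exact le_sup_left.trans (h.ap.le_YY h' e)
  have hP : J ⊔ A ≤ S ⊓ Ns J := sup_le (le_inf hJ le_normalizer) hA.le
  have h3 := hm (⨆ a : A, cj (a : G) V) (J ⊔ A) (dd1_le_iSup A V)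
    (h2.trans (JJ_le.trans inf_le_left)) le_sup_left hP
    (sup_le (fun j hj => by
      refine mem_normalizer_of_cj_le ?_
      rw [cj_iSup]
      exact iSup_mono fun a => (mem_Ns_iff.1 ((h.ap.cj_ns (hA.le a.2).2).nV hj)).le)
      (dd1_ns_iSup A V))
    (fun l hl => mem_normalizer_of_cj_le (cj_le_iff.2 fun c hc => by
      have h4 := dd1_le_iSup A V (h.comm_YY (commutator_mem_commutator (h2 hc) hl))
      have e : l * c * l⁻¹ = ⁅c, l⁆⁻¹ * c := by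
        simp only [commutatorElement_def]
        group
      rw [e]
      exact mul_mem (inv_mem h4) hc))
  exact h1 (h3 ▸ mx_le_J (hA.of_le le_sup_right hP))

theorem dd_triv (h : Live J V W) (hx : cj x V = W) (hx' : cj x W = V) (ha : Triv V W a)
    (h2 : a * a = 1) (hc : a * x = x * a) : a ∈ Cs (UU V W) := by
  obtain ⟨w, hw, v, hv, h3, h4, h5, h6⟩ := h.exists_cent2 ha
  have hv' := h.UU_le hv
  have hw' := h.symm.UU_le hw
  by_cases c1 : w ∈ V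
  · exact (mul_mem_cancel_right (Cs_anti h.UU_le (h.ap.cs c1))).1 h3
  by_cases c2 : v ∈ W
  · have h7 := (mul_mem_cancel_right (Cs_anti h.symm.UU_le (h.symm.ap.cs c2))).1 h4
    have e : cj x (UU W V) = UU V W := by rw [← UU_cj, hx, hx']
    rw [← e, ← cj_Cs, ← mul_inv_cancel_right a x, hc]
    exact conj_mem_cj.2 h7
  exfalso
  obtain ⟨F, _, _, hp, -⟩ := h.par
  obtain ⟨r, hr, h7⟩ := h.p1 (mul_mem (mul_mem ha.nV (h.ap.nV (h.ap.lW hw'))) (le_normalizer hv'))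
    h5 h6
  have r1 := h.R_le hr
  have cv := mem_Cs.1 h5 v hv
  have cw := mem_Cs.1 h6 w hw
  have cr := mem_Cs.1 h5 r r1.1.1
  have v2 := h.ap.sq hv'
  have w2 := h.symm.ap.sq hw'
  have e1 := h.ap.ab.mul_sq hv' hw'
  generalize hb : a * w * v = b at *
  have e2 : a = b * (v * w) := by
    rw [← hb]
    calc a = a * (w * w) := by rw [w2, mul_one]
      _ = a * w * (v * v) * w := by rw [v2]; group
      _ = _ := by group
  have e3 : v * w * b = b * (v * w) := by rw [mul_assoc, cw, ← mul_assoc, cv, mul_assoc]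
  have e4 : b * b * ⁅v, w⁆ = 1 := by
    rw [← e1, ← h2, e2]
    calc b * b * (v * w * (v * w)) = b * (b * (v * w)) * (v * w) := by group
      _ = b * (v * w * b) * (v * w) := by rw [e3]
      _ = _ := by group
  have e5 : b * r * (b * r) = b * b := by
    calc b * r * (b * r) = b * (r * b) * r := by group
      _ = b * b * (r * r) := by rw [cr]; group
      _ = _ := by rw [h.ap.sq r1.2.1, mul_one]
  have h8 : ⁅v, w⁆ ∈ Cs (EE V W) := by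
    rw [eq_inv_of_mul_eq_one_right e4, ← e5]
    exact inv_mem (mul_mem h7 h7)
  exact hp.comm_not_mem hv' c2 hw' c1 (h.inf_Cs ⟨(h.ap.ab.comm_mem hv' hw').1, h8⟩)

theorem dd1_fix (h : Live J V W) (hA : Mx (S ⊓ Ns J) A) (hxA : x ∈ A) (hx : cj x V = W)
    (hx' : cj x W = V) : ∃ u ∈ V, u ∉ W ∧ A ⊓ Ns V ≤ C1 u := by
  obtain ⟨Γ, _, _, σ, -, h1, -, h2⟩ := h.sig
  have hm : ∀ a ∈ A ⊓ Ns V, a ∈ Ns V ⊓ Ns W := fun a ha =>
    ⟨ha.2, h.ap.ns (hA.le ha.1).2 ha.2⟩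
  have h3 : ∀ a (ha : a ∈ A ⊓ Ns V), σ ⟨a, hm a ha⟩ = 1 → a ∈ Cs (UU V W) := fun a ha e =>
    dd_triv h hx hx' (h1 _ e ⟨1, by rw [pow_one, sq]; exact mx_sq hA ha.1⟩) (mx_sq hA ha.1)
      (mem_Cs.1 (mx_cs hA hxA) a ha.1)
  by_cases h4 : ∀ a (ha : a ∈ A ⊓ Ns V), σ ⟨a, hm a ha⟩ = 1
  · obtain ⟨u, hu, hu'⟩ := SetLike.not_le_iff_exists.1 h.UU_not
    exact ⟨u, h.UU_le hu, hu', fun a ha => Cs_le_C1 hu (h3 a ha (h4 a ha))⟩
  push Not at h4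
  obtain ⟨a₀, ha₀, h4⟩ := h4
  obtain ⟨u, hu, hu', h5⟩ := h2 _ (mx_sq hA ha₀.1) h4
  have h6 : a₀ ∈ C1 u := mem_C1.2 (mem_C1.1 h5).symm
  have hsq : ∀ a (ha : a ∈ A ⊓ Ns V), σ ⟨a, hm a ha⟩ * σ ⟨a, hm a ha⟩ = 1 := fun a ha => by
    rw [← map_mul, ← map_one σ]
    exact congrArg σ (Subtype.ext (mx_sq hA ha.1))
  refine ⟨u, h.UU_le hu, hu', fun a ha => ?_⟩
  by_cases h7 : σ ⟨a, hm a ha⟩ = 1
  · exact Cs_le_C1 hu (h3 a ha h7)
  · refine (mul_mem_cancel_right h6).1 (Cs_le_C1 hu (h3 _ (mul_mem ha ha₀) ?_))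
    rw [← hsq a₀ ha₀]
    nth_rewrite 1 [← dd1_cyc (hsq a ha) (hsq a₀ ha₀) h7 h4]
    exact map_mul σ ⟨a, hm a ha⟩ ⟨a₀, hm a₀ ha₀⟩

theorem dd1 (h : Live J V W) (hS : IsPGroup 2 S) (hJ : J ≤ S) (hm : HM S J V W) (hne : JJ S ≠ J) :
    ∃ x A, Sw S J V W x A := by
  obtain ⟨A, hA, hAJ⟩ := exists_mx_not_le hS hJ h.ap.jj hne
  obtain ⟨x, hxA, hx⟩ := dd_swap h hS hJ hm hA hAJ
  have x2 := mx_sq hA hxA
  have hx' : cj x W = V := by rw [← hx, cj_cj, x2, cj_one]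
  obtain ⟨u, hu, hu', hc⟩ := dd1_fix h hA hxA hx hx'
  have xn : x ∉ A ⊓ Ns V := fun h1 => h.ap.nle ((mem_Ns_iff.1 h1.2).symm.trans hx).le
  obtain ⟨A₁, h0, h1, xn', hcard, -⟩ :=
    exists_index_two (fun _ ha => mx_sq hA ha) inf_le_left hxA xn
  have fx : ∀ a ∈ A, x * a * x⁻¹ = a := fun a ha =>
    mul_inv_eq_iff_eq_mul.2 (mem_Cs.1 (mx_cs hA ha) x hxA)
  have nW : ∀ a ∈ A₁, cj a V ≠ W := fun a ha e => xn' ((mul_mem_cancel_right ha).1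
    (h0 ⟨mul_mem hxA (h1 ha), mem_Ns_iff.2 (by rw [cj_mul, e, hx'])⟩))
  have c1 : ∀ a ∈ A₁, a ∉ A ⊓ Ns V → cj a V ≤ Cs V ⊓ Cs W := fun a ha hn => by
    rcases ap1 h.ap (h.ap.cj_ns (hA.le (h1 ha)).2) with ⟨e, -⟩ | ⟨e, -⟩ | e
    · exact (hn ⟨h1 ha, mem_Ns_iff.2 e⟩).elim
    · exact (nW a ha e).elim
    · exact le_sup_left.trans e
  have c2 : ∀ a ∈ A₁, cj a V ≤ Cs V := fun a ha => by
    by_cases hn : a ∈ A ⊓ Ns V
    · rw [mem_Ns_iff.1 hn.2]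
      exact h.ap.cs
    · exact (c1 a ha hn).trans inf_le_left
  have ea : IsElementaryAbelian 2 (⨆ a : A₁, cj (a : G) V) :=
    ea_iSup (fun a => ea_map (ea_iff.2 ⟨fun _ h1 _ h2 => mem_Cs.1 (h.ap.cs h2) _ h1,
      fun _ h1 => (sq _).trans (h.ap.sq h1)⟩) _) fun a b => by
      have := cj_mono (b : G) (c2 _ (mul_mem (inv_mem b.2) a.2))
      rwa [cj_cj, mul_inv_cancel_left, cj_Cs] at this
  have hA₁ : A₁ ≤ Cs A₁ := (h1.trans (mx_cs hA)).trans (Cs_anti h1)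
  obtain ⟨v, hv, h2, h3⟩ := prod (hS.to_le (h1.trans (hA.le.trans inf_le_left))) hA₁ h0
    (ea_le_centralizer ea) (dd1_ns_iSup A₁ V) (dd1_le_iSup A₁ V hu) hc
  have vJ : v ∈ J := (iSup_le fun a : A₁ => (h.ap.cj_ns (hA.le (h1 a.2)).2).lV :
    (⨆ a : A₁, cj (a : G) V) ≤ J) hv
  have v2 : v * v = 1 := (sq v).symm.trans (ea_pow ea hv)
  have vC : v ∈ Cs A₁ := mem_Cs.2 fun a ha => mem_C1.1 (h2 ha)
  have h4 := h3 (Cs V ⊓ Cs W) fun a ha hn => c1 a ha hn (conj_mem_cj.2 hu)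
  have vA : v ∉ A₁ := fun h5 => by
    have h6 : v ∈ Cs V := (mul_mem_cancel_right (inv_mem (h.ap.cs hu))).1 h4.1
    have h7 : x * (v * u⁻¹) * x⁻¹ ∈ Cs V := by
      rw [← hx', ← cj_Cs]
      exact conj_mem_cj.2 h4.2
    have h8 : x * u * x⁻¹ ∈ Cs V := by
      have e : x * u * x⁻¹ = (x * (v * u⁻¹) * x⁻¹)⁻¹ * (x * v * x⁻¹) := by group
      rw [e, fx v (h1 h5)]
      exact mul_mem (inv_mem h7) h6
    have h9 := h.symm.ap.mem_of_cs (hx ▸ conj_mem_cj.2 hu) h8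
    rw [← hx'] at h9
    exact hu' (conj_mem_cj.1 h9)
  have hle : A₁ ⊔ zpowers v ≤ S ⊓ Ns J :=
    sup_le (h1.trans hA.le) (zpowers_le.2 ⟨hJ vJ, le_normalizer vJ⟩)
  have m1 : Mx (S ⊓ Ns J) (A₁ ⊔ zpowers v) := hA.of_card_le hle
    (ea_sup (ea_mono hA.ea h1) (ea_zpowers ((sq v).trans v2)) (le_Cs_comm.2 (zpowers_le.2 vC)))
    (by rw [card_sup_zpowers v2 vC vA, hcard])
  have h5 : A₁ ⊔ zpowers v ≤ J := by
    by_contra h5
    obtain ⟨y, hy, e⟩ := dd_swap h hS hJ hm m1 h5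
    rcases (mem_sup_zpowers v2 (Cs_le_Ns vC)).1 hy with h6 | h6
    · exact nW y h6 e
    · exact nW _ h6 (by rw [cj_mul, mem_Ns_iff.1 (h.ap.nV vJ), e])
  obtain rfl : v = u := mul_inv_eq_one.1 (mem_bot.1 (h3 ⊥ fun a ha hn =>
    (hn ⟨h1 ha, h.ap.nV (h5 (mem_sup_left ha))⟩).elim))
  have m2 : Mx J (A₁ ⊔ zpowers v) := m1.of_le h5 (le_inf hJ le_normalizer)
  have h6 : V ≤ A₁ ⊔ zpowers v := (h.ap.cov _ m2).resolve_right fun h6 =>
    hu' (h.ap.mem_of_cs hu (Cs_anti h6 (mx_cs m2 (mem_sup_right (mem_zpowers v)))))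
  have h7 : ∀ z ∈ V, z ∈ A₁ → z ∈ W := fun z hz hz' => by
    rw [← fx z (h1 hz'), ← hx]
    exact conj_mem_cj.2 hz
  have h8 : A₁ ≤ Cs V := (le_sup_left.trans (mx_cs m2)).trans (Cs_anti h6)
  refine ⟨x, A₁, (hA.le hxA).1, x2, hx, ?_, fun a ha => ⟨⟨⟨h5 (mem_sup_left ha), h8 ha⟩, ?_⟩,
    mem_C1.2 (mem_Cs.1 (mx_cs hA hxA) a (h1 ha))⟩, ?_, fun z hz => ?_⟩
  · refine relIndex_eq_two_iff_exists_notMem_and.2 ⟨v, hu, fun h9 => hu' h9.2, fun b hb => ?_⟩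
    rcases (mem_sup_zpowers v2 (Cs_le_Ns vC)).1 (h6 hb) with h9 | h9
    · exact .inr ⟨hb, h7 b hb h9⟩
    · exact .inl ⟨mul_mem hb hu, h7 _ (mul_mem hb hu) h9⟩
  · rw [← fx a (h1 ha), ← hx, ← cj_Cs]
    exact conj_mem_cj.2 (h8 ha)
  · rwa [show V ⊔ A₁ = A₁ ⊔ zpowers v from le_antisymm (sup_le h6 le_sup_left)
      (sup_le le_sup_right ((zpowers_le.2 hu).trans le_sup_left))]
  · refine ((mem_sup_zpowers v2 (Cs_le_Ns vC)).1 (h6 hz.1)).resolve_right fun h9 => hu' ?_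
    exact (mul_mem_cancel_left (show z ∈ W from hz.2)).1 (h7 _ (mul_mem hz.1 hu) h9)

end Cfsg.Lib.Bau
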