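import Cfsg.Agent.Bau.LvB
import Cfsg.Agent.Bau.Dat

set_option autoImplicit false
set_option linter.unusedSectionVars false

open scoped commutatorElement

namespace Cfsg.Lib.Bau

open Cfsg Subgroup Cfsg.Lib.Trans Cfsg.Lib.Trans.TJ Cfsg.Lib.Gold Cfsg.Lib.Gomi

universe u

variable {G : Type u} [Group G] [Finite G]
  {A A' B C E H J J' K L L' L₁ L₂ M P S S' T V V' W W' X α δ : Subgroup G}
  {a b c d e g k n r r' s t t' u u' v w x x' y y' z z' : G}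

namespace Dd2

theorem two (h : (V ⊓ W).relIndex V = 2) {v' : G} (hv : v ∈ V) (hv' : v' ∈ V) (n : v ∉ W)
    (n' : v' ∉ W) : v⁻¹ * v' ∈ V ⊓ W :=
  (mul_mem_iff_of_index_two h (a := ⟨v⁻¹, inv_mem hv⟩) (b := ⟨v', hv'⟩)).2
    (iff_of_false (fun e => n (inv_mem_iff.1 e.2)) fun e => n' e.2)

theorem comm_eq (ab : AB V W) (h : (V ⊓ W).relIndex V = 2) {v' : G} (hv : v ∈ V) (hv' : v' ∈ V)
    (n : v ∉ W) (n' : v' ∉ W) (hw : w ∈ W) : ⁅v', w⁆ = ⁅v, w⁆ := by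
  have e := ab.comm_Z (mem_sup_right hw) (two h hv hv' n n')
  calc ⁅v', w⁆ = v * (v⁻¹ * v' * w) * v'⁻¹ * w⁻¹ := by rw [commutatorElement_def]; group
    _ = _ := by rw [e, commutatorElement_def]; group

theorem ker (h : Live J V W) (hU : UU V W = Four r u) (hg : g ∈ LL V W) (h1 : g * r * g⁻¹ = r)
    (h2 : g * u * g⁻¹ = u) : g ∈ V := by
  have : V ≤ C1 g := h.V_le.trans (sup_le (hU.le.trans ((closure_le _).2 (Set.pair_subset
    (mem_C1.2 (mul_inv_eq_iff_eq_mul.1 h1).symm) (mem_C1.2 (mul_inv_eq_iff_eq_mul.1 h2).symm))))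
    (ZZ_le_Cs.trans (Cs_le_C1 hg)))
  exact h.ker hg fun v hv => by
    rw [commutatorElement_eq_one_iff_mul_comm.2 (mem_C1.1 (this hv)).symm]; exact one_mem _

theorem ex (h : Live J V W) (h2 : (V ⊓ W).relIndex V = 2) (h2' : (W ⊓ V).relIndex W = 2) :
    ∃ r u y, r ∈ V ⊓ W ∧ u ∈ V ∧ u ∉ W ∧ y ∈ LL V W ∧ y ^ 3 = 1 ∧ y * r * y⁻¹ = u ∧
      y * u * y⁻¹ = r * u ∧ UU V W = Four r u ∧
      ∀ v ∈ V, v ∉ W → ∀ w ∈ W, w ∉ V → w * v * w⁻¹ = r * v := by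
  have ab := h.ap.ab
  obtain ⟨v₀, hv₀, nv₀⟩ := ab.exists_A
  obtain ⟨w, hw, nw⟩ := ab.exists_B
  obtain ⟨r, er⟩ : ∃ r, r = ⁅v₀, w⁆ := ⟨_, rfl⟩
  have hr : r ∈ V ⊓ W := er ▸ ab.comm_mem hv₀ hw
  have hR : ∀ v ∈ V, v ∉ W → ∀ w' ∈ W, w' ∉ V → ⁅v, w'⁆ = r := fun v hv nv w' hw' nw' => by
    rw [comm_eq ab h2 hv₀ hv nv₀ nv hw', ← commutatorElement_inv,
      comm_eq ab.symm h2' hw hw' nw nw' hv₀, commutatorElement_inv, er]
  have hR' : ∀ v ∈ V, v ∉ W → ∀ w ∈ W, w ∉ V → w * v * w⁻¹ = r * v := fun v hv nv w' hw' nw' => by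
    rw [ab.commA hr.1 hv, ← hR v hv nv w' hw' nw', commutatorElement_def,
      inv_eq_of_sq (ab.sqA v hv), ← mul_assoc, ← mul_assoc, ← mul_assoc, ab.sqA v hv, one_mul]
  have eR : ⁅V, W⁆ = zpowers r := by
    refine le_antisymm (commutator_le.2 fun v hv w' hw' => ?_)
      (zpowers_le.2 (er ▸ commutator_mem_commutator hv₀ hw))
    by_cases n1 : v ∈ W
    · rw [commutatorElement_eq_one_iff_mul_comm.2 (ab.symm.commA n1 hw')]; exact one_mem _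
    by_cases n2 : w' ∈ V
    · rw [commutatorElement_eq_one_iff_mul_comm.2 (ab.commA hv n2)]; exact one_mem _
    exact hR v hv n1 w' hw' n2 ▸ mem_zpowers r
  have key : ∀ g ∈ LL V W, g ∉ Ns (V ⊔ W) → g * r * g⁻¹ ∈ V ∧ g * r * g⁻¹ ∉ W := fun g hg hn =>
    ⟨mem_normalizer_conj (LL_le ab hg) hr.1, fun e => hn (h.hV.ln.mem_ns h.zd' hg
      (h.OZ_sup.ge hr) (fun c => h.R_not (eR.le.trans (zpowers_le.2 c)))
      (h.OZ_sup.ge ⟨mem_normalizer_conj (LL_le ab hg) hr.1, e⟩))⟩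
  obtain ⟨g, hg, hn⟩ := h.exists_opp
  have hg' : g ∈ LL V W := Local.resOf_le _ hg
  obtain ⟨u, eu⟩ : ∃ u, u = g * r * g⁻¹ := ⟨_, rfl⟩
  obtain ⟨hu, nu⟩ : u ∈ V ∧ u ∉ W := eu ▸ key g hg' hn
  have hU : UU V W = Four r u := by
    have := h.hV.ln.U_eq h.zd' hg' hn
    rw [h.hV.vv, h.R_eq, eR, cj_zpowers, ← eu] at this
    rw [UU, this, Four, Set.insert_eq, Subgroup.closure_union, ← zpowers_eq_closure, ← zpowers_eq_closure]
  have a1 : w * r * w⁻¹ = r := mul_inv_eq_iff_eq_mul.2 (ab.symm.commA hw hr.2)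
  have a2 := hR' u hu nu w hw nw
  have a3 := hR' _ (key _ (inv_mem hg') fun e => hn (inv_mem_iff.1 e)).1
    (key _ (inv_mem hg') fun e => hn (inv_mem_iff.1 e)).2 w hw nw
  obtain ⟨l, el⟩ : ∃ l, l = w * (g * w * g⁻¹) := ⟨_, rfl⟩
  have hl : l ∈ LL V W :=
    el ▸ mul_mem (B_le_LL hw) (mul_mem (mul_mem hg' (B_le_LL hw)) (inv_mem hg'))
  have r2 := ab.sqA r hr.1
  have u2 := ab.sqA u hu
  have ru := ab.commA hr.1 hu
  have l1 : l * r * l⁻¹ = u := by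
    calc l * r * l⁻¹ = w * (g * (w * (g⁻¹ * r * g⁻¹⁻¹) * w⁻¹) * g⁻¹) * w⁻¹ := by rw [el]; group
      _ = w * u * w⁻¹ * (w * r * w⁻¹) := by rw [a3, eu]; group
      _ = u := by rw [a1, a2, ru, mul_assoc, r2, mul_one]
  have l2 : l * u * l⁻¹ = r * u := by
    calc l * u * l⁻¹ = w * (g * (w * r * w⁻¹) * g⁻¹) * w⁻¹ := by rw [el, eu]; group
      _ = _ := by rw [a1, ← eu, a2]
  have l3 : l * (r * u) * l⁻¹ = r := by
    rw [← conj_mul', l1, l2, ← mul_assoc, ← ru, mul_assoc, u2, mul_one]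
  have hV : l ^ 3 ∈ V := ker h hU (pow_mem hl 3)
    (by calc _ = l * (l * (l * r * l⁻¹) * l⁻¹) * l⁻¹ := by rw [pow_three]; group
      _ = r := by rw [l1, l2, l3])
    (by calc _ = l * (l * (l * u * l⁻¹) * l⁻¹) * l⁻¹ := by rw [pow_three]; group
      _ = u := by rw [l2, l3, l1])
  have k : ∀ t ∈ V, l ^ 4 * t * (l ^ 4)⁻¹ = l * t * l⁻¹ := fun t ht => by
    calc _ = l * (l ^ 3 * t) * (l ^ 3)⁻¹ * l⁻¹ := by group
      _ = _ := by rw [ab.commA hV ht]; group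
  refine ⟨r, u, l ^ 4, hr, hu, nu, pow_mem hl 4, ?_, (k r hr.1).trans l1, (k u hu).trans l2, hU, hR'⟩
  calc (l ^ 4) ^ 3 = l ^ 3 * l ^ 3 * (l ^ 3 * l ^ 3) := by group
    _ = 1 := by rw [ab.sqA _ hV, one_mul]

theorem r_mem : r ∈ Four r u := subset_closure (by simp)

theorem u_mem : u ∈ Four r u := subset_closure (by simp)

theorem four_le : Four r u ≤ E4 r u y := closure_mono (by simp [Set.subset_def])

theorem y_mem : y ∈ E4 r u y := subset_closure (by simp)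

theorem mem_four (ru : r * u = u * r) (y3 : y ^ 3 = 1)
    (yr : y * r * y⁻¹ = u) (yu : y * u * y⁻¹ = r * u) (n1 : u ≠ 1) (n2 : u ≠ r)
    (hg : g ∈ E4 r u y) (hc : g * r * g⁻¹ = r) : g ∈ Four r u := by
  have hy : zpowers y ≤ Ns (Four r u) := zpowers_le.2 (mem_normalizer_of_cj_le (by
    rw [Four_cj, yr, yu]
    exact (closure_le _).2 (Set.pair_subset u_mem (mul_mem r_mem u_mem))))
  have : E4 r u y ≤ Four r u ⊔ zpowers y := (closure_le _).2 (Set.insert_subset (mem_sup_left r_mem)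
    (Set.pair_subset (mem_sup_left u_mem) (mem_sup_right (mem_zpowers y))))
  obtain ⟨w, hw, t, ht, rfl⟩ := (Trans.mem_sup_of_le_normalizer hy).1 (this hg)
  have hF : Four r u ≤ C1 r := (closure_le _).2 (Set.pair_subset (mem_C1.2 rfl) (mem_C1.2 ru.symm))
  have e : t * r * t⁻¹ = r := by
    calc _ = w⁻¹ * (w * t * r * (w * t)⁻¹) * w := by group
      _ = r := by rw [hc, mul_assoc, ← mem_C1.1 (hF hw), inv_mul_cancel_left]
  obtain ⟨m, rfl⟩ := (mem_powers_iff_mem_zpowers.2 ht)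
  dsimp only at e ⊢
  rw [pow_eq_pow_mod m y3] at e ⊢
  obtain h | h | h : m % 3 = 0 ∨ m % 3 = 1 ∨ m % 3 = 2 := by omega
  · rwa [h, pow_zero, mul_one]
  · rw [h, pow_one, yr] at e
    exact absurd e n2
  · have : y ^ 2 * r * (y ^ 2)⁻¹ = y * (y * r * y⁻¹) * y⁻¹ := by rw [sq]; group
    rw [h, this, yr, yu] at e
    exact absurd (mul_eq_left.1 e) n1

theorem ns_E4 (h : Live J V W) (hr : r ∈ V ⊓ W) (hu : u ∈ V) (nu : u ∉ W) (hy : y ∈ LL V W)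
    (y3 : y ^ 3 = 1) (yr : y * r * y⁻¹ = u) (yu : y * u * y⁻¹ = r * u) (hU : UU V W = Four r u)
    (hR : ∀ v ∈ V, v ∉ W → ∀ w ∈ W, w ∉ V → w * v * w⁻¹ = r * v) : W ≤ Ns (E4 r u y) := by
  have ab := h.ap.ab
  have r2 := ab.sqA r hr.1
  have u2 := ab.sqA u hu
  have ru := ab.commA hr.1 hu
  have hF : Four r u ≤ V := hU.ge.trans h.UU_le
  have hN : E4 r u y ≤ LL V W := (closure_le _).2 (Set.insert_subset (B_le_LL hr.2)
    (Set.pair_subset (yr ▸ mul_mem (mul_mem hy (B_le_LL hr.2)) (inv_mem hy)) hy))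
  intro s hs
  have a1 : s * r * s⁻¹ = r := mul_inv_eq_iff_eq_mul.2 (ab.symm.commA hs hr.2)
  have hk : s * u * s⁻¹ ∈ Four r u ∧ ∃ t ∈ E4 r u y, s * y * s⁻¹ * t ∈ V := by
    by_cases n : s ∈ V
    · refine ⟨by rw [ab.commA n hu, mul_inv_cancel_right]; exact u_mem, y⁻¹, inv_mem y_mem, ?_⟩
      have := mul_mem n (mem_normalizer_conj (LL_le ab hy) (inv_mem n))
      simpa only [mul_assoc] using this
    · have a2 := hR u hu nu s⁻¹ (inv_mem hs) fun e => n (inv_mem_iff.1 e)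
      have a3 := hR u hu nu s hs n
      have y1 : y * (r * u) * y⁻¹ = r := by
        rw [← conj_mul', yr, yu, ← mul_assoc, ← ru, mul_assoc, u2, mul_one]
      have a4 : s⁻¹ * (r * u) * s⁻¹⁻¹ = u := by
        calc _ = s⁻¹ * (s * u * s⁻¹) * s := by rw [a3, inv_inv]
          _ = u := by group
      refine ⟨a3 ▸ mul_mem r_mem u_mem, y, y_mem, ker h hU (mul_mem (mul_mem (mul_mem (B_le_LL hs) hy)
        (inv_mem (B_le_LL hs))) hy) ?_ ?_⟩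
      · calc _ = s * (y * (s⁻¹ * (y * r * y⁻¹) * s⁻¹⁻¹) * y⁻¹) * s⁻¹ := by group
          _ = r := by rw [yr, a2, y1, a1]
      · calc _ = s * (y * (s⁻¹ * (y * u * y⁻¹) * s⁻¹⁻¹) * y⁻¹) * s⁻¹ := by group
          _ = u := by rw [yu, a4, yu, ← conj_mul', a1, a3, ← mul_assoc, r2, one_mul]
  obtain ⟨a2, t, ht, hk⟩ := hk
  obtain ⟨w, hw, c, hc, e⟩ := (Trans.mem_sup_of_le_normalizer
    (ZZ_le_A.trans (h.ap.cs.trans ((Cs_anti hF).trans Cs_le_Ns)))).1 ((hU ▸ h.V_le) hk)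
  refine mem_normalizer_of_cj_le ?_
  rw [E4_cj, a1]
  refine (closure_le _).2 (Set.insert_subset (four_le r_mem) (Set.pair_subset (four_le a2) ?_))
  have hn : w * t⁻¹ ∈ E4 r u y := mul_mem (four_le hw) (inv_mem ht)
  have c1 : Commute (w * t⁻¹) c := mem_Cs.1 (ZZ_le_Cs hc) _ (hN hn)
  have e1 : s * y * s⁻¹ = w * t⁻¹ * c := by
    rw [mul_assoc w, mem_Cs.1 (ZZ_le_Cs hc) _ (hN (inv_mem ht)), ← mul_assoc w, e,
      mul_inv_cancel_right]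
  have e2 : s * y * s⁻¹ = (w * t⁻¹) ^ 4 := by
    calc _ = (s * y * s⁻¹) ^ 4 := by rw [conj_pow, pow_succ, y3, one_mul]
      _ = (w * t⁻¹) ^ 4 * (c * c) ^ 2 := by rw [e1, c1.mul_pow, ← sq, ← pow_mul]
      _ = _ := by rw [ab.sqA c (ZZ_le_A hc), one_pow, mul_one]
  exact e2 ▸ pow_mem hn 4

theorem le_ns (h : Live J V W) (hS : IsPGroup 2 S) (hJ : J ≤ S) (hA : Mx J A) (h1 : V ≤ A)
    (hU : H ≤ V) (h2 : ¬ W ≤ Cs H) : Mx (S ⊓ Cs H) A ∧ Ns (S ⊓ Cs H) ≤ Ns V := by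
  have hle : ∀ A', Mx J A' → V ≤ A' → A' ≤ S ⊓ Cs H ⊓ Ns V := fun A' h3 h4 =>
    le_inf (le_inf (h3.le.trans hJ) ((mx_cs h3).trans (Cs_anti (hU.trans h4))))
      (h3.le.trans h.ap.nV)
  have e1 : JJ (J ⊔ S ⊓ Cs H ⊓ Ns V) = JJ J := (h.hV.wc _ (hS.to_le (sup_le hJ
    (inf_le_left.trans inf_le_left))) le_sup_left (sup_le h.ap.nV inf_le_right)).trans h.ap.jj.symm
  have e2 : ∀ A', Mx (S ⊓ Cs H ⊓ Ns V) A' ↔ Mx J A' ∧ V ≤ A' := fun A' => by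
    rw [mx_up ((mx_of_JJ_eq e1).2 hA) (hle A hA h1) le_sup_right, mx_of_JJ_eq e1]
    exact and_congr_right fun h3 => ⟨fun h4 => (h.ap.cov A' h3).resolve_right fun h5 =>
      h2 ((h5.trans h4).trans (inf_le_left.trans inf_le_right)), hle A' h3⟩
  have e3 : Ns (S ⊓ Cs H ⊓ Ns V) ≤ Ns V := by
    have : OZ (JJ (S ⊓ Cs H ⊓ Ns V)) = V := le_antisymm
      (fun a ha => h.ap.mem_of_all fun A' h3 h4 => mem_OZ_J.1 ha A' ((e2 A').2 ⟨h3, h4⟩))
      fun a ha => mem_OZ_J.2 fun A' h3 => ((e2 A').1 h3).2 ha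
    conv_rhs => rw [← this]
    exact ns_le_JJ.trans ns_le_OZ
  have e4 : S ⊓ Cs H ⊓ Ns V = S ⊓ Cs H := by
    by_contra hc
    exact (lt_inf_normalizer (hS.to_le inf_le_left) (lt_of_le_of_ne inf_le_left hc)).not_ge
      (inf_le_inf_left _ e3)
  rw [e4] at e2 e3
  exact ⟨(e2 A).2 ⟨hA, h1⟩, e3⟩

end Dd2

open Dd2 in
theorem dd2 (h : Live J V W) (hS : IsPGroup 2 S) (hJ : J ≤ S) (hx : Sw S J V W x A) :
    ∃ r u y A', r ∈ V ⊓ W ∧ Dat S r u y x A' ∧ E4 r u y = EE V W := by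
  have ab := h.ap.ab
  have sw' : cj x W = V := by rw [← hx.sw, cj_cj, hx.x2, cj_one]
  have h2' : (W ⊓ V).relIndex W = 2 := by
    have := relIndex_map_map_of_injective (V ⊓ W) V (f := (MulAut.conj x).toMonoidHom)
      (MulAut.conj x).injective
    rwa [cj_def, cj_def, cj_inf, hx.sw, sw', hx.two] at this
  obtain ⟨r, u, y, hr, hu, nu, hy, y3, yr, yu, hU, hR⟩ := ex h hx.two h2'
  have r2 := ab.sqA r hr.1
  have u2 := ab.sqA u hu
  have ru := ab.commA hr.1 hu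
  have n1 : u ≠ 1 := fun e => nu (e ▸ one_mem _)
  have n2 : u ≠ r := fun e => nu (e ▸ hr.2)
  have r1 : r ≠ 1 := fun e => n1 (by rw [← yr, e, mul_one, mul_inv_cancel])
  have hF : Four r u ≤ V := hU.ge.trans h.UU_le
  have hW := ns_E4 h hr hu nu hy y3 yr yu hU hR
  have eE : E4 r u y = EE V W := by
    refine le_antisymm ((closure_le _).2 (Set.insert_subset (h.UU_le_EE (hU.ge r_mem))
      (Set.pair_subset (h.UU_le_EE (hU.ge u_mem)) (Local.mem_resOf hy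
        ((show Nat.Coprime 3 2 by decide).coprime_dvd_left (orderOf_dvd_of_pow_eq_one y3))))))
      (res_le_of O2_O2 ((Local.resOf_le _).trans ?_) (ab.isPGroup.to_le le_sup_right) hW)
    rw [← h.gen2 hy fun e => nu (yr ▸ mem_normalizer_conj (h.ns_W hy e).1 hr.2)]
    exact sup_le le_sup_right (cj_le_of_mem_of_le (mem_sup_left y_mem) le_sup_right)
  obtain ⟨s₀, hs₀, ns₀⟩ := ab.exists_B
  have a0 := hR u hu nu s₀ hs₀ ns₀
  obtain ⟨hm, hN⟩ := le_ns h hS hJ hx.mx le_sup_left hF fun e => r1 (by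
    rw [← mem_Cs.1 (e hs₀) u u_mem, mul_inv_cancel_right] at a0
    exact right_eq_mul.1 a0)
  have d4 : Ns (S ⊓ Cs (Four r u)) ≤ Ns (E4 r u y) := eE ▸ hN.trans ns_le_EE
  have y1 : y * (r * u) * y⁻¹ = r := by
    rw [← conj_mul', yr, yu, ← mul_assoc, ← ru, mul_assoc, u2, mul_one]
  have d1 : ∀ s ∈ S ⊓ Cs (Four r u), ∃ w ∈ Four r u, s * w ∈ C1 y := fun s hs => by
    have c : ∀ w ∈ Four r u, s * w * s⁻¹ = w := fun w hw =>
      mul_inv_eq_iff_eq_mul.2 (mem_Cs.1 hs.2 w hw).symm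
    have hk : s * y * s⁻¹ * y⁻¹ ∈ Four r u := mem_four ru y3 yr yu n1 n2
      (mul_mem (mem_normalizer_conj (d4 (le_normalizer hs)) y_mem) (inv_mem y_mem)) (by
        have e : s⁻¹ * (r * u) * s = r * u := by
          rw [mul_assoc, mem_Cs.1 hs.2 _ (mul_mem r_mem u_mem), inv_mul_cancel_left]
        calc _ = s * (y * (s⁻¹ * (y⁻¹ * (y * (r * u) * y⁻¹) * y) * s) * y⁻¹) * s⁻¹ := by
              rw [y1]; group
          _ = s * (y * (s⁻¹ * (r * u) * s) * y⁻¹) * s⁻¹ := by group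
          _ = r := by rw [e, y1, c r r_mem])
    have k : ∀ w ∈ Four r u, w * (y * w * y⁻¹) = s * y * s⁻¹ * y⁻¹ → y * w * y⁻¹ ∈ Four r u →
        ∃ w ∈ Four r u, s * w ∈ C1 y := fun w hw e hw' => ⟨w, hw, mem_C1.2 (by
      have w2 := ab.sqA _ (hF hw)
      have e1 := c _ (mul_mem hw hw')
      calc s * w * y = s * (w * (y * w * y⁻¹)) * s⁻¹ * (s * y * s⁻¹ * y⁻¹) * (y * (s * w⁻¹)) := by
            group
        _ = y * (s * w) := by
            rw [e1, ← e, ab.sqA _ (hF (mul_mem hw hw')), one_mul, inv_eq_of_sq w2])⟩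
    rcases (mem_Four r2 u2 ru).1 hk with e | e | e | e
    · exact k 1 (one_mem _) (by rw [e]; group) (by simp)
    · exact k u u_mem (by rw [e, yu, ru, ← mul_assoc, u2, one_mul]) (yu ▸ mul_mem r_mem u_mem)
    · exact k _ (mul_mem r_mem u_mem) (by rw [e, y1, ru, mul_assoc, r2, mul_one]) (y1.symm ▸ r_mem)
    · exact k r r_mem (by rw [e, yr]) (yr ▸ u_mem)
  have hA : A ≤ S ⊓ Cs (Four r u) := hx.le.trans (inf_le_left.trans (inf_le_left.trans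
    (inf_le_inf hJ (Cs_anti hF))))
  have eA : Four r u ⊔ A ⊓ C1 y = V ⊔ A := by
    refine le_antisymm (sup_le_sup hF inf_le_left) (sup_le (h.V_le.trans (sup_le_sup hU.le
      (le_inf ((ZZ_le ab).trans hx.ge) (ZZ_le_Cs.trans (Cs_le_C1 hy))))) fun a ha => ?_)
    obtain ⟨w, hw, e⟩ := d1 a (hA ha)
    have hwA : w ∈ A := by
      by_contra hc
      have nw : w ∉ W := fun e => hc (hx.ge ⟨hF hw, e⟩)
      have c1 : a * w ∈ Cs (E4 r u y) :=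
        have := mem_Cs_Four.1 (mul_mem (hA ha).2 (Cs_anti hF (h.ap.cs (hF hw))))
        mem_Cs_E4.2 ⟨this.1, this.2, e⟩
      have c2 := mem_normalizer_conj (mem_Ns_Cs (hW hs₀)) c1
      rw [← conj_mul', hR w (hF hw) nw s₀ hs₀ ns₀, mem_Cs.1 (hx.le ha).1.2 s₀ hs₀,
        mul_inv_cancel_right, ab.commA hr.1 (hF hw), ← mul_assoc, mul_mem_cancel_left c1] at c2
      exact n2 (by rw [← yr, mem_Cs.1 c2 y y_mem, mul_inv_cancel_right])
    have := mul_mem (mem_sup_right (S := Four r u) (show a * w ∈ A ⊓ C1 y from ⟨mul_mem ha hwA, e⟩))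
      (mem_sup_left (inv_mem hw))
    rwa [mul_inv_cancel_right] at this
  refine ⟨r, u, y, A ⊓ C1 y, hr, ⟨hJ (h.ap.lV hr.1), hJ (h.ap.lV hu), hx.xS, r1, r2, u2, ru, y3, yr,
    yu, d1, d4, hx.x2, (mem_C1.1 (hx.le (hx.ge hr)).2).symm, ?_, fun a ha => ⟨⟨(hA ha.1).1, ?_⟩,
    (hx.le ha.1).2⟩, eA ▸ hm⟩, eE⟩
  · have h1 : x * u * x⁻¹ ∈ W := hx.sw ▸ conj_mem_cj.2 hu
    have h2 := hR u hu nu _ h1 fun e => nu (conj_mem_cj.1 (sw'.ge e))
    rw [inv_eq_of_sq (ab.sqB _ h1)] at h2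
    calc _ = u * (x * u * x⁻¹ * u * (x * u * x⁻¹)) := by group
      _ = r := by rw [h2, ru, ← mul_assoc, u2, one_mul]
  · have := mem_Cs_Four.1 (hA ha.1).2
    exact mem_Cs_E4.2 ⟨this.1, this.2, ha.2⟩

end Cfsg.Lib.Bau
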