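import Cfsg.Agent.AB.Auto
import Cfsg.Agent.Trans.PUBlk
import Cfsg.Agent.Trans.PushTr2
import Cfsg.Agent.Trans.AlpOdd
import Cfsg.Agent.Local.Trace
import Cfsg.Prelude.Def_Classical
import Cfsg.Prelude.Def_Sz

/-! Groups with a 2-central involution whose centraliser is 2-closed: definitions. -/

set_option autoImplicit false

open scoped commutatorElement

namespace Cfsg.Lib.Bau

open Cfsg Subgroup Cfsg.Lib.Trans Cfsg.Lib.Trans.TJ Cfsg.Lib.Gold Cfsg.Lib.Gomi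

universe u

variable {G : Type u} [Group G]

/-- Thompson subgroup. -/
abbrev JJ (X : Subgroup G) : Subgroup G := thompsonSubgroupOf 2 X

/-- Baumann subgroup. -/
abbrev BB (X : Subgroup G) : Subgroup G := baumannSubgroupOf 2 X

/-- `Ω₁ Z`. -/
abbrev OZ (X : Subgroup G) : Subgroup G := Local.MSS.omZ 2 X

/-- `O₂`. -/
abbrev QQ (L : Subgroup G) : Subgroup G := pCoreOf 2 L

/-- `Ω₁ Z O₂`. -/
abbrev VV (L : Subgroup G) : Subgroup G := PU.vv 2 L

/-- `O²`. -/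
abbrev O2 (L : Subgroup G) : Subgroup G := Local.resOf 2 L

/-- elementary abelian of maximal order. -/
abbrev Mx (X A : Subgroup G) : Prop := MaxEA 2 X A

/-- `d` is an involution whose centraliser has the normal Sylow subgroup `S` of `G`. -/
structure TC (d : G) (S : Subgroup G) : Prop where
  ne : d ≠ 1
  sq : d * d = 1
  syl : IsSylowIn 2 S ⊤
  le : S ≤ C1 d
  nm : C1 d ≤ Ns S

/-- the involutions with a 2-closed centraliser of odd index. -/
def DD (d : G) : Prop := ∃ S, TC d S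

/-- the centre of `X` has a member of `DD`. -/
def ZD (X : Subgroup G) : Prop := ∃ d ∈ X, DD d ∧ X ≤ C1 d

/-- a point. -/
structure Pt (B : Subgroup G) : Prop where
  zd : ZD B
  bb : BB B = B

/-- the almost simple situation. -/
structure Ctx (K : Subgroup G) (t : G) (S : Subgroup G) : Prop where
  normal : K.Normal
  simple : IsSimpleGroup K
  nonab : ¬ IsMulCommutative K
  sup : K ⊔ zpowers t = ⊤
  cent : Cs K = ⊥
  tc : TC t S

/-- the condition that leads to a unique fixed point. -/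
def HC (S : Subgroup G) : Prop :=
  ∃ M : Subgroup G, M ≠ ⊤ ∧ Ns S ≤ M ∧ ∀ e ∈ S, DD e → C1 e ≤ M

/-- the list. -/
def Lst (H : Type u) [Group H] : Prop :=
  (∃ (F : Type) (_ : Field F) (_ : Fintype F) (n : ℕ), 2 ≤ n ∧ Fintype.card F = 2 ^ n ∧
      (Nonempty (H ≃* Matrix.ProjectiveSpecialLinearGroup (Fin 2) F) ∨
        Nonempty (H ≃* Matrix.ProjectiveSpecialLinearGroup (Fin 3) F) ∨
        Nonempty (H ≃* Cfsg.PSp 2 F))) ∨
    Cfsg.Lie.IsoSuzuki H ∨
    (∃ (F : Type) (_ : Field F) (_ : Fintype F) (n : ℕ), 2 ≤ n ∧ Fintype.card F = (2 ^ n) ^ 2 ∧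
      Nonempty (H ≃* Cfsg.PSU 3 F (2 ^ n))) ∨
    (∃ (F : Type) (_ : Field F) (_ : Fintype F) (n : ℕ), 3 < Fintype.card F ∧
      (Fintype.card F = 2 ^ n + 1 ∨ Fintype.card F + 1 = 2 ^ n) ∧
      Nonempty (H ≃* Matrix.ProjectiveSpecialLinearGroup (Fin 2) F))

/-- the conclusion in the almost simple situation. -/
def Cc (K : Subgroup G) (t : G) : Prop := K = ⊤ ∧ Lst G ∧ ∀ d : G, DD d → IsConj t d

/-- a line `L` on the point `B`. -/
structure Ln (B L : Subgroup G) : Prop where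
  vx : PU.Vx 2 L
  syl : IsSylowIn 2 B L

/-- an amalgam of lines. -/
structure Am (𝒱 : Set (Subgroup G)) : Prop where
  cj : ∀ P ∈ 𝒱, ∀ g, cj g P ∈ 𝒱
  vx : ∀ P ∈ 𝒱, PU.Vx 2 P
  hW : ∀ P ∈ 𝒱, ∀ S, IsSylowIn 2 S P → ¬ P ≤ Ns (PU.wf 2 𝒱 S)

/-- two unlinked lines, the second of which normalises the product of the modules. -/
structure QS (B α δ : Subgroup G) : Prop where
  la : Ln B α
  ld : Ln B δ
  pt : Pt B
  un : VV α ≤ QQ δ
  un' : VV δ ≤ QQ α
  nm : δ ≤ Ns (VV α ⊔ VV δ)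

/-- an atom pair of `J`. -/
structure AP (J V W : Subgroup G) : Prop where
  pg : IsPGroup 2 J
  jj : JJ J = J
  inf : V ⊓ W = OZ J
  lV : V ≤ J
  lW : W ≤ J
  nV : J ≤ Ns V
  nW : J ≤ Ns W
  cov : ∀ A, Mx J A → V ≤ A ∨ W ≤ A
  reg : ∀ v ∈ V, ∀ w ∈ W, v * w = w * v → v ∈ W ∨ w ∈ V
  swV : ∀ A, Mx J A → V ≤ A → A ≤ V ⊔ (A ⊓ Cs W) ∧ Mx J (W ⊔ (A ⊓ Cs W))
  swW : ∀ A, Mx J A → W ≤ A → A ≤ W ⊔ (A ⊓ Cs V) ∧ Mx J (V ⊔ (A ⊓ Cs V))
  nle : ¬ V ≤ W
  nge : ¬ W ≤ V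

/-- the join of the members of `𝒜(J)` over `V`. -/
abbrev YY (J V : Subgroup G) : Subgroup G := JJ (J ⊓ Cs V)

/-- `[A, L]` -/
abbrev UU (A B : Subgroup G) : Subgroup G := ⁅A, LL A B⁆

/-- `O²(L)` -/
abbrev EE (A B : Subgroup G) : Subgroup G := O2 (LL A B)

/-- `J` is the Thompson subgroup of the 2-subgroups over it that normalise `V`. -/
def WC (J V : Subgroup G) : Prop :=
  ∀ P : Subgroup G, IsPGroup 2 P → J ≤ P → P ≤ Ns V → JJ P = J

/-- one half of a live pair. -/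
structure Half (J V W : Subgroup G) : Prop where
  ln : Ln (V ⊔ W) (LL V W)
  vv : VV (LL V W) = V
  qq : QQ (LL V W) = V
  lnJ : Ln J (LL V W ⊔ J)
  vvJ : VV (LL V W ⊔ J) = V
  qqJ : QQ (LL V W ⊔ J) = J ⊓ Cs V
  fr : ∀ n ∈ Ns V, ∃ l ∈ LL V W, ∃ m ∈ Ns J, n = l * m
  wc : WC J V

/-- a live pair. -/
structure Live (J V W : Subgroup G) : Prop where
  ap : AP J V W
  zd : ZD J
  hV : Half J V W
  hW : Half J W V
  par : ∃ (F : Type) (_ : Field F) (_ : Fintype F), HasPar F V W ∧ HasPar F W V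

/-- `x` is trivial on `V / (V ⊓ W)` and on `W / (V ⊓ W)`. -/
structure Triv (V W : Subgroup G) (x : G) : Prop where
  nV : x ∈ Ns V
  nW : x ∈ Ns W
  cV : ∀ v ∈ V, ⁅x, v⁆ ∈ W
  cW : ∀ w ∈ W, ⁅x, w⁆ ∈ V

/-- the maximality condition for a live pair. -/
def HM (S J V W : Subgroup G) : Prop :=
  ∀ C P : Subgroup G, V ≤ C → C ≤ J → J ≤ P → P ≤ S ⊓ Ns J → P ≤ Ns C → LL V W ≤ Ns C → JJ P = J

/-- a swapped pair over the field with two elements. -/
structure Sw (S J V W : Subgroup G) (x : G) (A : Subgroup G) : Prop where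
  xS : x ∈ S
  x2 : x * x = 1
  sw : cj x V = W
  two : (V ⊓ W).relIndex V = 2
  le : A ≤ J ⊓ Cs V ⊓ Cs W ⊓ C1 x
  mx : Mx J (V ⊔ A)
  ge : V ⊓ W ≤ A

/-- a four group. -/
def Four (r u : G) : Subgroup G := closure {r, u}

/-- an alternating group of degree four. -/
def E4 (r u y : G) : Subgroup G := closure {r, u, y}

/-- a datum: a four group `⟨r, u⟩` in a dihedral group `⟨u, x⟩` of order 16. -/
structure Dat (S : Subgroup G) (r u y x : G) (A : Subgroup G) : Prop where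
  rS : r ∈ S
  uS : u ∈ S
  xS : x ∈ S
  r1 : r ≠ 1
  r2 : r * r = 1
  u2 : u * u = 1
  ru : r * u = u * r
  y3 : y ^ 3 = 1
  yr : y * r * y⁻¹ = u
  yu : y * u * y⁻¹ = r * u
  d1 : ∀ s ∈ S ⊓ Cs (Four r u), ∃ w ∈ Four r u, s * w ∈ C1 y
  d4 : Ns (S ⊓ Cs (Four r u)) ≤ Ns (E4 r u y)
  x2 : x * x = 1
  xr : x * r = r * x
  xu : u * (x * u * x⁻¹) * (u * (x * u * x⁻¹)) = r
  le : A ≤ S ⊓ Cs (E4 r u y) ⊓ C1 x
  mx : Mx (S ⊓ Cs (Four r u)) (Four r u ⊔ A)

/-- `(r, u)` is part of a datum. -/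
def Da (S : Subgroup G) (r u : G) : Prop := ∃ y x A, Dat S r u y x A

/-- the dihedral group. -/
def Del (u z : G) : Subgroup G := closure {u, z}

/-- a dihedral normal subgroup `⟨u, z⟩` of `C_S(r)` with centre `⟨r⟩`. -/
structure DS (S : Subgroup G) (r u z : G) : Prop where
  pg : IsPGroup 2 S
  rS : r ∈ S
  uS : u ∈ S
  zS : z ∈ S
  r1 : r ≠ 1
  r2 : r * r = 1
  u2 : u * u = 1
  ru : r * u = u * r
  rz : r * z = z * r
  inv : u * z * u⁻¹ = z⁻¹
  uz : u ∉ zpowers z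
  tau : ∃ τ ∈ zpowers z, τ * τ = r
  nz : S ⊓ C1 r ≤ Ns (zpowers z)
  cl : ∀ s ∈ S ⊓ C1 r, u * (s * u * s⁻¹) ∈ zpowers z
  K : ∀ g ∈ S ⊓ C1 r, ∀ w ∈ zpowers z, g * (u * w) = u * w * g → g * g ≠ r

/-- the dihedral group generated by all data on `r`. -/
structure DZ (S : Subgroup G) (r u z : G) : Prop where
  ds : DS S r u z
  da : ∀ v, Da S r v ↔ ∃ w ∈ zpowers z, v = u * w

/-- `s` is even. -/
def Ev (u z s : G) : Prop := ∃ w ∈ zpowers z, u * (s * u * s⁻¹) = w * w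

/-- the join of the groups of the data on `r` over `S`. -/
def KS (S : Subgroup G) (r : G) : Subgroup G :=
  sSup {E | ∃ v y x A, Dat S r v y x A ∧ E = E4 r v y}

/-- the join of the groups of the data on `r` over `J`. -/
def KR (J : Subgroup G) (r : G) : Subgroup G :=
  sSup {E | ∃ d S, TC d S ∧ JJ S = J ∧ E = KS S r}

/-- the generators. -/
def Gen (J E : Subgroup G) : Prop := (∃ V W, Live J V W ∧ E = EE V W) ∨ ∃ r, E = KR J r

/-- the join of the generators. -/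
def KK (J : Subgroup G) : Subgroup G := sSup {E | Gen J E}

/-- the end game for a live pair. -/
structure XB (K : Subgroup G) (t : G) (S V W : Subgroup G) : Prop where
  ctx : Ctx K t S
  th : Cs S ≤ S
  lv : Live (JJ S) V W
  gen : K ≤ EE V W ⊔ EE W V

/-- the end game for data. -/
structure XD (t : G) (S : Subgroup G) (u z : G) : Prop where
  simple : IsSimpleGroup G
  nonab : ¬ IsMulCommutative G
  tc : TC t S
  th : Cs S ≤ S
  dz : DZ S t u z
  triv : Cs (KS S t) = ⊥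
  uniq : ∀ e, TC e S → e = t

/-- an odd member of `DD` that is fused to `t` in the normaliser of its centraliser. -/
structure Gd (t : G) (S : Subgroup G) (u z e : G) : Prop where
  mem : e ∈ S
  odd : ¬ Ev u z e
  fus : ∃ n ∈ Ns (S ⊓ C1 e), n * t * n⁻¹ = e

end Cfsg.Lib.Bau
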