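import Cfsg.Agent.Bau.Basic

set_option autoImplicit false
set_option linter.unusedSectionVars false

open scoped commutatorElement

namespace Cfsg.Lib.Bau

open Cfsg Subgroup Cfsg.Lib.Trans Cfsg.Lib.Trans.TJ Cfsg.Lib.Gold Cfsg.Lib.Gomi

universe u

variable {G : Type u} [Group G] [Finite G]
  {A A' B C E H J J' K L L' L₁ L₂ M P S S' T V V' W W' X α δ : Subgroup G}
  {a b c d e g k n r r' s t t' u u' v w x x' y y' z z' : G}

namespace Cy

/-- the squares in a cyclic group. -/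
abbrev Z2 (z : G) : Subgroup G := zpowers (z * z)

theorem comm (hw : w ∈ zpowers z) (hv : v ∈ zpowers z) : w * v = v * w := by
  obtain ⟨i, rfl⟩ := hw
  obtain ⟨j, rfl⟩ := hv
  exact (Commute.zpow_zpow_self z i j).eq

theorem conj_of (e : a * z * a⁻¹ = z) (hw : w ∈ zpowers z) : a * w * a⁻¹ = w := by
  obtain ⟨i, rfl⟩ := hw
  show a * z ^ i * a⁻¹ = z ^ i
  rw [← conj_zpow, e]

theorem conj_inv_of (e : a * z * a⁻¹ = z⁻¹) (hw : w ∈ zpowers z) : a * w * a⁻¹ = w⁻¹ := by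
  obtain ⟨i, rfl⟩ := hw
  show a * z ^ i * a⁻¹ = (z ^ i)⁻¹
  rw [← conj_zpow, e, inv_zpow]

theorem mem_Z2 : w ∈ Z2 z ↔ ∃ v ∈ zpowers z, w = v * v := by
  constructor
  · rintro ⟨i, rfl⟩
    exact ⟨z ^ i, ⟨i, rfl⟩, (Commute.refl z).mul_zpow i⟩
  · rintro ⟨_, ⟨i, rfl⟩, rfl⟩
    exact ⟨i, (Commute.refl z).mul_zpow i⟩

theorem Z2_le : Z2 z ≤ zpowers z := zpowers_le.2 (mul_mem (mem_zpowers z) (mem_zpowers z))

theorem sq_mem (hw : w ∈ zpowers z) : w * w ∈ Z2 z := mem_Z2.2 ⟨w, hw, rfl⟩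

theorem cases (hw : w ∈ zpowers z) : w ∈ Z2 z ∨ ∃ v ∈ Z2 z, w = z * v := by
  obtain ⟨i, rfl⟩ := hw
  have e : ∀ j : ℤ, z ^ (2 * j) ∈ Z2 z := fun j => ⟨j, by
    show (z * z) ^ j = _
    rw [zpow_mul, zpow_two]⟩
  rcases Int.even_or_odd' i with ⟨j, rfl | rfl⟩
  · exact Or.inl (e j)
  · exact Or.inr ⟨_, e j, by show z ^ (2 * j + 1) = _; rw [add_comm, zpow_one_add]⟩

theorem not_mem_Z2 {m : ℕ} (h2 : z ^ 2 ^ m = 1) (h1 : z ≠ 1) : z ∉ Z2 z := by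
  intro h
  rw [Z2, ← pow_two, mem_zpowers_pow_iff] at h
  exact h1 (orderOf_eq_one_iff.1 (Nat.Coprime.eq_one_of_dvd
    (Nat.Coprime.symm (Nat.Coprime.pow_left m h)) (orderOf_dvd_of_pow_eq_one h2)))

theorem mul_iff (ha : a ∈ zpowers z) (hb : b ∈ zpowers z) :
    a * b ∈ Z2 z ↔ (a ∈ Z2 z ↔ b ∈ Z2 z) := by
  rcases cases ha with h1 | ⟨v, hv, rfl⟩
  · rw [mul_mem_cancel_left h1]; simp [h1]
  · rcases cases hb with h2 | ⟨w, hw, rfl⟩
    · rw [mul_mem_cancel_right h2]; simp [h2]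
    · have e : z * v * (z * w) = z * z * (v * w) := by
        rw [mul_assoc, ← mul_assoc v, comm (Z2_le hv) (mem_zpowers z)]; group
      rw [e, mul_mem_cancel_right hv, mul_mem_cancel_right hw]
      exact iff_of_true (mul_mem (mem_zpowers _) (mul_mem hv hw)) Iff.rfl

theorem gen {m : ℕ} (h2 : z ^ 2 ^ m = 1) (hw : w ∈ zpowers z) (h : w ∉ Z2 z) :
    z ∈ zpowers w := by
  obtain ⟨i, rfl⟩ := hw
  rcases Int.even_or_odd' i with ⟨j, rfl | rfl⟩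
  · exact absurd ⟨j, by show (z * z) ^ j = z ^ (2 * j); rw [zpow_mul, zpow_two]⟩ h
  · refine mem_zpowers_zpow_iff.2 (Int.isCoprime_iff_gcd_eq_one.1 ?_)
    refine IsCoprime.of_isCoprime_of_dvd_right
      (IsCoprime.pow_right (n := m) (Int.isCoprime_two_right.2 ⟨j, rfl⟩)) ?_
    exact_mod_cast orderOf_dvd_of_pow_eq_one h2

theorem uniq (hw : w ∈ zpowers z) (hr : r ∈ zpowers z) (e : w * w = 1) (e' : r * r = 1)
    (h1 : r ≠ 1) : w = 1 ∨ w = r := by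
  obtain ⟨i, rfl⟩ := hw
  obtain ⟨j, rfl⟩ := hr
  simp only at e e' h1 ⊢
  rw [← zpow_add, ← orderOf_dvd_iff_zpow_eq_one] at e e'
  rw [Ne, ← orderOf_dvd_iff_zpow_eq_one] at h1
  rw [← orderOf_dvd_iff_zpow_eq_one, zpow_eq_zpow_iff_modEq, Int.modEq_iff_dvd]
  generalize (orderOf z : ℤ) = N at *
  obtain ⟨c, hc⟩ := e
  obtain ⟨d, hd⟩ := e'
  rcases Int.even_or_odd' c with ⟨c', rfl | rfl⟩
  · exact Or.inl ⟨c', by linarith⟩
  · rcases Int.even_or_odd' d with ⟨d', rfl | rfl⟩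
    · exact absurd ⟨d', by linarith⟩ h1
    · exact Or.inr ⟨d' - c', by linarith⟩

theorem ns_Z2 (hs : s ∈ Ns (zpowers z)) (hw : w ∈ Z2 z) : s * w * s⁻¹ ∈ Z2 z := by
  obtain ⟨v, hv, rfl⟩ := mem_Z2.1 hw
  exact mem_Z2.2 ⟨_, mem_normalizer_conj hs hv, by group⟩

theorem conj_iff (hs : s ∈ Ns (zpowers z)) : s * w * s⁻¹ ∈ Z2 z ↔ w ∈ Z2 z :=
  ⟨fun h => by simpa [mul_assoc] using ns_Z2 (inv_mem hs) h, ns_Z2 hs⟩

end Cy

open Cy

theorem ev_iff : Ev u z s ↔ u * (s * u * s⁻¹) ∈ Z2 z := mem_Z2.symm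

theorem Del_cj (g u z : G) : cj g (Del u z) = Del (g * u * g⁻¹) (g * z * g⁻¹) := by
  rw [Del, Del, cj, MonoidHom.map_closure, Set.image_pair]; rfl

theorem mem_Cs_Del : g ∈ Cs (Del u z) ↔ g ∈ C1 u ∧ g ∈ C1 z := by
  rw [Del, Cs, centralizer_closure, mem_C1, mem_C1, mem_centralizer_iff]
  simp only [Set.mem_insert_iff, Set.mem_singleton_iff, forall_eq_or_imp, forall_eq, eq_comm (b := g * _)]

theorem DS.cj (h : DS S r u z) (g : G) :
    DS (cj g S) (g * r * g⁻¹) (g * u * g⁻¹) (g * z * g⁻¹) := by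
  have e : Trans.cj g S ⊓ C1 (g * r * g⁻¹) = Trans.cj g (S ⊓ C1 r) := by rw [cj_inf, cj_C1]
  refine ⟨isPGroup_cj h.pg g, conj_mem_cj.2 h.rS, conj_mem_cj.2 h.uS, conj_mem_cj.2 h.zS, ?_, ?_, ?_,
    ?_, ?_, ?_, ?_, ?_, ?_, ?_, ?_⟩
  · simpa using h.r1
  · rw [conj_mul', h.r2]; group
  · rw [conj_mul', h.u2]; group
  · rw [conj_mul', conj_mul', h.ru]
  · rw [conj_mul', conj_mul', h.rz]
  · rw [conj_inv', conj_mul', conj_mul', h.inv, conj_inv']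
  · rw [← cj_zpowers, conj_mem_cj]; exact h.uz
  · obtain ⟨τ, h1, h2⟩ := h.tau
    exact ⟨g * τ * g⁻¹, by rwa [← cj_zpowers, conj_mem_cj], by rw [conj_mul', h2]⟩
  · rw [e, ← cj_zpowers, ← cj_Ns]; exact cj_mono g h.nz
  · intro s hs
    obtain ⟨s, rfl⟩ := conj_surj g s
    rw [e, conj_mem_cj] at hs
    rw [conj_inv', conj_mul', conj_mul', conj_mul', ← cj_zpowers, conj_mem_cj]
    exact h.cl s hs
  · intro s hs w hw
    obtain ⟨s, rfl⟩ := conj_surj g s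
    obtain ⟨w, rfl⟩ := conj_surj g w
    rw [e, conj_mem_cj] at hs
    rw [← cj_zpowers, conj_mem_cj] at hw
    simp only [conj_mul', mul_left_inj, mul_right_inj, Ne]
    exact h.K s hs w hw

theorem DS.inv' (h : DS S r u z) (hw : w ∈ zpowers z) : u * w * u⁻¹ = w⁻¹ := by
  exact conj_inv_of h.inv hw

theorem DS.uinv (h : DS S r u z) : u⁻¹ = u := inv_eq_of_sq h.u2

theorem DS.mul_u (h : DS S r u z) (hw : w ∈ zpowers z) : w * u = u * w⁻¹ := by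
  calc w * u = u * (u * w * u⁻¹) * (u * u) := by rw [h.uinv, ← mul_assoc u, ← mul_assoc u, h.u2]; group
    _ = _ := by rw [h.inv' hw, h.u2, mul_one]

theorem DS.Z_le (h : DS S r u z) : zpowers z ≤ S ⊓ C1 r :=
  zpowers_le.2 ⟨h.zS, mem_C1.2 h.rz.symm⟩

theorem DS.u_mem (h : DS S r u z) : u ∈ S ⊓ C1 r := ⟨h.uS, mem_C1.2 h.ru.symm⟩

theorem DS.uw2 (h : DS S r u z) (hw : w ∈ zpowers z) : u * w * (u * w) = 1 := by
  rw [mul_assoc, ← mul_assoc w, h.mul_u hw, ← mul_assoc, ← mul_assoc, h.u2]; group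

theorem DS.conj_u (h : DS S r u z) (s : G) : s * u * s⁻¹ = u * (u * (s * u * s⁻¹)) := by
  rw [← mul_assoc u u, h.u2, one_mul]

theorem DS.shift_eq (h : DS S r u z) (hw : w ∈ zpowers z) (s : G) :
    u * w * (s * (u * w) * s⁻¹) = w⁻¹ * (u * (s * u * s⁻¹)) * (s * w * s⁻¹) := by
  rw [← mul_assoc w⁻¹, h.mul_u (inv_mem hw), inv_inv]; group

theorem DS.shift (h : DS S r u z) (hw : w ∈ zpowers z) :
    DS S r (u * w) z ∧ Del (u * w) z = Del u z := by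
  have h1 := h.Z_le hw
  refine ⟨⟨h.pg, h.rS, mul_mem h.uS h1.1, h.zS, h.r1, h.r2, h.uw2 hw,
    (mem_C1.1 (mul_mem h.u_mem h1).2).symm, h.rz, ?_, fun e => h.uz ((mul_mem_cancel_right hw).1 e),
    h.tau, h.nz, fun s hs => ?_, fun g hg v hv e => h.K g hg _ (mul_mem hw hv) (by
      simpa only [mul_assoc] using e)⟩, le_antisymm ?_ ?_⟩
  · calc u * w * z * (u * w)⁻¹ = u * (w * z) * w⁻¹ * u⁻¹ := by group
      _ = z⁻¹ := by rw [comm hw (mem_zpowers z), ← h.inv]; group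
  · rw [h.shift_eq hw]
    exact mul_mem (mul_mem (inv_mem hw) (h.cl s hs)) (mem_normalizer_conj (h.nz hs) hw)
  · have hz : z ∈ Del u z := subset_closure (by simp)
    rw [Del, closure_le]
    rintro _ (rfl | rfl)
    · exact mul_mem (subset_closure (by simp)) (zpowers_le.2 hz hw)
    · exact hz
  · have hz : z ∈ Del (u * w) z := subset_closure (by simp)
    rw [Del, closure_le]
    rintro _ (rfl | rfl)
    · exact (mul_mem_cancel_right (zpowers_le.2 hz hw)).1 (subset_closure (by simp))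
    · exact hz

theorem DS.mem_Del (h : DS S r u z) : g ∈ Del u z ↔ ∃ w ∈ zpowers z, g = w ∨ g = u * w := by
  constructor
  · intro hg
    induction hg using closure_induction with
    | mem x hx =>
      rcases hx with rfl | rfl
      · exact ⟨1, one_mem _, Or.inr (mul_one _).symm⟩
      · exact ⟨_, mem_zpowers _, Or.inl rfl⟩
    | one => exact ⟨1, one_mem _, Or.inl rfl⟩
    | mul x y _ _ hx hy =>
      obtain ⟨v, hv, rfl | rfl⟩ := hx <;> obtain ⟨w, hw, rfl | rfl⟩ := hy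
      · exact ⟨_, mul_mem hv hw, Or.inl rfl⟩
      · exact ⟨_, mul_mem (inv_mem hv) hw, Or.inr (by rw [← mul_assoc, h.mul_u hv, mul_assoc])⟩
      · exact ⟨_, mul_mem hv hw, Or.inr (mul_assoc _ _ _)⟩
      · exact ⟨_, mul_mem (inv_mem hv) hw, Or.inl (by
          rw [mul_assoc, ← mul_assoc v, h.mul_u hv, ← mul_assoc, ← mul_assoc, h.u2, one_mul])⟩
    | inv x _ hx =>
      obtain ⟨v, hv, rfl | rfl⟩ := hx
      · exact ⟨_, inv_mem hv, Or.inl rfl⟩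
      · exact ⟨_, hv, Or.inr (inv_eq_of_sq (h.uw2 hv))⟩
  · have hz : zpowers z ≤ Del u z := zpowers_le.2 (subset_closure (by simp))
    rintro ⟨w, hw, rfl | rfl⟩
    · exact hz hw
    · exact mul_mem (subset_closure (by simp)) (hz hw)

theorem DS.le (h : DS S r u z) : Del u z ≤ S ⊓ C1 r := by
  intro g hg
  obtain ⟨w, hw, rfl | rfl⟩ := h.mem_Del.1 hg
  · exact h.Z_le hw
  · exact mul_mem h.u_mem (h.Z_le hw)

theorem DS.ns (h : DS S r u z) : S ⊓ C1 r ≤ Ns (Del u z) := by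
  intro s hs
  refine mem_normalizer_of_cj_le ?_
  rw [Del_cj, Del, closure_le]
  rintro _ (rfl | rfl)
  · exact h.mem_Del.2 ⟨_, h.cl s hs, Or.inr (h.conj_u s)⟩
  · exact h.mem_Del.2 ⟨_, mem_normalizer_conj (h.nz hs) (mem_zpowers _), Or.inl rfl⟩

theorem DS.r_mem (h : DS S r u z) : r ∈ zpowers z := by
  obtain ⟨τ, h1, h2⟩ := h.tau
  exact h2 ▸ mul_mem h1 h1

theorem DS.r_cs (h : DS S r u z) : r ∈ Cs (Del u z) := by
  exact mem_Cs_Del.2 ⟨mem_C1.2 h.ru, mem_C1.2 h.rz⟩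

theorem DS.sq (h : DS S r u z) (hw : w ∈ zpowers z) (e : w * w = 1) : w = 1 ∨ w = r := by
  exact uniq hw h.r_mem e h.r2 h.r1

theorem DS.r_mem_of (h : DS S r u z) (hw : w ∈ zpowers z) (h1 : w ≠ 1) : r ∈ zpowers w := by
  obtain ⟨x, hx, h2, h3⟩ := exists_pow_eq_one_of_isPGroup
    (h.pg.to_le (zpowers_le.2 (h.Z_le hw).1)) (zpowers_ne_bot.2 h1)
  exact ((h.sq (zpowers_le.2 hw hx) (by rw [← pow_two, h3])).resolve_left h2) ▸ hx

theorem DS.zz (h : DS S r u z) : z * z ≠ 1 := by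
  intro e
  obtain ⟨τ, h1, h2⟩ := h.tau
  have := sq_mem h1
  rw [Z2, e, zpowers_one_eq_bot, mem_bot, h2] at this
  exact h.r1 this

theorem DS.cen (h : DS S r u z) (hg : g ∈ Del u z) (h1 : g ∈ Cs (Del u z)) : g = 1 ∨ g = r := by
  obtain ⟨h2, h3⟩ := mem_Cs_Del.1 h1
  obtain ⟨w, hw, rfl | rfl⟩ := h.mem_Del.1 hg
  · refine h.sq hw ?_
    have := mem_C1.1 h2
    rw [h.mul_u hw, mul_right_inj] at this
    rw [← mul_inv_cancel g, this]
  · have h4 : u * z = z * u := mem_C1.1 ((mul_mem_cancel_right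
      (mem_C1.2 (comm hw (mem_zpowers z)))).1 h3)
    rw [h.mul_u (mem_zpowers z), mul_right_inj] at h4
    exact absurd (by nth_rewrite 2 [h4]; exact mul_inv_cancel z) h.zz

theorem DS.pow2 (h : DS S r u z) (hs : s ∈ S) : ∃ m : ℕ, s ^ 2 ^ m = 1 :=
  let ⟨m, hm⟩ := h.pg ⟨s, hs⟩; ⟨m, congrArg Subtype.val hm⟩

theorem DS.z_not (h : DS S r u z) : z ∉ Z2 z :=
  let ⟨_, hm⟩ := h.pow2 h.zS; not_mem_Z2 hm fun e => h.zz (by rw [e, mul_one])

theorem DS.gen (h : DS S r u z) (hw : w ∈ zpowers z) (h1 : w ∉ Z2 z) : z ∈ zpowers w :=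
  let ⟨_, hm⟩ := h.pow2 h.zS; Cy.gen hm hw h1

theorem DS.core (h : DS S r u z) (ha : a ∈ S ⊓ C1 r) (h2 : a * a = 1) {τ : G} (h3 : τ ∈ zpowers z)
    (h4 : τ * τ = r) (h5 : a * τ * a⁻¹ = τ) (hw : w ∈ zpowers z)
    (h6 : a * (u * w) * a⁻¹ = u * w * r) : False := by
  have h7 : a * r * a⁻¹ = r := mul_inv_eq_iff_eq_mul.2 (mem_C1.1 ha.2)
  refine h.K (a * τ) (mul_mem ha (h.Z_le h3)) w hw ?_ ?_
  · have e : τ * (u * w) = u * w * r * τ := by
      rw [← mul_assoc, h.mul_u h3, mul_assoc, comm (inv_mem h3) hw, ← h4,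
        show τ⁻¹ = τ * τ * τ * (τ * τ * (τ * τ))⁻¹ by group, h4, h.r2]
      group
    calc a * τ * (u * w) = a * (u * w) * a⁻¹ * (a * r * a⁻¹) * (a * τ) := by rw [mul_assoc, e]; group
      _ = u * w * (r * r) * (a * τ) := by rw [h6, h7]; group
      _ = _ := by rw [h.r2, mul_one]
  · calc a * τ * (a * τ) = a * τ * a⁻¹ * (a * a) * τ := by group
      _ = r := by rw [h5, h2, mul_one, h4]

theorem DS.inverted (h : DS S r u z) (h2 : a * a = 1) :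
    a * (u * (a * u * a⁻¹)) * a⁻¹ = (u * (a * u * a⁻¹))⁻¹ := by
  calc a * (u * (a * u * a⁻¹)) * a⁻¹ = a * u * (a * u * a⁻¹) * a⁻¹ := by group
    _ = a * u⁻¹ * (a⁻¹ * u⁻¹ * (a * a)⁻¹) := by rw [h.uinv, inv_eq_of_sq h2, mul_inv_rev, inv_eq_of_sq h2]; group
    _ = _ := by rw [h2]; group

theorem DS.of_z (h : DS S r u z) (ha : a ∈ S ⊓ C1 r) (h2 : a * a = 1) (h1 : a ∈ C1 z) :
    a ∈ Cs (Del u z) := by
  have h3 : a * z * a⁻¹ = z := mul_inv_eq_iff_eq_mul.2 (mem_C1.1 h1)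
  have h4 := h.inverted h2
  rw [conj_of h3 (h.cl a ha)] at h4
  rcases h.sq (h.cl a ha) (by nth_rewrite 2 [h4]; exact mul_inv_cancel _) with e | e
  · refine mem_Cs_Del.2 ⟨mem_C1.2 (mul_inv_eq_iff_eq_mul.1 ?_), h1⟩
    rw [h.conj_u a, e, mul_one]
  · obtain ⟨τ, h5, h6⟩ := h.tau
    exact (h.core ha h2 h5 h6 (conj_of h3 h5) (one_mem _)
      (by rw [mul_one, h.conj_u a, e])).elim

theorem DS.four_of (h : DS S r u z) (hw : w ∈ zpowers z) (h1 : w ∉ Z2 z) (e : w * w = r) :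
    z * z = r := by
  refine (h.sq (mul_mem (mem_zpowers z) (mem_zpowers z)) ?_).resolve_left h.zz
  have := sq_mem (sq_mem (h.gen hw h1))
  rwa [Z2, e, h.r2, zpowers_one_eq_bot, mem_bot] at this

theorem DS.not_zr (h : DS S r u z) (ha : a ∈ S ⊓ C1 r) (h2 : a * a = 1) (h3 : z * z ≠ r)
    (e : a * z * a⁻¹ = z * r) : False := by
  have e2 : a * (z * z) * a⁻¹ = z * z := by
    calc a * (z * z) * a⁻¹ = z * (r * z) * r := by rw [← conj_mul', e]; group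
      _ = z * z * (r * r) := by rw [h.rz]; group
      _ = _ := by rw [h.r2, mul_one]
  obtain ⟨τ, h5, h6⟩ := h.tau
  have h7 : τ ∈ Z2 z := by_contra fun h7 => h3 (h.four_of h5 h7 h6)
  have h4 := h.inverted h2
  rcases cases (h.cl a ha) with h8 | ⟨v, hv, h8⟩
  · rw [conj_of e2 h8] at h4
    rcases h.sq (h.cl a ha) (by nth_rewrite 2 [h4]; exact mul_inv_cancel _) with e3 | e3
    · refine h.core ha h2 h5 h6 (conj_of e2 h7) (mem_zpowers z) ?_
      rw [← conj_mul', h.conj_u a, e3, mul_one, e, mul_assoc]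
    · exact h.core ha h2 h5 h6 (conj_of e2 h7) (one_mem _) (by rw [mul_one, h.conj_u a, e3])
  · have h9 := h.cl a ha
    rw [h8] at h4 h9
    refine h3 (h.four_of h9 (fun h0 => h.z_not ((mul_mem_cancel_right hv).1 h0)) ?_)
    rw [← conj_mul', e, conj_of e2 hv, mul_assoc, comm h.r_mem (Z2_le hv), ← mul_assoc] at h4
    calc z * v * (z * v) = z * v * (z * v * r) * r := by
          rw [mul_assoc (z * v), mul_assoc (z * v), h.r2, mul_one]
      _ = r := by rw [h4]; group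

theorem DS.not_zir (h : DS S r u z) (ha : a ∈ S ⊓ C1 r) (h2 : a * a = 1) (h3 : z * z ≠ r)
    (e : a * z * a⁻¹ = z⁻¹ * r) : False := by
  have hr : ∀ w ∈ zpowers z, r * w = w * r := fun w hw => comm h.r_mem hw
  have e2 : a * (z * z) * a⁻¹ = (z * z)⁻¹ := by
    calc a * (z * z) * a⁻¹ = z⁻¹ * (r * z⁻¹) * r := by rw [← conj_mul', e]; group
      _ = (z * z)⁻¹ * (r * r) := by rw [hr _ (inv_mem (mem_zpowers z))]; group
      _ = _ := by rw [h.r2, mul_one]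
  have odd : ∀ w ∈ zpowers z, w ∉ Z2 z → a * w * a⁻¹ = w⁻¹ * r := by
    intro w hw h1
    obtain ⟨v, hv, rfl⟩ := (cases hw).resolve_left h1
    rw [← conj_mul', e, conj_inv_of e2 hv, mul_assoc, hr _ (inv_mem (Z2_le hv)),
      comm (mem_zpowers z) (Z2_le hv)]
    group
  have h4 : u * (a * u * a⁻¹) ∈ Z2 z := by
    by_contra h4
    have := (odd _ (h.cl a ha) h4).symm.trans (h.inverted h2)
    exact h.r1 (mul_eq_left.1 this)
  obtain ⟨v, hv, h5⟩ := mem_Z2.1 h4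
  have h6 : a * u * a⁻¹ = u * (v * v) := by rw [h.conj_u a, h5]
  have hb : a * (u * v) ∈ S ⊓ C1 r := mul_mem ha (mul_mem h.u_mem (h.Z_le hv))
  have e3 : a * (u * v) * z * (a * (u * v))⁻¹ = z * r := by
    calc a * (u * v) * z * (a * (u * v))⁻¹ = a * (u * v * z * (u * v)⁻¹) * a⁻¹ := by group
      _ = z * r := by
        rw [(h.shift hv).1.inv, ← conj_inv', e, mul_inv_rev, inv_inv, inv_eq_of_sq h.r2, h.rz]
  have e4 : a * (u * v) * (a * (u * v)) = u * v * (v * (a * v * a⁻¹)) * (u * v) := by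
    calc a * (u * v) * (a * (u * v)) = a * u * a⁻¹ * (a * v * a⁻¹) * (a * a) * (u * v) := by group
      _ = _ := by rw [h6, h2]; group
  by_cases h7 : v ∈ Z2 z
  · rw [conj_inv_of e2 h7, mul_inv_cancel, mul_one, h.uw2 hv] at e4
    exact h.not_zr hb e4 h3 e3
  · rw [odd v hv h7, mul_inv_cancel_left, mul_assoc (u * v) r,
      ← mem_C1.1 (mul_mem h.u_mem (h.Z_le hv)).2, ← mul_assoc (u * v) (u * v), h.uw2 hv,
      one_mul] at e4
    refine h.K _ hb _ (mul_mem hv (mem_zpowers z)) (mul_inv_eq_iff_eq_mul.1 ?_) e4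
    calc a * (u * v) * (u * (v * z)) * (a * (u * v))⁻¹
        = a * u * a⁻¹ * (a * v * a⁻¹) * (a * (u * v) * z * (a * (u * v))⁻¹) := by group
      _ = u * v * (r * z) * r := by rw [h6, odd v hv h7, e3]; group
      _ = u * (v * z) * (r * r) := by rw [h.rz]; group
      _ = _ := by rw [h.r2, mul_one]

theorem DS.one (h : DS S r u z) (ha : a ∈ S ⊓ C1 r) (h2 : a * a = 1) :
    a ∈ Cs (Del u z) ∨ a * z * a⁻¹ = z⁻¹ := by
  have hz := mem_zpowers z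
  have hc : a * z * a⁻¹ ∈ zpowers z := mem_normalizer_conj (h.nz ha) hz
  have hc' : a * z * a⁻¹ ∉ Z2 z := fun e => h.z_not ((conj_iff (h.nz ha)).1 e)
  have e0 : a * (a * z * a⁻¹) * a⁻¹ = z := by
    calc a * (a * z * a⁻¹) * a⁻¹ = a * a * z * (a * a)⁻¹ := by group
      _ = z := by rw [h2]; group
  set c := a * z * a⁻¹ with hcd
  have hp : z * c ∈ Z2 z := (mul_iff hz hc).2 (iff_of_false h.z_not hc')
  have hm : z * c⁻¹ ∈ Z2 z := (mul_iff hz (inv_mem hc)).2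
    (iff_of_false h.z_not (by rwa [inv_mem_iff]))
  obtain ⟨m, hm2⟩ := h.pow2 (mul_mem h.zS h.zS)
  have hy := not_mem_Z2 hm2 h.zz
  have h3 : z * c ∉ Z2 (z * z) ∨ z * c⁻¹ ∉ Z2 (z * z) := by
    rw [← not_and_or]
    refine fun h3 => hy ?_
    have := mul_mem h3.1 h3.2
    rwa [mul_assoc, ← mul_assoc c, comm hc hz, mul_assoc, mul_inv_cancel, mul_one] at this
  have zi : z * z = r → z * r = z⁻¹ := fun e => eq_inv_of_mul_eq_one_left (by
    rw [mul_assoc, h.rz, ← mul_assoc, e, h.r2])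
  rcases h3 with h3 | h3
  · have e1 := conj_of (z := z * c) (by rw [← conj_mul', e0, comm hc hz]) (Cy.gen hm2 hp h3)
    rw [← conj_mul'] at e1
    rcases h.sq (mul_mem (inv_mem hz) hc) (by
      rw [mul_assoc, ← mul_assoc c, comm hc (inv_mem hz), mul_assoc, e1]; group) with e | e
    · exact Or.inl (h.of_z ha h2 (mem_C1.2 (mul_inv_eq_iff_eq_mul.1 (inv_mul_eq_one.1 e).symm)))
    · have e' : c = z * r := by rw [← e]; group
      by_cases h4 : z * z = r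
      · exact Or.inr (e'.trans (zi h4))
      · exact (h.not_zr ha h2 h4 e').elim
  · have e1 := conj_inv_of (z := z * c⁻¹) (by rw [← conj_mul', ← conj_inv', e0, mul_inv_rev, inv_inv])
      (Cy.gen hm2 hm h3)
    rw [← conj_mul'] at e1
    rcases h.sq (mul_mem hz hc) (by
      rw [mul_assoc, ← mul_assoc c, comm hc hz, mul_assoc, e1]; group) with e | e
    · exact Or.inr (eq_inv_of_mul_eq_one_right e)
    · have e' : c = z⁻¹ * r := by rw [← e]; group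
      by_cases h4 : z * z = r
      · exact Or.inl (h.of_z ha h2 (mem_C1.2 (mul_inv_eq_iff_eq_mul.1 (e'.trans (by
          rw [← h4]; group)))))
      · exact (h.not_zir ha h2 h4 e').elim

theorem DS.of_w (h : DS S r u z) (ha : a ∈ S ⊓ C1 r) (h2 : a * a = 1) (hw : w ∈ zpowers z)
    (h3 : w * w ≠ 1) (h1 : a ∈ C1 w) : a ∈ Cs (Del u z) := by
  refine (h.one ha h2).resolve_right fun e => h3 ?_
  have := conj_inv_of e hw
  rw [mem_C1.1 h1, mul_inv_cancel_right] at this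
  nth_rewrite 2 [this]
  exact mul_inv_cancel w

theorem ev_of_comm (e : s * u = u * s) (hu : u * u = 1) : Ev u z s := by
  exact ⟨1, one_mem _, by rw [e, mul_inv_cancel_right, hu, mul_one]⟩

theorem ev_cj (h : Ev u z s) (g : G) : Ev (g * u * g⁻¹) (g * z * g⁻¹) (g * s * g⁻¹) := by
  obtain ⟨w, hw, e⟩ := h
  refine ⟨g * w * g⁻¹, by rwa [← cj_zpowers, conj_mem_cj], ?_⟩
  rw [conj_inv', conj_mul', conj_mul', conj_mul', conj_mul', e]

theorem DS.ev_mul (h : DS S r u z) (ha : a ∈ S ⊓ C1 r) (hb : b ∈ S ⊓ C1 r) :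
    Ev u z (a * b) ↔ (Ev u z a ↔ Ev u z b) := by
  have e : u * (a * b * u * (a * b)⁻¹) = u * (a * u * a⁻¹) * (a * (u * (b * u * b⁻¹)) * a⁻¹) := by
    calc u * (a * b * u * (a * b)⁻¹) = u * a * (b * u * b⁻¹) * a⁻¹ := by group
      _ = _ := by nth_rewrite 1 [h.conj_u b]; group
  rw [ev_iff, ev_iff, ev_iff, e,
    mul_iff (h.cl a ha) (mem_normalizer_conj (h.nz ha) (h.cl b hb)), conj_iff (h.nz ha)]

theorem DS.ev_inv (h : DS S r u z) (ha : a ∈ S ⊓ C1 r) : Ev u z a⁻¹ ↔ Ev u z a := by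
  exact (h.ev_mul (inv_mem ha) ha).1 (by rw [inv_mul_cancel]; exact ev_of_comm (by group) h.u2)

theorem DS.ev_del (h : DS S r u z) (hg : g ∈ Del u z) : Ev u z g := by
  have h1 : ∀ w ∈ zpowers z, Ev u z w := fun w hw => ⟨w⁻¹, inv_mem hw, by
    rw [h.mul_u hw, ← mul_assoc, ← mul_assoc, h.u2, one_mul]⟩
  obtain ⟨w, hw, rfl | rfl⟩ := h.mem_Del.1 hg
  · exact h1 _ hw
  · exact (h.ev_mul h.u_mem (h.Z_le hw)).2 (iff_of_true (ev_of_comm rfl h.u2) (h1 w hw))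

theorem DS.ev_shift (h : DS S r u z) (hw : w ∈ zpowers z) (hs : s ∈ S ⊓ C1 r) :
    Ev (u * w) z s ↔ Ev u z s := by
  have h1 := mem_normalizer_conj (h.nz hs) hw
  rw [ev_iff, ev_iff, h.shift_eq hw, comm (inv_mem hw) (h.cl s hs), mul_assoc,
    mul_mem_cancel_right ((mul_iff (inv_mem hw) h1).2
      (by rw [inv_mem_iff, conj_iff (h.nz hs)]))]

theorem DS.not_Z2_iff (h : DS S r u z) (hw : w ∈ zpowers z) :
    w ∉ Z2 z ↔ zpowers w = zpowers z :=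
  ⟨fun h1 => le_antisymm (zpowers_le.2 hw) (zpowers_le.2 (h.gen hw h1)),
    fun e h1 => h.z_not (zpowers_le.2 h1 (e ▸ mem_zpowers z))⟩

theorem DS.not_Z2_iff' (h : DS S r u z) (hw : w ∈ zpowers z) :
    w ∉ Z2 z ↔ orderOf w = orderOf z := by
  rw [h.not_Z2_iff hw, ← Nat.card_zpowers, ← Nat.card_zpowers]
  exact ⟨fun e => by rw [e], fun e => eq_of_le_of_card_ge (zpowers_le.2 hw) e.ge⟩

theorem DS.odd_iff (h : DS S r u z) (hs : s ∈ S ⊓ C1 r) :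
    ¬ Ev u z s ↔ orderOf (u * (s * u * s⁻¹)) = orderOf z := by
  rw [ev_iff, h.not_Z2_iff' (h.cl s hs)]

theorem DS.odd_gen (h : DS S r u z) (hs : s ∈ S ⊓ C1 r) (h1 : ¬ Ev u z s) :
    zpowers (u * (s * u * s⁻¹)) = zpowers z := by
  exact (h.not_Z2_iff (h.cl s hs)).1 (by rwa [← ev_iff])

theorem DS.even (h : DS S r u z) (ha : a ∈ S ⊓ C1 r) (h2 : a * a = 1) (h1 : a ∉ Cs (Del u z))
    (h3 : Ev u z a) : ∃ w ∈ zpowers z, ∃ b ∈ S ⊓ Cs (Del u z), b * b = 1 ∧ a = b * (u * w) := by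
  obtain ⟨w, hw, e⟩ := h3
  have h4 := (h.one ha h2).resolve_left h1
  have h6 : a * u * a⁻¹ = u * (w * w) := by rw [h.conj_u a, e]
  have hb : a * (u * w) ∈ S ⊓ C1 r := mul_mem ha (mul_mem h.u_mem (h.Z_le hw))
  have e4 : a * (u * w) * (a * (u * w)) = 1 := by
    calc a * (u * w) * (a * (u * w)) = a * u * a⁻¹ * (a * w * a⁻¹) * (a * a) * (u * w) := by group
      _ = u * w * (u * w) := by rw [h6, h2, conj_inv_of h4 hw]; group
      _ = 1 := h.uw2 hw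
  refine ⟨w, hw, _, ⟨hb.1, h.of_z hb e4 (mem_C1.2 (mul_inv_eq_iff_eq_mul.1 ?_))⟩, e4, ?_⟩
  · calc a * (u * w) * z * (a * (u * w))⁻¹ = a * (u * w * z * (u * w)⁻¹) * a⁻¹ := by group
      _ = z := by rw [(h.shift hw).1.inv, ← conj_inv', h4, inv_inv]
  · rw [mul_assoc, h.uw2 hw, mul_one]

theorem DS.even_z (h : DS S r u z) (hc : c ∈ S ⊓ C1 r) (h1 : c ∈ C1 z) (h3 : Ev u z c) :
    ∃ w ∈ zpowers z, ∃ b ∈ S ⊓ Cs (Del u z), c = b * w := by
  obtain ⟨w, hw, e⟩ := h3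
  have h4 : c * z * c⁻¹ = z := mul_inv_eq_iff_eq_mul.2 (mem_C1.1 h1)
  have h6 : c * u * c⁻¹ = u * (w * w) := by rw [h.conj_u c, e]
  refine ⟨w⁻¹, inv_mem hw, c * w, ⟨mul_mem hc.1 (h.Z_le hw).1, mem_Cs_Del.2
    ⟨mem_C1.2 (mul_inv_eq_iff_eq_mul.1 ?_), mul_mem h1 (mem_C1.2 (comm hw (mem_zpowers z)))⟩⟩,
    by group⟩
  calc c * w * u * (c * w)⁻¹ = c * u * c⁻¹ * (c * (w * w)⁻¹ * c⁻¹) := by
        rw [mul_assoc c w, h.mul_u hw]; group
    _ = u := by rw [h6, conj_of h4 (inv_mem (mul_mem hw hw))]; group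

end Cfsg.Lib.Bau
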