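import Cfsg.Agent.Bau.Ds1

set_option autoImplicit false
set_option linter.unusedSectionVars false

open scoped commutatorElement

namespace Cfsg.Lib.Bau

open Cfsg Subgroup Cfsg.Lib.Trans Cfsg.Lib.Trans.TJ Cfsg.Lib.Gold Cfsg.Lib.Gomi

universe u

variable {G : Type u} [Group G] [Finite G]
  {A A' B C E H J J' K L L' L₁ L₂ M P S S' T V V' W W' X α δ : Subgroup G}
  {a b c d e g k n r r' s t t' u u' v w x x' y y' z z' : G}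

open Cy

theorem DS.u_del (h : DS S r u z) : u ∈ Del u z := h.mem_Del.2 ⟨1, one_mem _, Or.inr (mul_one _).symm⟩

theorem DS.Z_del (h : DS S r u z) : zpowers z ≤ Del u z := fun w hw => h.mem_Del.2 ⟨w, hw, Or.inl rfl⟩

theorem DS.r_mem_nm (h : DS S r u z) (h1 : X ≤ Del u z) (h2 : z ∈ Ns X) (h3 : X ≠ ⊥) : r ∈ X := by
  obtain ⟨x, hx, x1⟩ := (X.bot_or_exists_ne_one).resolve_left h3
  obtain ⟨w, hw, rfl | rfl⟩ := h.mem_Del.1 (h1 hx)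
  · exact zpowers_le.2 hx (h.r_mem_of hw x1)
  · have e : z * z = z * (u * w) * z⁻¹ * (u * w)⁻¹ := by
      calc z * z = z * (u * w * z * (u * w)⁻¹)⁻¹ := by rw [(h.shift hw).1.inv, inv_inv]
        _ = _ := by group
    refine zpowers_le.2 ?_ (h.r_mem_of (mul_mem (mem_zpowers z) (mem_zpowers z)) h.zz)
    rw [e]
    exact mul_mem (mem_normalizer_conj h2 hx) (inv_mem hx)

theorem DS.four_dvd (h : DS S r u z) : 4 ∣ orderOf z := by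
  obtain ⟨m, hm⟩ := h.pow2 h.zS
  obtain ⟨k, -, hk⟩ := (Nat.dvd_prime_pow Nat.prime_two).1 (orderOf_dvd_of_pow_eq_one hm)
  rw [hk]
  refine pow_dvd_pow 2 (show 2 ≤ k from not_lt.1 fun h1 => h.zz ?_)
  rw [← pow_two, ← orderOf_dvd_iff_pow_eq_one, hk]
  exact pow_dvd_pow 2 (show k ≤ 1 by omega)

theorem DS.three (h : DS S r u z) (h' : DS S' r' u' z') (hne : r ≠ r')
    (h1 : Del u z ≤ S' ⊓ C1 r') (h2 : Del u' z' ≤ S ⊓ C1 r) : Del u' z' ≤ Cs (Del u z) := by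
  rw [Cs, ← commutator_eq_bot_iff_le_centralizer]
  by_contra h3
  have h4 := h'.r_mem_nm (commutator_le_left_of_le (h1.trans h'.ns))
    (left_le_Ns_commutator (h'.Z_del (mem_zpowers _))) h3
  rcases h.cen (commutator_le_right_of_le (h2.trans h.ns) h4)
    (mem_Cs.2 fun x hx => mem_C1.1 (h1 hx).2) with e | e
  · exact h'.r1 e
  · exact hne e.symm

theorem DS.five (h : DS S r u z) (hW : W ≤ S ⊓ C1 r) (h2 : ∀ w ∈ W, w * w = 1)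
    (h3 : Del u z ≤ Ns W) (hx : x ∈ S ⊓ C1 r) (h4 : x ∈ Ns W)
    (h5 : u * (x * u * x⁻¹) * (u * (x * u * x⁻¹)) = r) : W ≤ Cs (Del u z) := by
  intro a ha
  by_contra h1
  have hz := mem_zpowers z
  have e1 := (h.one (hW ha) (h2 a ha)).resolve_left h1
  have z2 : z * z = r := by
    refine (h.sq (mul_mem hz hz) (h2 _ ?_)).resolve_left h.zz
    have e : z * z = z * a * z⁻¹ * a⁻¹ := by
      calc z * z = z * (a * z * a⁻¹)⁻¹ := by rw [e1, inv_inv]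
        _ = _ := by group
    rw [e]
    exact mul_mem (mem_normalizer_conj (h3 (h.Z_del hz)) ha) (inv_mem ha)
  have sq : ∀ g, g = 1 ∨ g = r → g ∈ Z2 z := by
    rintro _ (rfl | rfl)
    · exact one_mem _
    · rw [← z2]; exact mem_zpowers _
  have e2 : Ev u z a := by
    refine ev_iff.2 (sq _ (h.sq (h.cl a (hW ha)) (h2 _ ?_)))
    rw [show u * (a * u * a⁻¹) = u * a * u⁻¹ * a⁻¹ by rw [h.uinv]; group]
    exact mul_mem (mem_normalizer_conj (h3 h.u_del) ha) (inv_mem ha)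
  obtain ⟨w, hw, b, hb, -, e3⟩ := h.even (hW ha) (h2 a ha) h1 e2
  have ha' := mem_normalizer_conj h4 ha
  have hxn := mem_Ns_Cs (h.ns hx)
  have e4 := (h.one (hW ha') (h2 _ ha')).resolve_left fun e => h1 (by
    simpa [mul_assoc] using mem_normalizer_conj' hxn e)
  have e5 := h.of_z (hW (mul_mem ha ha')) (h2 _ (mul_mem ha ha')) (mem_C1.2
    (mul_inv_eq_iff_eq_mul.1 (by
      calc a * (x * a * x⁻¹) * z * (a * (x * a * x⁻¹))⁻¹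
          = a * (x * a * x⁻¹ * z * (x * a * x⁻¹)⁻¹) * a⁻¹ := by group
        _ = z := by rw [e4, ← conj_inv', e1, inv_inv])))
  have hb' := mem_normalizer_conj hxn hb.2
  have e6 : a * (x * a * x⁻¹) = b * (x * b * x⁻¹) * (u * w * (x * (u * w) * x⁻¹)) := by
    calc a * (x * a * x⁻¹) = b * (u * w * (x * b * x⁻¹)) * (x * (u * w) * x⁻¹) := by
          rw [e3]; group
      _ = _ := by rw [hb' _ (mul_mem h.u_del (h.Z_del hw))]; group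
  rw [e6, mul_mem_cancel_left ((Cs (Del u z)).mul_mem hb.2 hb')] at e5
  obtain ⟨v, hv, e7⟩ := (h.ev_shift hw hx).1
    (ev_iff.2 (sq _ (h.cen (h.Z_del ((h.shift hw).1.cl x hx)) e5)))
  have := sq_mem (sq_mem hv)
  rw [Z2, z2, h.r2, zpowers_one_eq_bot, mem_bot, ← e7, h5] at this
  exact h.r1 this

theorem DS.pair1 (h : DS S r u z) (h' : DS S' r v z') (h1 : Del u z ≤ S') (h2 : Del v z' ≤ S) :
    v * z * v⁻¹ = z⁻¹ ∧ z * z' = z' * z := by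
  have key : ∀ w ∈ zpowers z', v * w * z * (v * w)⁻¹ = z⁻¹ := by
    intro w hw
    refine (h.one ⟨h2 (mul_mem h'.u_del (h'.Z_del hw)), (mul_mem h'.u_mem (h'.Z_le hw)).2⟩
      (h'.uw2 hw)).resolve_left fun e => ?_
    obtain ⟨τ, h3, h4⟩ := h.tau
    exact h'.K τ ⟨h1 (h.Z_del h3), (h.Z_le h3).2⟩ w hw (e τ (h.Z_del h3)) h4
  have e1 := key 1 (one_mem _)
  rw [mul_one] at e1
  refine ⟨e1, ?_⟩
  calc z * z' = v⁻¹ * (v * z * v⁻¹) * (v * z') := by group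
    _ = z' * z := by rw [e1, ← key z' (mem_zpowers _)]; group

theorem DS.pair2 (h : DS S r u z) (h' : DS S' r v z') (h1 : Del u z ≤ S') (h2 : Del v z' ≤ S)
    (hk : k ∈ S ⊓ S') (h3 : k * k = 1) (h4 : k ∈ Cs (Del v z')) : k ∈ Cs (Del u z) := by
  refine (h.one ⟨hk.1, mem_C1.2 (h4 r (h'.Z_del h'.r_mem)).symm⟩ h3).resolve_right fun e => ?_
  obtain ⟨e1, e2⟩ := h.pair1 h' h1 h2
  obtain ⟨τ, t1, t2⟩ := h.tau
  obtain ⟨σ, s1, s2⟩ := h'.tau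
  have c : τ * σ = σ * τ := by
    obtain ⟨i, rfl⟩ := t1
    obtain ⟨j, rfl⟩ := s1
    exact (Commute.zpow_zpow e2 i j).eq
  have c' : σ⁻¹ * τ⁻¹ = τ⁻¹ * σ⁻¹ := by rw [← mul_inv_rev, c, mul_inv_rev]
  have k1 : k * σ * k⁻¹ = σ := by rw [← h4 σ (h'.Z_del s1)]; group
  refine h'.K (τ * σ⁻¹ * k) ⟨mul_mem (mul_mem (h1 (h.Z_del t1)) (S'.inv_mem (h'.Z_le s1).1)) hk.2,
    mul_mem (mul_mem (h.Z_le t1).2 ((C1 r).inv_mem (h'.Z_le s1).2))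
      (mem_C1.2 (h4 r (h'.Z_del h'.r_mem)).symm)⟩ 1 (one_mem _) ?_ ?_
  · rw [mul_one, mul_assoc, ← h4 v h'.u_del, ← mul_assoc, ← mul_assoc, mul_left_inj]
    calc τ * σ⁻¹ * v = τ * σ⁻¹ * v⁻¹ := by rw [h'.uinv]
      _ = v⁻¹ * (v * τ * v⁻¹) * (v * σ * v⁻¹)⁻¹ * (v * v)⁻¹ * (v * v) := by group
      _ = v * (τ⁻¹ * (σ * σ) * σ⁻¹) := by rw [conj_inv_of e1 t1, h'.inv' s1, h'.uinv]; group
      _ = _ := by rw [s2, ← t2]; group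
  · calc τ * σ⁻¹ * k * (τ * σ⁻¹ * k)
        = τ * (σ⁻¹ * (k * τ * k⁻¹)) * (k * σ * k⁻¹)⁻¹ * (k * k) := by group
      _ = (σ * σ)⁻¹ := by rw [conj_inv_of e t1, k1, h3, c']; group
      _ = r := by rw [s2, inv_eq_of_sq h.r2]

theorem DS.pair_symm (h : DS S r u z) (h' : DS S' r v z') (h1 : Del u z ≤ S')
    (h2 : Del v z' ≤ S) (e : orderOf z = orderOf z') (h3 : Ev u z v) : Ev v z' u := by
  by_contra h4
  rw [h'.odd_iff ⟨h1 h.u_del, h.u_mem.2⟩, ← e, ← orderOf_inv,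
    show (v * (u * v * u⁻¹))⁻¹ = u * (v⁻¹ * u⁻¹ * v⁻¹) by group, h.uinv] at h4
  refine (h.odd_iff ⟨h2 h'.u_del, h'.u_mem.2⟩).2 ?_ h3
  rw [← h4, h'.uinv]

theorem DS.pair_key {S₁ S₂ S₃ : Subgroup G} {u₁ u₂ u₃ z₁ z₂ z₃ : G} (h₁ : DS S₁ r u₁ z₁)
    (h₂ : DS S₂ r u₂ z₂) (h₃ : DS S₃ r u₃ z₃) (t₁ : T ≤ S₁) (t₂ : T ≤ S₂) (t₃ : T ≤ S₃)
    (l₁ : Del u₁ z₁ ≤ T) (l₂ : Del u₂ z₂ ≤ T) (l₃ : Del u₃ z₃ ≤ T) (e₁ : orderOf z₁ = orderOf z₃)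
    (h : Ev u₃ z₃ u₁ ↔ Ev u₃ z₃ u₂) : Ev u₁ z₁ u₂ := by
  have m₁ : u₁ ∈ S₃ ⊓ C1 r := ⟨t₃ (l₁ h₁.u_del), h₁.u_mem.2⟩
  have m₂ : u₂ ∈ S₃ ⊓ C1 r := ⟨t₃ (l₂ h₂.u_del), h₂.u_mem.2⟩
  have m₃ : u₂ ∈ S₁ ⊓ C1 r := ⟨t₁ (l₂ h₂.u_del), h₂.u_mem.2⟩
  obtain ⟨v, hv, e⟩ := (h₃.ev_mul m₁ m₂).2 h
  by_contra h1
  rw [h₁.odd_iff m₃] at h1
  have i1 := conj_inv_of (h₁.pair1 h₃ (l₁.trans t₃) (l₃.trans t₁)).1 (h₁.cl _ m₃)
  have c : u₁ * u₂ * z₃ * (u₁ * u₂)⁻¹ = z₃ := by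
    calc u₁ * u₂ * z₃ * (u₁ * u₂)⁻¹ = u₁ * (u₂ * z₃ * u₂⁻¹) * u₁⁻¹ := by group
      _ = z₃ := by
        rw [(h₃.pair1 h₂ (l₃.trans t₂) (l₂.trans t₃)).1, ← conj_inv',
          (h₃.pair1 h₁ (l₃.trans t₁) (l₁.trans t₃)).1, inv_inv]
  have e0 : u₁ * (u₂ * u₁ * u₂⁻¹) = u₁ * u₂ * (u₁ * u₂) := by rw [h₂.uinv]; group
  rw [e0] at h1 i1
  generalize u₁ * u₂ = ω at e h1 i1 c
  have e2 : ω * u₃ * ω⁻¹ = u₃ * (v * v) := by rw [h₃.conj_u ω, e]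
  have e3 : (ω * ω) ^ 2 = (v ^ 4)⁻¹ := by
    have : u₃ * ((ω * ω) ^ 2)⁻¹ = u₃ * v ^ 4 := by
      calc u₃ * ((ω * ω) ^ 2)⁻¹ = u₃ * (u₃ * (ω * ω) * u₃⁻¹) * (ω * ω)⁻¹ := by
            rw [i1, pow_two]; group
        _ = ω * (ω * u₃ * ω⁻¹) * ω⁻¹ := by
            rw [h₃.uinv, ← mul_assoc u₃, ← mul_assoc u₃, h₃.u2]; group
        _ = ω * u₃ * ω⁻¹ * (ω * (v * v) * ω⁻¹) := by nth_rewrite 1 [e2]; group
        _ = _ := by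
            rw [e2, conj_of c (mul_mem hv hv), show 4 = 2 + 2 from rfl, pow_add, pow_two, mul_assoc]
    rw [← mul_left_cancel this, inv_inv]
  obtain ⟨M, hM⟩ := h₃.four_dvd
  have e4 : v ^ orderOf z₃ = 1 := orderOf_dvd_iff_pow_eq_one.1 (orderOf_dvd_of_mem_zpowers hv)
  have e5 : (ω * ω) ^ (2 * M) = 1 := by rw [pow_mul, e3, inv_pow, ← pow_mul, ← hM, e4, inv_one]
  have e6 := orderOf_dvd_of_pow_eq_one e5
  have e7 := orderOf_pos z₃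
  rw [h1, e₁, hM] at e6
  have := Nat.le_of_dvd (by omega) e6
  omega

theorem DS.pair3 {S₁ S₂ S₃ : Subgroup G} {u₁ u₂ u₃ z₁ z₂ z₃ : G} (h₁ : DS S₁ r u₁ z₁)
    (h₂ : DS S₂ r u₂ z₂) (h₃ : DS S₃ r u₃ z₃) (hT : T ≤ S₁ ⊓ S₂ ⊓ S₃) (l₁ : Del u₁ z₁ ≤ T)
    (l₂ : Del u₂ z₂ ≤ T) (l₃ : Del u₃ z₃ ≤ T) (e₁ : orderOf z₁ = orderOf z₃)
    (e₂ : orderOf z₂ = orderOf z₃) : Ev u₁ z₁ u₂ ↔ (Ev u₃ z₃ u₁ ↔ Ev u₃ z₃ u₂) := by
  have t₁ : T ≤ S₁ := hT.trans (inf_le_left.trans inf_le_left)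
  have t₂ : T ≤ S₂ := hT.trans (inf_le_left.trans inf_le_right)
  have t₃ : T ≤ S₃ := hT.trans inf_le_right
  refine ⟨fun h => ⟨fun h1 => ?_, fun h1 => ?_⟩, h₁.pair_key h₂ h₃ t₁ t₂ t₃ l₁ l₂ l₃ e₁⟩
  · exact h₃.pair_key h₂ h₁ t₃ t₂ t₁ l₃ l₂ l₁ e₁.symm (iff_of_true
      (h₃.pair_symm h₁ (l₃.trans t₁) (l₁.trans t₃) e₁.symm h1) h)
  · exact h₃.pair_key h₁ h₂ t₃ t₁ t₂ l₃ l₁ l₂ e₂.symm (iff_of_true
      (h₃.pair_symm h₂ (l₃.trans t₂) (l₂.trans t₃) e₂.symm h1)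
      (h₁.pair_symm h₂ (l₁.trans t₂) (l₂.trans t₁) (e₁.trans e₂.symm) h))

end Cfsg.Lib.Bau
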