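import Cfsg.Agent.Bau.Ds2
import Cfsg.Agent.Bau.Dat

set_option autoImplicit false
set_option linter.unusedSectionVars false

open scoped commutatorElement

namespace Cfsg.Lib.Bau

open Cfsg Subgroup Cfsg.Lib.Trans Cfsg.Lib.Trans.TJ Cfsg.Lib.Gold Cfsg.Lib.Gomi

universe u

variable {G : Type u} [Group G] [Finite G]
  {A A' B C E H J J' K L L' L₁ L₂ M P S S' T V V' W W' X α δ : Subgroup G}
  {a b c d e g k n r r' s t t' u u' v w x x' y y' z z' : G}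

theorem ds3_u_mem : u ∈ Del u z := subset_closure (Or.inl rfl)

theorem ds3_z_mem : z ∈ Del u z := subset_closure (Or.inr rfl)

theorem ds3_zp_le : zpowers z ≤ Del u z := zpowers_le.2 ds3_z_mem

theorem DS.ds3_r_del (h : DS S r u z) : r ∈ Del u z := ds3_zp_le h.r_mem

theorem DS.ds3_u_not (h : DS S r u z) : u ∉ Cs (Del u z) := fun h1 => by
  rcases h.cen ds3_u_mem h1 with e | e
  · exact h.uz (e ▸ one_mem _)
  · exact h.uz (e ▸ h.r_mem)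

theorem ds3_ea_sup (hA : IsElementaryAbelian 2 A) (hx : x * x = 1) (h1 : x ∈ Cs A) :
    IsElementaryAbelian 2 (A ⊔ zpowers x : Subgroup G) :=
  ea_sup hA (ea_zpowers (by rw [pow_two, hx])) (le_Cs_comm.1 (zpowers_le.2 h1))

theorem DS.two (h : DS S r u z) (hH : H ≤ S ⊓ C1 r) (h1 : r ∈ H) (h2 : u ∈ H) (hA : Mx H A) :
    ¬ A ≤ Cs (Del u z) ∧ r ∈ A ∧ (Cs (Del u z)).relIndex A = 2 ∧
      Mx H (A ⊓ Cs (Del u z) ⊔ zpowers u) := by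
  have hr : r ∈ A := mx_mem hA h1 (mem_Cs.2 fun a ha => mem_C1.1 (hH (hA.le ha)).2) h.r2
  have hu : u ∈ Cs (A ⊓ Cs (Del u z)) :=
    mem_Cs.2 fun a ha => (mem_Cs.1 ha.2 u ds3_u_mem).symm
  have hc := card_sup_zpowers h.u2 hu fun e => h.ds3_u_not e.2
  have hea := ds3_ea_sup (ea_mono hA.ea inf_le_left) h.u2 hu
  have hle : A ⊓ Cs (Del u z) ⊔ zpowers u ≤ H :=
    sup_le (inf_le_left.trans hA.le) (zpowers_le.2 h2)
  have h3 := hA.card_le hle hea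
  have hn : ¬ A ≤ Cs (Del u z) := fun e => by
    rw [hc, inf_eq_left.2 e] at h3
    have : 0 < Nat.card A := Nat.card_pos
    omega
  obtain ⟨a, ha, ha'⟩ := SetLike.not_le_iff_exists.1 hn
  have hi : (Cs (Del u z)).relIndex A = 2 := by
    refine relIndex_eq_two_iff.2 ⟨a, ha, fun b hb => ?_⟩
    by_cases hb' : b ∈ Cs (Del u z)
    · exact Or.inr ⟨hb', fun e => ha' ((mul_mem_cancel_left hb').1 e)⟩
    · refine Or.inl ⟨?_, hb'⟩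
      have e1 := (h.one (hH (hA.le ha)) (mx_sq hA ha)).resolve_left ha'
      have e2 := (h.one (hH (hA.le hb)) (mx_sq hA hb)).resolve_left hb'
      refine h.of_z (hH (hA.le (mul_mem hb ha))) (mx_sq hA (mul_mem hb ha)) (mem_C1.2 ?_)
      have e3 : b * a * z * (b * a)⁻¹ = z := by
        calc b * a * z * (b * a)⁻¹ = b * (a * z * a⁻¹) * b⁻¹ := by group
          _ = (b * z * b⁻¹)⁻¹ := by rw [e1]; group
          _ = z := by rw [e2, inv_inv]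
      exact mul_inv_eq_iff_eq_mul.1 e3
  refine ⟨hn, hr, hi, hA.of_card_le hle hea ?_⟩
  have h4 := card_mul_relIndex (inf_le_left : A ⊓ Cs (Del u z) ≤ A)
  rw [inf_relIndex_left, hi] at h4
  omega

theorem DS.ds3_del_le (h : DS S r u z) (hH : H ≤ S ⊓ C1 r) (h1 : Del u z ≤ H) :
    Del u z ≤ JJ H := by
  obtain ⟨A, hA⟩ := exists_maxEA 2 H
  have e1 : u ∈ JJ H := mx_le_J (h.two hH (h1 h.ds3_r_del) (h1 ds3_u_mem) hA).2.2.2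
    (mem_sup_right (mem_zpowers u))
  have e2 : u * z ∈ JJ H := mx_le_J ((h.shift (mem_zpowers z)).1.two hH (h1 h.ds3_r_del)
    (h1 (mul_mem ds3_u_mem ds3_z_mem)) hA).2.2.2 (mem_sup_right (mem_zpowers _))
  refine (closure_le _).2 ?_
  rintro g (rfl | rfl)
  · exact e1
  · exact (mul_mem_cancel_left e1).1 e2

/-- the squares of an abelian subgroup. -/
def ds3Sq (T : Subgroup G) (hT : T ≤ Cs T) : Subgroup G where
  carrier := {x | ∃ g ∈ T, g * g = x}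
  one_mem' := ⟨1, one_mem _, one_mul _⟩
  mul_mem' := by
    rintro _ _ ⟨a, ha, rfl⟩ ⟨b, hb, rfl⟩
    refine ⟨a * b, mul_mem ha hb, ?_⟩
    have e := mem_Cs.1 (hT ha) b hb
    calc a * b * (a * b) = a * (b * a) * b := by group
      _ = a * a * (b * b) := by rw [e]; group
  inv_mem' := by
    rintro _ ⟨a, ha, rfl⟩
    exact ⟨a⁻¹, inv_mem ha, by group⟩

theorem ds3_closure_cs {s : Set G} (hc : ∀ a ∈ s, ∀ b ∈ s, a * b = b * a) :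
    closure s ≤ Cs (closure s) :=
  (closure_le _).2 fun a ha => le_Cs_comm.1
    ((closure_le (K := Cs (zpowers a))).2 fun b hb => by
      rw [Cs_zpowers]; exact mem_C1.2 (hc b hb a ha)) (mem_zpowers a)

theorem DS.ds3_cj (h : DS S r u z) (hb : b ∈ S) :
    DS S (b * r * b⁻¹) (b * u * b⁻¹) (b * z * b⁻¹) := by
  have := h.cj b
  rwa [cj_eq_of_mem hb] at this

theorem DS.ds3_J_le (hb : b ∈ S ⊓ Ns (JJ (S ⊓ C1 r))) :
    JJ (S ⊓ C1 r) ≤ S ⊓ C1 (b * r * b⁻¹) := by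
  have e : Trans.cj b (JJ (S ⊓ C1 r)) ≤ Trans.cj b (S ⊓ C1 r) := cj_mono b JJ_le
  rwa [mem_Ns_iff.1 hb.2, cj_inf, cj_eq_of_mem hb.1, cj_C1] at e

theorem DS.ds3_del_cj (h : DS S r u z) (hb : b ∈ S ⊓ Ns (JJ (S ⊓ C1 r))) :
    Del (b * u * b⁻¹) (b * z * b⁻¹) ≤ JJ (S ⊓ C1 r) := by
  have e := cj_mono b (h.ds3_del_le le_rfl h.le)
  rwa [mem_Ns_iff.1 hb.2, Del_cj] at e

theorem DS.ds3_comm (h : DS S r u z) (hb : b ∈ S ⊓ Ns (JJ (S ⊓ C1 r)))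
    (hc : c ∈ S ⊓ Ns (JJ (S ⊓ C1 r))) (hne : b * r * b⁻¹ ≠ c * r * c⁻¹) :
    Del (c * u * c⁻¹) (c * z * c⁻¹) ≤ Cs (Del (b * u * b⁻¹) (b * z * b⁻¹)) :=
  (h.ds3_cj hb.1).three (h.ds3_cj hc.1) hne ((h.ds3_del_cj hb).trans (DS.ds3_J_le hc))
    ((h.ds3_del_cj hc).trans (DS.ds3_J_le hb))

theorem DS.ds3_comm1 (h : DS S r u z) (hc : c ∈ S ⊓ Ns (JJ (S ⊓ C1 r))) (hne : c ∉ C1 r) :
    Del (c * u * c⁻¹) (c * z * c⁻¹) ≤ Cs (Del u z) := by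
  have := h.ds3_comm (b := 1) (one_mem _) hc fun e => hne (mem_C1.2 (by
    rw [one_mul, inv_one, mul_one] at e
    exact mul_inv_eq_iff_eq_mul.1 e.symm))
  simpa using this

theorem DS.ds3_zz (h : DS S r u z) (hb : b ∈ S ⊓ Ns (JJ (S ⊓ C1 r)))
    (hc : c ∈ S ⊓ Ns (JJ (S ⊓ C1 r))) :
    b * z * b⁻¹ * (c * z * c⁻¹) = c * z * c⁻¹ * (b * z * b⁻¹) := by
  by_cases e : b * r * b⁻¹ = c * r * c⁻¹
  · have hb1 : b ∈ S := hb.1
    have hc1 : c ∈ S := hc.1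
    have h1 : b⁻¹ * c ∈ S ⊓ C1 r := mem_inf.2 ⟨mul_mem (inv_mem hb1) hc1, mem_C1.2 (by
      calc b⁻¹ * c * r = b⁻¹ * (c * r * c⁻¹) * c := by group
        _ = r * (b⁻¹ * c) := by rw [← e]; group)⟩
    obtain ⟨n, hn⟩ := mem_normalizer_conj (h.nz h1) (mem_zpowers z)
    have e2 : c * z * c⁻¹ = b * z ^ n * b⁻¹ := by
      calc c * z * c⁻¹ = b * (b⁻¹ * c * z * (b⁻¹ * c)⁻¹) * b⁻¹ := by group
        _ = _ := by rw [← hn]
    rw [e2]; group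
  · exact mem_Cs.1 (h.ds3_comm hb hc e ds3_z_mem) _ ds3_z_mem

theorem DS.ds3_end (h : DS S r u z) (hA : Mx (S ⊓ Ns (JJ (S ⊓ C1 r))) (A' ⊔ zpowers r))
    (ha : a ∈ S ⊓ Ns (JJ (S ⊓ C1 r))) (hn : a ∉ C1 r) (h1 : A' ≤ C1 r) (h2 : A' ≤ C1 a) :
    False := by
  have h' := h.ds3_cj ha.1
  have hJN : JJ (S ⊓ C1 r) ≤ S ⊓ Ns (JJ (S ⊓ C1 r)) :=
    le_inf (JJ_le.trans inf_le_left) le_normalizer
  have hJ : JJ (S ⊓ C1 r) ≤ S ⊓ Ns (JJ (S ⊓ C1 r)) ⊓ C1 r ⊓ C1 (a * r * a⁻¹) :=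
    le_inf (le_inf hJN (JJ_le.trans inf_le_right)) ((DS.ds3_J_le ha).trans inf_le_right)
  have d1 := (h.ds3_del_le le_rfl h.le).trans hJ
  have d2 := (h.ds3_del_cj ha).trans hJ
  have fx : ∀ b ∈ A', a * b * a⁻¹ = b := fun b hb =>
    mul_inv_eq_iff_eq_mul.2 (mem_C1.1 (h2 hb)).symm
  have hle : A' ⊔ zpowers r ≤ S ⊓ Ns (JJ (S ⊓ C1 r)) ⊓ C1 r ⊓ C1 (a * r * a⁻¹) := by
    refine sup_le (le_inf (le_inf (le_sup_left.trans hA.le) h1) fun b hb => ?_)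
      (zpowers_le.2 (d1 h.ds3_r_del))
    rw [← cj_C1, ← fx b hb]
    exact conj_mem_cj.2 (h1 hb)
  have hA0 := hA.of_le hle (inf_le_left.trans inf_le_left)
  have t1 := (h.two (inf_le_left.trans (inf_le_inf_right _ inf_le_left)) (d1 h.ds3_r_del)
    (d1 ds3_u_mem) hA0).2.2.2
  have cc := le_Cs_comm.1 (h.ds3_comm1 ha hn)
  refine (h'.two (inf_le_inf_right _ (inf_le_left.trans inf_le_left)) (d2 h'.ds3_r_del)
    (d2 ds3_u_mem) t1).1 (sup_le (fun c hc => ?_) (zpowers_le.2 (cc ds3_u_mem)))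
  have key : ∀ b ∈ A', b ∈ Cs (Del u z) → b ∈ Cs (Del (a * u * a⁻¹) (a * z * a⁻¹)) :=
    fun b hb e => by
      rw [← Del_cj, ← cj_Cs, ← fx b hb]
      exact conj_mem_cj.2 e
  have hrN : r ∈ Ns A' := Cs_le_Ns (mem_Cs.2 fun b hb => mem_C1.1 (h1 hb))
  rcases (mem_sup_zpowers h.r2 hrN).1 hc.1 with e | e
  · exact key c e hc.2
  · exact (mul_mem_cancel_right (cc h.ds3_r_del)).1 (key _ e (mul_mem hc.2 h.r_cs))

theorem DS.four (h : DS S r u z) : JJ S ≤ C1 r := by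
  by_contra hcon
  have hne : JJ S ≠ JJ (S ⊓ C1 r) := fun e => hcon (e ▸ JJ_le.trans inf_le_right)
  obtain ⟨A₀, hA₀, hn₀⟩ := exists_mx_not_le h.pg (JJ_le.trans inf_le_left) JJ_JJ hne
  have hSN : S ⊓ C1 r ≤ S ⊓ Ns (JJ (S ⊓ C1 r)) :=
    le_inf inf_le_left (le_normalizer.trans ns_le_JJ)
  obtain ⟨A, ⟨hA, hn⟩, hmax⟩ := Set.exists_max_image
    {A : Subgroup G | Mx (S ⊓ Ns (JJ (S ⊓ C1 r))) A ∧ ¬ A ≤ C1 r}
    (fun A => Nat.card (A ⊓ C1 r : Subgroup G)) (Set.toFinite _)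
    ⟨A₀, hA₀, fun e => hn₀ (mx_le_J (hA₀.of_le (le_inf (hA₀.le.trans inf_le_left) e) hSN))⟩
  obtain ⟨a, ha, ha'⟩ := SetLike.not_le_iff_exists.1 hn
  obtain ⟨A₁, l0, l1, a1, c1, -⟩ := exists_index_two (A' := A ⊓ C1 r) (fun _ => mx_sq hA)
    inf_le_left ha fun e => ha' e.2
  -- the abelian group `T` and its squares
  have hT : closure {g | ∃ b ∈ A, b ∉ C1 r ∧ g = b * z * b⁻¹} ≤
      Cs (closure {g | ∃ b ∈ A, b ∉ C1 r ∧ g = b * z * b⁻¹}) := ds3_closure_cs (by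
    rintro _ ⟨b, hb, -, rfl⟩ _ ⟨c, hc, -, rfl⟩
    exact h.ds3_zz (hA.le hb) (hA.le hc))
  have hT1 : closure {g | ∃ b ∈ A, b ∉ C1 r ∧ g = b * z * b⁻¹} ≤ S ⊓ C1 r ⊓ C1 u := by
    refine (closure_le _).2 ?_
    rintro _ ⟨b, hb, hb', rfl⟩
    exact ⟨JJ_le (h.ds3_del_cj (hA.le hb) ds3_z_mem),
      Cs_le_C1 ds3_u_mem (h.ds3_comm1 (hA.le hb) hb' ds3_z_mem)⟩
  have hrH : r ∉ ds3Sq _ hT := by
    rintro ⟨g, hg, e⟩
    exact h.K g (hT1 hg).1 1 (one_mem _) (by rw [mul_one]; exact mem_C1.1 (hT1 hg).2) e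
  have hH : ∀ b ∈ A, b ∉ C1 r → b * r * b⁻¹ ∈ ds3Sq _ hT := fun b hb hb' => by
    obtain ⟨τ, hτ, e⟩ := h.tau
    refine ⟨b * τ * b⁻¹, ?_, by rw [← e]; group⟩
    have h1 : b * τ * b⁻¹ ∈ zpowers (b * z * b⁻¹) := by
      rw [← cj_zpowers]; exact conj_mem_cj.2 hτ
    have h2 : b * z * b⁻¹ ∈ closure {g | ∃ b ∈ A, b ∉ C1 r ∧ g = b * z * b⁻¹} :=
      Subgroup.subset_closure ⟨b, hb, hb', rfl⟩
    exact (zpowers_le.2 h2) h1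
  -- the group `W`
  have hWJ : closure {g | ∃ b ∈ A, g = b * r * b⁻¹} ≤ JJ (S ⊓ C1 r) := by
    refine (closure_le _).2 ?_
    rintro _ ⟨b, hb, rfl⟩
    exact h.ds3_del_cj (hA.le hb) (h.ds3_cj (hA.le hb).1).ds3_r_del
  have hW : IsElementaryAbelian 2 (closure {g | ∃ b ∈ A, g = b * r * b⁻¹}) := by
    refine ea_closure ?_ ?_
    · rintro _ ⟨b, hb, rfl⟩ _ ⟨c, hc, rfl⟩
      exact mem_C1.1 (DS.ds3_J_le (hA.le hc) (hWJ (subset_closure ⟨b, hb, rfl⟩))).2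
    · rintro _ ⟨b, hb, rfl⟩
      rw [pow_two]; exact (h.ds3_cj (hA.le hb).1).r2
  have hWn : A₁ ≤ Ns (closure {g | ∃ b ∈ A, g = b * r * b⁻¹}) := fun c hc => by
    refine mem_normalizer_of_cj_le ?_
    rw [cj_le_iff_le_cj_inv]
    refine (closure_le _).2 ?_
    rintro _ ⟨b, hb, rfl⟩
    exact mem_cj_inv.2 (subset_closure ⟨c * b, mul_mem (l1 hc) hb, by group⟩)
  obtain ⟨ρ, hρ, c2, c3⟩ := prod (ea_isPGroup (ea_mono hA.ea l1))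
    (l1.trans ((mx_cs hA).trans (Cs_anti l1))) l0 (ea_le_centralizer hW) hWn
    (subset_closure ⟨1, one_mem _, by group⟩) inf_le_right
  have r1 : ρ * r⁻¹ ∈ ds3Sq _ hT := c3 _ fun b hb hb' => hH b (l1 hb) fun e => hb' ⟨l1 hb, e⟩
  have r2 : ρ * r⁻¹ ∈ Trans.cj a⁻¹ (ds3Sq _ hT) := c3 _ fun b hb _ => by
    refine mem_cj_inv.2 ?_
    have := hH (a * b) (mul_mem ha (l1 hb)) fun e =>
      a1 ((mul_mem_cancel_right hb).1 (l0 ⟨mul_mem ha (l1 hb), e⟩))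
    convert this using 1
    group
  have r3 : ρ ∈ Trans.cj a⁻¹ (ds3Sq _ hT) :=
    (mul_mem_cancel_right (inv_mem (mem_cj_inv.2 (hH a ha ha')))).1 r2
  have r4 : ρ ∉ A₁ := fun e => by
    have e1 := mem_cj_inv.1 r3
    rw [mem_Cs.1 (mx_cs hA (l1 e)) a ha, mul_inv_cancel_right] at e1
    exact hrH (inv_mem_iff.1 ((mul_mem_cancel_left e1).1 r1))
  have ρ2 : ρ * ρ = 1 := by rw [← pow_two]; exact ea_pow hW hρ
  have ρc : ρ ∈ Cs A₁ := mem_Cs.2 fun b hb => mem_C1.1 (c2 hb)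
  have ρr : ρ ∈ S ⊓ C1 r := JJ_le (hWJ hρ)
  have hB : Mx (S ⊓ Ns (JJ (S ⊓ C1 r))) (A₁ ⊔ zpowers ρ) :=
    hA.of_card_le (sup_le (l1.trans hA.le) (zpowers_le.2 (hSN ρr)))
      (ds3_ea_sup (ea_mono hA.ea l1) ρ2 ρc) (by rw [card_sup_zpowers ρ2 ρc r4, c1])
  have hBr : A₁ ⊔ zpowers ρ ≤ C1 r := by
    by_contra hc
    have h3 := hmax _ ⟨hB, hc⟩
    have h4 : A ⊓ C1 r ≤ (A₁ ⊔ zpowers ρ) ⊓ C1 r := le_inf (l0.trans le_sup_left) inf_le_right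
    have h5 := eq_of_le_of_card_ge h4 h3
    have h6 : ρ ∈ A ⊓ C1 r := by rw [h5]; exact ⟨mem_sup_right (mem_zpowers ρ), ρr.2⟩
    exact r4 (l0 h6)
  have h7 : A₁ ≤ C1 r := le_sup_left.trans hBr
  have h8 : ρ * r⁻¹ ∈ (⊥ : Subgroup G) := c3 _ fun b hb hb' => (hb' ⟨l1 hb, h7 hb⟩).elim
  rw [mul_inv_eq_one.1 (mem_bot.1 h8)] at hB
  exact h.ds3_end hB (hA.le ha) ha' h7 (l1.trans ((mx_cs hA).trans (Cs_le_C1 ha)))

theorem DS.ds3_JJ (h : DS S r u z) : JJ (S ⊓ C1 r) = JJ S :=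
  J_eq_of_le (le_inf JJ_le h.four) inf_le_left

theorem DS.le_J (h : DS S r u z) : Del u z ≤ JJ S := by
  rw [← h.ds3_JJ]; exact h.ds3_del_le le_rfl h.le

theorem DS.r_OZ (h : DS S r u z) : r ∈ OZ (JJ S) :=
  mem_OZ.2 ⟨h.le_J h.ds3_r_del, mem_Cs.2 fun _ hb => mem_C1.1 (h.four hb), h.r2⟩

theorem DS.ds3_cs (h : DS S r u z) : Cs (Del u z) ≤ Cs (Four r u) := fun _ hg =>
  mem_Cs_Four.2 ⟨Cs_le_C1 h.ds3_r_del hg, Cs_le_C1 ds3_u_mem hg⟩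

theorem DS.x_mem (h : DS S r u z) (hd : Dat S r u y x A) : x ∈ JJ S := by
  obtain ⟨A', hA'⟩ := exists_maxEA 2 (S ⊓ C1 r)
  have t := (h.two le_rfl (h.le h.ds3_r_del) (h.le ds3_u_mem) hA').2.2.2
  have hO : S ⊓ Cs (Four r u) ≤ S ⊓ C1 r := fun g hg => ⟨hg.1, (mem_Cs_Four.1 hg.2).1⟩
  have hu : u ∈ S ⊓ Cs (Four r u) := ⟨h.uS, mem_Cs_Four.2 ⟨mem_C1.2 h.ru.symm, mem_C1.2 rfl⟩⟩
  have m := t.up (sup_le (inf_le_inf (hA'.le.trans inf_le_left) h.ds3_cs) (zpowers_le.2 hu)) hO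
    hd.mx
  have aE : ∀ b ∈ A, b ∈ C1 r ∧ b ∈ C1 u := fun b hb =>
    ⟨(mem_Cs_E4.1 (hd.le hb).1.2).1, (mem_Cs_E4.1 (hd.le hb).1.2).2.1⟩
  have eA : IsElementaryAbelian 2 A := ea_mono m.ea le_sup_right
  have rc : r ∈ Cs A := mem_Cs.2 fun b hb => mem_C1.1 (aE b hb).1
  have eA1 := ds3_ea_sup eA h.r2 rc
  have lu : A ⊔ zpowers r ≤ C1 u :=
    sup_le (fun b hb => (aE b hb).2) (zpowers_le.2 (mem_C1.2 h.ru))
  have lx : A ⊔ zpowers r ≤ C1 x :=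
    sup_le (fun b hb => (hd.le hb).2) (zpowers_le.2 (mem_C1.2 hd.xr.symm))
  have uc : u ∈ Cs (A ⊔ zpowers r) := mem_Cs.2 fun b hb => mem_C1.1 (lu hb)
  have xc : x ∈ Cs (A ⊔ zpowers r) := mem_Cs.2 fun b hb => mem_C1.1 (lx hb)
  have xn : x ∉ A ⊔ zpowers r := fun e => by
    have e1 := hd.xu
    rw [mem_C1.1 (lu e), mul_inv_cancel_right, h.u2, one_mul] at e1
    exact h.r1 e1.symm
  have hc := card_sup_zpowers hd.x2 xc xn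
  have hle : Four r u ⊔ A ≤ A ⊔ zpowers r ⊔ zpowers u := by
    refine sup_le ((closure_le _).2 ?_) (le_sup_left.trans le_sup_left)
    rintro g (rfl | rfl)
    · exact mem_sup_left (mem_sup_right (mem_zpowers _))
    · exact mem_sup_right (mem_zpowers _)
  have hc2 : Nat.card (A ⊔ zpowers r ⊔ zpowers u : Subgroup G) ≤
      2 * Nat.card (A ⊔ zpowers r : Subgroup G) := by
    by_cases e : u ∈ A ⊔ zpowers r
    · rw [sup_eq_left.2 (zpowers_le.2 e)]; omega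
    · exact (card_sup_zpowers h.u2 uc e).le
  have xr : x ∈ S ⊓ C1 r := ⟨hd.xS, mem_C1.2 hd.xr⟩
  have m2 : Mx (S ⊓ C1 r) (A ⊔ zpowers r ⊔ zpowers x) :=
    m.of_card_le (sup_le (sup_le (le_sup_right.trans m.le) (zpowers_le.2 (h.le h.ds3_r_del)))
      (zpowers_le.2 xr)) (ds3_ea_sup eA1 hd.x2 xc)
      (by rw [hc]; exact (Subgroup.card_le_of_le hle).trans hc2)
  rw [← h.ds3_JJ]
  exact mx_le_J m2 (mem_sup_right (mem_zpowers x))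

theorem DS.ux_mem (h : DS S r u z) (hd : Dat S r u y x A) : x * u * x⁻¹ ∈ Del u z :=
  mem_normalizer_conj (h.ns ⟨hd.xS, mem_C1.2 hd.xr⟩) ds3_u_mem

theorem DS.dec (h : DS S r u z) (hd : Dat S r u y x A) (hs : s ∈ S ⊓ Cs (Del u z)) :
    s ∈ Cs (E4 r u y) ∨ s * r ∈ Cs (E4 r u y) :=
  hd.dec2 (h.le (h.ux_mem hd)).1 (mem_C1.1 (h.le (h.ux_mem hd)).2) hd.ux.2 ⟨hs.1, h.ds3_cs hs.2⟩
    (Cs_le_C1 (h.ux_mem hd) hs.2)

theorem DS.dd (h : DS S r u z) (hd : Dat S r u y x A) (h1 : DD d) (hs : d ∈ S ⊓ Cs (Del u z)) :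
    d * r ∈ Cs (E4 r u y) :=
  hd.dd h.pg h1 ⟨hs.1, h.ds3_cs hs.2⟩ (Cs_le_C1 (h.ux_mem hd) hs.2)

theorem DS.noD (h : DS S r u z) (hd : Dat S r u y x A) (h1 : DD d) (hs : d ∈ Cs (Del u z)) :
    d ∉ Cs (E4 r u y) := fun hE =>
  hd.nc4 h1 (mem_Cs_E4.1 hE).2.2 (Cs_le_C1 (h.ux_mem hd) hs) (m := 1)
    (by
      rw [pow_one, pow_two]
      calc x * u * x⁻¹ * (x * u * x⁻¹) = x * (u * u) * x⁻¹ := by group
        _ = 1 := by rw [h.u2]; group)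
    (mem_C1.1 (h.le (h.ux_mem hd)).2) hd.ux.2

end Cfsg.Lib.Bau
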