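import Cfsg.Agent.Bau.Bc
import Cfsg.Agent.Bau.A1
import Cfsg.Agent.Bau.Ds3

set_option autoImplicit false
set_option linter.unusedSectionVars false

open scoped commutatorElement

namespace Cfsg.Lib.Bau

open Cfsg Subgroup Cfsg.Lib.Trans Cfsg.Lib.Trans.TJ Cfsg.Lib.Gold Cfsg.Lib.Gomi

universe u

variable {G : Type u} [Group G] [Finite G]
  {A A' B C E H J J' K L L' L₁ L₂ M P S S' T V V' W W' X α δ : Subgroup G}
  {a b c d e g k n r r' s t t' u u' v w x x' y y' z z' : G}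

theorem dz (ht : TC t S) (hu : Da S r u) : ∃ z, DZ S r u z := by
  obtain ⟨y, x, A, h⟩ := id hu
  obtain ⟨z, h1, h2⟩ := a1 (I := {v | Da S r v}) ht.pg h.rS h.r1 h.r2
    (fun v ⟨_, _, _, hv⟩ => ⟨hv.uS, hv.u2, hv.ru, hv.u1⟩)
    (fun v hv s hs => Da.cj_ns hv (le_normalizer hs.1) hs.2) (fun v hv => Da.swap hv)
    (fun u hu v hv => bc ht hu hv) (fun v hv g hg => Da.sq_ne hv hg) hu h.ux.1 h.xu
  exact ⟨z, h1, h2⟩

theorem DZ.of_da (h : DZ S r u z) (hv : Da S r v) : DZ S r v z ∧ Del v z = Del u z := by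
  obtain ⟨w, hw, rfl⟩ := (h.da v).1 hv
  refine ⟨⟨(h.ds.shift hw).1, fun v => (h.da v).trans ⟨?_, ?_⟩⟩, (h.ds.shift hw).2⟩
  · rintro ⟨w', hw', rfl⟩
    exact ⟨w⁻¹ * w', mul_mem (inv_mem hw) hw', by group⟩
  · rintro ⟨w', hw', rfl⟩
    exact ⟨w * w', mul_mem hw hw', mul_assoc _ _ _⟩

theorem DZ.da_self (h : DZ S r u z) : Da S r u := (h.da u).2 ⟨1, one_mem _, (mul_one u).symm⟩

theorem DZ.cj (h : DZ S r u z) (g : G) :
    DZ (cj g S) (g * r * g⁻¹) (g * u * g⁻¹) (g * z * g⁻¹) := by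
  refine ⟨h.ds.cj g, fun v => ⟨fun hv => ?_, ?_⟩⟩
  · have h1 := hv.cj g⁻¹
    rw [cj_inv_cj, show g⁻¹ * (g * r * g⁻¹) * g⁻¹⁻¹ = r by group, h.da] at h1
    obtain ⟨_, ⟨i, rfl⟩, e⟩ := h1
    refine ⟨_, ⟨i, rfl⟩, ?_⟩
    simp only [conj_zpow]
    calc v = g * (g⁻¹ * v * g⁻¹⁻¹) * g⁻¹ := by group
      _ = _ := by rw [e]; group
  · rintro ⟨_, ⟨i, rfl⟩, rfl⟩
    have h1 := ((h.da _).2 ⟨_, ⟨i, rfl⟩, rfl⟩).cj g
    simp only [conj_zpow]
    rwa [conj_mul']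

theorem Dzh.left_mem : u ∈ Del u z := subset_closure (Or.inl rfl)

theorem Dzh.zp_le : zpowers z ≤ Del u z := zpowers_le_of_mem (subset_closure (Or.inr rfl))

theorem Dzh.tr (ht : TC t S) (hz' : DZ S' r' u' z') (e : JJ S = JJ S') (hd' : Dat S' r' v y x A) :
    t * r' ∈ Cs (E4 r' v y) := by
  obtain ⟨h1, h2⟩ := hz'.of_da ⟨y, x, A, hd'⟩
  obtain ⟨h3, h4, -⟩ := mem_OZ.1 (e ▸ ht.mem_OZ_J)
  exact h1.ds.dd hd' ht.dd ⟨JJ_le h3, Cs_anti h1.ds.le_J h4⟩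

theorem Dzh.cl (ht : TC t S) (hz : DZ S r u z) (hz' : DZ S' r' u' z') (e : JJ S = JJ S')
    (hc : Del u' z' ≤ Cs (Del u z)) (hd : Dat S r v y x A) (hw : Da S' r' w) :
    r' ∈ Cs (E4 r v y) ∧ w ∈ Cs (E4 r v y) := by
  obtain ⟨h1, h2⟩ := hz.of_da ⟨y, x, A, hd⟩
  obtain ⟨h3, h4⟩ := hz'.of_da hw
  rw [← h2, ← h4] at hc
  have h5 : Del w z' ≤ S := h3.ds.le_J.trans (e ▸ JJ_le)
  have hr : r ∈ Del v z := Dzh.zp_le h1.ds.r_mem
  have hr' : r' ∈ Del w z' := Dzh.zp_le h3.ds.r_mem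
  have h6 : r' ∈ Cs (E4 r v y) := by
    obtain ⟨τ, hτ, rfl⟩ := h3.ds.tau
    have h7 := Dzh.zp_le (u := w) hτ
    exact hd.sq_mem ⟨h5 h7, mem_Cs_Four.2 ⟨Cs_le_C1 hr (hc h7), Cs_le_C1 Dzh.left_mem (hc h7)⟩⟩
  refine ⟨h6, (h1.ds.dec hd ⟨h5 Dzh.left_mem, hc Dzh.left_mem⟩).resolve_right fun h7 => ?_⟩
  obtain ⟨y', x', A', hd'⟩ := hw
  have h8 := mem_C1.1 (mem_Cs_E4.1 (Dzh.tr ht hz' e hd')).2.2
  have h9 : y' * t * y'⁻¹ = t * r' * w := by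
    calc _ = y' * (t * r') * y'⁻¹ * (y' * r' * y'⁻¹)⁻¹ := by group
      _ = _ := by rw [← h8, hd'.yr, inv_eq_of_sq hd'.u2, mul_inv_cancel_right]
  refine h1.ds.noD hd (h9 ▸ ht.dd.cj y') (mul_mem (mul_mem ?_ (hc hr')) (hc Dzh.left_mem)) ?_
  · exact le_Cs_comm.1 ((h1.ds.le.trans inf_le_left).trans (ht.le.trans (Cs_zpowers t).ge))
      (mem_zpowers t)
  · have : t * r' * w = t * r * r' * (w * r) := by
      have c1 := mem_Cs.1 (hc hr') r hr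
      have c2 := mem_Cs.1 (hc Dzh.left_mem) r hr
      rw [← c2, mul_assoc t r, c1, mul_assoc t (r' * r), mul_assoc r', ← mul_assoc r, hd.r2, one_mul,
        mul_assoc]
    rw [this]
    exact mul_mem (mul_mem (hd.tr ht) h6) h7

theorem Dzh.four_le : Four r u ≤ X ↔ r ∈ X ∧ u ∈ X := by
  rw [Four, closure_le, Set.insert_subset_iff, Set.singleton_subset_iff]
  rfl

theorem ddp (ht : TC t S) (ht' : TC t' S') (e : JJ S = JJ S') (hne : r ≠ r') :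
    KS S' r' ≤ Ns (KS S r) := by
  by_cases h0 : KS S r = ⊥
  · rw [h0]
    exact fun g _ => mem_Ns_iff.2 (map_bot _)
  obtain ⟨u, hu⟩ := exists_of_KS h0
  obtain ⟨z, hz⟩ := dz ht hu
  refine sSup_le ?_
  rintro _ ⟨v', y', x', A', hd', rfl⟩
  obtain ⟨z', hz'⟩ := dz ht' ⟨y', x', A', hd'⟩
  have hc := hz.ds.three hz'.ds hne (hz.ds.le_J.trans (e ▸ le_inf JJ_le hz'.ds.four))
    (hz'.ds.le_J.trans (e ▸ le_inf JJ_le hz.ds.four))
  have hc' := le_Cs_comm.1 hc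
  have key : ∀ v y x A, Dat S r v y x A → E4 r' v' y' ≤ Ns (E4 r v y) := fun v y x A hd => by
    obtain ⟨h1, h2⟩ := Dzh.cl ht hz hz' e hc hd ⟨y', x', A', hd'⟩
    obtain ⟨h3, h4⟩ := Dzh.cl ht' hz' hz e.symm hc' hd' ⟨y, x, A, hd⟩
    have h5 := (Dzh.cl ht' hz' hz e.symm hc' hd' hd.ux.1).2
    obtain ⟨y₀, x₀, A₀, h6⟩ := hd.ux.1
    have h7 := hd.ns_of h6.ru.symm hd.ux.2
    have hy' : y' ∈ E4 r' v' y' := subset_closure (Or.inr (Or.inr rfl))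
    have hf : Four r' v' ≤ E4 r' v' y' :=
      Dzh.four_le.2 ⟨subset_closure (Or.inl rfl), subset_closure (Or.inr (Or.inl rfl))⟩
    have h8 : t * r * r' ∈ Cs (E4 r' v' y') := by
      rw [mul_assoc, ← mem_Cs.1 h3 r' (hf (Dzh.four_le.1 le_rfl).1), ← mul_assoc]
      exact mul_mem (Dzh.tr ht hz' e hd') h3
    have h9 : y' ∈ Ns (E4 r v y) := by
      refine n2 (Ua := Four r v) (Ub := Four r' v') (C₀ := zpowers (t * r * r'))
        (U := zpowers (x * v * x⁻¹)) ht ?_ hd.res (hd.le_ncl h6.uS h6.ru.symm hd.ux.2)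
        (zpowers_le_of_mem h6.uS) (zpowers_le_of_mem (mem_Ns_sup (mem_Ns_sup h7 ?_) ?_))
        (zpowers_le_of_mem (hd.ns (le_normalizer h6.uS) h7)) hd.le_ns_four
        (le_Cs_comm.1 (Dzh.four_le.2 ⟨h1, h2⟩))
        (le_Cs_comm.1 (zpowers_le_of_mem (mul_mem (hd.tr ht) h1)))
        (le_Cs_comm.1 (Dzh.four_le.2 ⟨h3, h4⟩) hy') (hd'.le_ns_four hy')
        (le_Cs_comm.1 (zpowers_le_of_mem h8) hy') (le_Cs_comm.1 (zpowers_le_of_mem h5) hy')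
        ((inf_le_inf_left S (Cs_anti (le_sup_left.trans le_sup_left))).trans
          (le_normalizer.trans hd.d4))
      · have : t = t * r * r' * r' * r := by
          rw [mul_assoc _ r' r', hd'.r2, mul_one, mul_assoc, hd.r2, mul_one]
        rw [this]
        refine mul_mem (mul_mem (mem_sup_right ?_) (mem_sup_left (mem_sup_right ?_)))
          (mem_sup_left (mem_sup_left ?_))
        · rw [← this]
          exact mem_zpowers _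
        exacts [(Dzh.four_le.1 le_rfl).1, (Dzh.four_le.1 le_rfl).1]
      · exact Cs_le_Ns (Cs_anti hf h5)
      · refine Cs_le_Ns ((Cs_zpowers _).ge (mem_C1.2 ?_))
        exact Commute.mul_right (Commute.mul_right (mem_C1.1 (ht.le h6.uS)) h6.ru.symm)
          (mem_Cs.1 h5 r' (hf (Dzh.four_le.1 le_rfl).1)).symm
    rw [E4, closure_le]
    rintro _ (rfl | rfl | rfl)
    exacts [Cs_le_Ns h1, Cs_le_Ns h2, h9]
  exact fun g hg => mem_ns_KS fun v y x A hd => key v y x A hd hg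

end Cfsg.Lib.Bau
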