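import Cfsg.Agent.Bau.Basic
import Cfsg.Agent.Inst.CITStrong

set_option autoImplicit false
set_option linter.unusedSectionVars false

open scoped commutatorElement

namespace Cfsg.Lib.Bau

open Cfsg Subgroup Cfsg.Lib.Trans Cfsg.Lib.Trans.TJ Cfsg.Lib.Gold Cfsg.Lib.Gomi

universe u

variable {G : Type u} [Group G] [Finite G]
  {A A' B C E H J J' K L L' L₁ L₂ M P S S' T V V' W W' X α δ : Subgroup G}
  {a b c d e g k n r r' s t t' u u' v w x x' y y' z z' : G}

theorem ed (hs : IsSimpleGroup G) (hna : ¬ IsMulCommutative G) (ht : TC t S) (h1 : C1 t ≤ S)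
    (h2 : ∀ s ∈ S, s * s = 1 → s ≠ 1 → IsConj t s) : Lst G := by
  rcases Agent.Gate.CITStrong.out (G := G) (by
    by_contra! k
    exact hna ⟨⟨k⟩⟩) (fun a ha => by
      have a2 : a * a = 1 := by rw [← pow_two, ← ha, pow_orderOf_eq_one]
      have a1 : a ≠ 1 := fun e => by rw [e, orderOf_one] at ha; omega
      obtain ⟨g, -, hg⟩ := ht.syl.exists_cj_le (Q := zpowers a) (IsPGroup.of_card (n := 1)
        (by rw [Nat.card_zpowers, ha, pow_one])) le_top
      obtain ⟨c, hc⟩ := isConj_iff.1 (h2 _ (cj_le_iff.1 hg a (mem_zpowers a))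
        (by rw [conj_mul', a2, mul_one, mul_inv_cancel]) fun e => a1 (by simpa using e))
      have e : a = (g⁻¹ * c) * t * (g⁻¹ * c)⁻¹ := by
        rw [mul_inv_rev, inv_inv, mul_assoc g⁻¹, mul_assoc, ← mul_assoc _ c⁻¹, hc]; group
      have := isPGroup_cj (ht.pg.to_le h1) (g⁻¹ * c)
      rwa [cj_C1, ← e] at this) with ⟨F, _, _, k1, k2⟩ | ⟨F, _, _, k1, k2⟩ | k
  · rcases k1 with k1 | ⟨n, k1, k3⟩ | ⟨-, k1, n, k3⟩
    · exact .inr (.inr (.inr ⟨F, _, _, 3, by omega, .inl (by omega), k2⟩))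
    · exact .inl ⟨F, _, _, n, k1, k3, .inl k2⟩
    · exact .inr (.inr (.inr ⟨F, _, _, n, by omega, k3, k2⟩))
  · exact .inl ⟨F, _, _, 2, le_rfl, k1, .inr (.inl k2)⟩
  · exact .inr (.inl k)

end Cfsg.Lib.Bau
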