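import Cfsg.Agent.Bau.Basic

set_option autoImplicit false
set_option linter.unusedSectionVars false

open scoped commutatorElement

namespace Cfsg.Lib.Bau

open Cfsg Subgroup Cfsg.Lib.Trans Cfsg.Lib.Trans.TJ Cfsg.Lib.Gold Cfsg.Lib.Gomi
open Cfsg.Lib.Local.MSS (pCoreOf_le_of_isSylowIn pCoreOf_cj self_le_normalizer_pCoreOf pCoreOf_le)
open Cfsg.Lib.Trans.MP (comm_mem_of_norm mem_cent_sup)

universe u

variable {G : Type u} [Group G] [Finite G]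
  {A A' B C E H J J' K L L' L₁ L₂ M P S S' T V V' W W' X α δ : Subgroup G}
  {a b c d e g k n r r' s t t' u u' v w x x' y y' z z' : G}

theorem Ln.cj (h : Ln B L) (g : G) : Ln (cj g B) (cj g L) := by
  exact ⟨h.vx.cj g, h.syl.cj g⟩

theorem Ln.cj_mem (h : Ln B L) (hg : g ∈ L) : Ln (Trans.cj g B) L := by
  exact ⟨h.vx, h.syl.cj_of_mem hg⟩

theorem Ln.pg (h : Ln B L) : IsPGroup 2 B := by
  exact h.syl.isPGroup

theorem Ln.le (h : Ln B L) : B ≤ L := by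
  exact h.syl.le

theorem Ln.Q_le (h : Ln B L) : QQ L ≤ B := by
  exact pCoreOf_le_of_isSylowIn h.syl

theorem Ln.V_le (h : Ln B L) : VV L ≤ B := by
  exact (PU.vv_le L).trans h.Q_le

theorem VV_cj (g : G) (L : Subgroup G) : VV (cj g L) = cj g (VV L) := by
  exact PU.vv_cj g L

theorem QQ_cj (g : G) (L : Subgroup G) : QQ (cj g L) = cj g (QQ L) := by
  exact pCoreOf_cj g L

theorem VV_sq (hv : v ∈ VV L) : v * v = 1 := by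
  rw [← pow_two]; exact PU.vv_pow hv

theorem Ln.OZ_eq (h : Ln B L) : OZ B = VV L ⊓ Cs B := by
  ext x
  rw [mem_OZ, mem_inf]
  exact ⟨fun ⟨h1, h2, h3⟩ => ⟨h.vx.mem_V (h.le h1) (TJ.centralizer_anti h.Q_le h2)
    (by rw [pow_two, h3]), h2⟩, fun ⟨h1, h2⟩ => ⟨h.V_le h1, h2, VV_sq h1⟩⟩

theorem Ln.C_le (h : Ln B L) : VV L ⊓ Cs L ≤ OZ B := by
  rw [h.OZ_eq]; exact inf_le_inf_left _ (TJ.centralizer_anti h.le)

theorem Ln.comm_le (h : Ln B L) : ⁅VV L, B⁆ ≤ OZ B := by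
  rw [h.OZ_eq]; exact h.vx.comm_le h.syl

theorem Ln.R_not (h : Ln B L) : ¬ ⁅VV L, B⁆ ≤ Cs L := by
  exact h.vx.not_le h.syl

theorem Ln.memQ (h : Ln B L) (hs : s ∈ B) : s ∈ QQ L ↔ s ∈ Cs (VV L) := by
  exact ⟨fun h1 => PU.Q_le_cent L h1, h.vx.mem_Q' h.syl hs⟩

theorem Ln.reg (h : Ln B L) (hs : s ∈ B) (h1 : s ∉ QQ L) (hv : v ∈ VV L) (h2 : ⁅s, v⁆ ∈ Cs L) :
    v ∈ OZ B := by
  rw [h.OZ_eq]; exact ⟨hv, h.vx.reg h.syl hs h1 hv h2⟩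

theorem Ln.idx (h : Ln B L) : (OZ B).relIndex (VV L) = (QQ L).relIndex B := by
  obtain ⟨M, hM⟩ := h.vx.r1 h.syl
  rw [h.OZ_eq]; exact hM.idx

theorem Ln.R_eq (h : Ln B L) (e : A ⊔ QQ L = B) : ⁅VV L, B⁆ = ⁅VV L, A⁆ := by
  rw [← PU.comm_sup_Q ((le_sup_left.trans e.le).trans h.le), e]

theorem Ln.noD (h : Ln B L) (hd : DD d) : d ∉ Cs L := by
  intro hc
  obtain ⟨S, hS⟩ := hd
  obtain ⟨M, hM⟩ := h.vx.r1 h.syl
  obtain ⟨B', hB', e⟩ := h.vx.opp h.syl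
  have h1 : L ≤ C1 d := fun l hl => mem_C1.2 (hc l hl)
  have h2 : L ≤ S := e.ge.trans
    (sup_le (hS.le_of hB'.isPGroup (hB'.le.trans h1)) (hS.le_of h.pg (h.le.trans h1)))
  exact hM.uniq.not_le ((h.syl.eq_of_le (hS.pg.to_le h2) h.le le_rfl).le.trans hM.uniq.le)

theorem Ln.cover' (h : Ln B L) (hM : PU.R1 2 L B M) (hv : v ∈ VV L) :
    v ∈ OZ B ∨ ∃ g ∈ L, g ∉ M ∧ v ∈ Trans.cj g (OZ B) := by
  rw [h.OZ_eq]
  refine or_iff_not_imp_left.2 fun h1 => ?_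
  obtain ⟨x, hx, h2⟩ := SetLike.not_le_iff_exists.1 hM.uniq.not_le
  obtain ⟨u, hu, w, hw, rfl⟩ := hM.sum x hx h2 v hv
  have hw' : x * w * x⁻¹ ∈ VV L := mem_normalizer_conj (PU.le_norm_vv L hx) hw.1
  obtain ⟨s, hs, h3⟩ := hM.tr _ hw' (fun e => h1 ⟨hv, mul_mem hu.2 e⟩) u hu.1 hu.2
  have h4 : u⁻¹ * ⁅s, x * w * x⁻¹⁆ ∈ VV L :=
    mul_mem (inv_mem hu.1) (comm_mem_of_norm (PU.le_norm_vv L (h.le hs)) hw')
  refine ⟨s * x, L.mul_mem (h.le hs) hx,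
    fun e => h2 ((mul_mem_cancel_left (hM.uniq.le hs)).1 e), mem_cj.2 ?_⟩
  have e : (s * x)⁻¹ * (u * (x * w * x⁻¹)) * (s * x) = (u⁻¹ * ⁅s, x * w * x⁻¹⁆)⁻¹ * w := by
    have e1 := h3 _ (L.mul_mem (L.inv_mem (L.mul_mem (h.le hs) hx)) (PU.vv_le_self L hu.1))
    set c := u⁻¹ * ⁅s, x * w * x⁻¹⁆ with hc
    calc (s * x)⁻¹ * (u * (x * w * x⁻¹)) * (s * x)
        = c⁻¹ * (c * ((s * x)⁻¹ * u)) * (x * w * x⁻¹) * (s * x) := by group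
      _ = c⁻¹ * ((s * x)⁻¹ * u * c) * (x * w * x⁻¹) * (s * x) := by rw [e1]
      _ = c⁻¹ * w := by rw [hc, commutatorElement_def]; group
  rw [e]
  exact mul_mem (inv_mem ⟨h4, TJ.centralizer_anti h.le h3⟩) hw

theorem Ln.cover (h : Ln B L) (hv : v ∈ VV L) : ∃ g ∈ L, v ∈ Trans.cj g (OZ B) := by
  obtain ⟨M, hM⟩ := h.vx.r1 h.syl
  rcases h.cover' hM hv with h1 | ⟨g, hg, -, h1⟩
  · exact ⟨1, L.one_mem, by rwa [cj_one]⟩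
  · exact ⟨g, hg, h1⟩

set_option linter.unusedVariables false in
theorem Ln.exists_opp (h : Ln B L) (hH : H ≤ L) (e : L ≤ H ⊔ B) : ∃ g ∈ H, g ∉ Ns B := by
  by_contra hc
  push Not at hc
  obtain ⟨M, hM⟩ := h.vx.r1 h.syl
  obtain ⟨x, hx, h1⟩ := SetLike.not_le_iff_exists.1 hM.uniq.not_le
  obtain ⟨s, hs, h2⟩ := hM.exists_not_mem_Q
  exact h2 (hM.ti x hx h1 s hs (hM.uniq.le
    (mem_normalizer_conj ((e.trans (sup_le hc le_normalizer)) hx) hs)))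

theorem mem_OZ_of_dd (hd : d ∈ B) (hD : DD d) (h : B ≤ C1 d) : d ∈ OZ B :=
  let ⟨_, hS⟩ := hD
  mem_OZ.2 ⟨hd, fun _ hb => mem_C1.1 (h hb), hS.sq⟩

theorem Ln.key (h : Ln B L) (hM : PU.R1 2 L B M) (hz : ZD B) (hg : g ∈ L) (hgM : g ∈ M) :
    g ∈ Ns B := by
  obtain ⟨d, hd, hD, h1⟩ := hz
  have h2 := mem_OZ_of_dd hd hD h1
  obtain ⟨S, hS⟩ := hD
  have h3 : ∀ B', Ln B' L → g * d * g⁻¹ ∈ OZ B' → Trans.cj g B = B' := by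
    intro B' hB' h4
    have h5 : B' ≤ Trans.cj g S :=
      (hS.cj g).le_of hB'.pg fun b hb => mem_C1.2 ((mem_OZ.1 h4).2.1 b hb)
    rw [← hB'.syl.eq_inf (hS.cj g).pg h5,
      (h.cj_mem hg).syl.eq_inf (hS.cj g).pg (cj_mono g (hS.le_of h.pg h1))]
  have hV : g * d * g⁻¹ ∈ VV L :=
    mem_normalizer_conj (PU.le_norm_vv L hg) (by rw [h.OZ_eq] at h2; exact h2.1)
  rcases h.cover' hM hV with h4 | ⟨x, hx, hxM, h4⟩
  · exact mem_Ns_iff.2 (h3 B h h4)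
  · rw [← OZ_cj] at h4
    obtain ⟨s, hs, h5⟩ := hM.exists_not_mem_Q
    refine absurd (hM.ti x hx hxM s hs (cj_le_of_mem_of_le hgM hM.uniq.le ?_)) h5
    rw [h3 _ (h.cj_mem hx) h4]
    exact conj_mem_cj.2 hs

theorem Ln.ti' (h : Ln B L) (hM : PU.R1 2 L B M) (hz : ZD B) (hg : g ∈ L) (hn : g ∉ Ns B)
    (hs : s ∈ Trans.cj g B) (h1 : s ∈ M) : s ∈ QQ L := by
  have := hM.ti g hg (fun e => hn (h.key hM hz hg e)) _ (mem_cj.1 hs)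
    (by simpa [mul_assoc] using h1)
  simpa [mul_assoc] using mem_normalizer_conj (self_le_normalizer_pCoreOf L hg) this

theorem Ln.opp (h : Ln B L) (hz : ZD B) (hg : g ∈ L) (hn : g ∉ Ns B) : B ⊔ Trans.cj g B = L := by
  obtain ⟨M, hM⟩ := h.vx.r1 h.syl
  exact hM.sup_cj hg fun e => hn (h.key hM hz hg e)

theorem Ln.ti (h : Ln B L) (hz : ZD B) (hg : g ∈ L) (hn : g ∉ Ns B) : B ⊓ Trans.cj g B ≤ QQ L := by
  obtain ⟨M, hM⟩ := h.vx.r1 h.syl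
  exact fun s hs => h.ti' hM hz hg hn hs.2 (hM.uniq.le hs.1)

theorem Ln.not_ns (h : Ln B L) (hz : ZD B) (hg : g ∈ L) (hn : g ∉ Ns B) (hs : s ∈ Trans.cj g B)
    (h1 : s ∉ QQ L) : s ∉ Ns B := by
  obtain ⟨M, hM⟩ := h.vx.r1 h.syl
  exact fun h2 => h1 (h.ti' hM hz hg hn hs
    ((hM.uniq.le_or_le le_normalizer).resolve_left (fun e => hn (e hg))
      ⟨(h.cj_mem hg).le hs, h2⟩))

theorem Ln.gen (h : Ln B L) (hz : ZD B) (hg : g ∈ L) (hn : g ∉ Ns B) (hs : s ∈ Trans.cj g B)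
    (h1 : s ∉ QQ L) (hK : B ≤ K) (h2 : s ∈ K) : L ≤ K := by
  exact h.vx.gen h.syl (h.cj_mem hg).syl (h.opp hz hg hn) hs h1 hK h2

theorem Ln.le_ncl (h : Ln B L) (hA : A ≤ B) (h1 : ¬ A ≤ QQ L) : L ≤ ncl A L ⊔ B := by
  obtain ⟨a, ha, h2⟩ := SetLike.not_le_iff_exists.1 h1
  obtain ⟨B', hB', e⟩ := h.vx.opp h.syl
  obtain ⟨g, hg, rfl⟩ := hB'.exists_cj_eq h.syl
  refine h.vx.gen h.syl hB' ((sup_comm _ _).trans e) (conj_mem_cj.2 (hA ha)) (fun h3 => h2 ?_)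
    le_sup_right (mem_sup_left (cj_le_ncl hg (conj_mem_cj.2 ha)))
  exact (mem_normalizer_iff.1 (self_le_normalizer_pCoreOf L hg) a).2 h3

theorem Ln.Z_inf (h : Ln B L) (hz : ZD B) (hg : g ∈ L) (hn : g ∉ Ns B) :
    OZ B ⊓ Trans.cj g (OZ B) ≤ Cs L := by
  intro v hv
  have h1 := hv.2
  rw [← OZ_cj] at h1
  rw [← h.opp hz hg hn]
  exact mem_cent_sup.2 ⟨(mem_OZ.1 hv.1).2.1, (mem_OZ.1 h1).2.1⟩

theorem Ln.mem_ns (h : Ln B L) (hz : ZD B) (hg : g ∈ L) (hv : v ∈ OZ B) (h1 : v ∉ Cs L)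
    (h2 : g * v * g⁻¹ ∈ OZ B) : g ∈ Ns B := by
  by_contra hn
  have h3 := h.Z_inf hz hg hn ⟨h2, conj_mem_cj.2 hv⟩
  have e : g * v * g⁻¹ = v := by
    have := h3 g hg
    calc g * v * g⁻¹ = g⁻¹ * (g * (g * v * g⁻¹)) := by group
      _ = v := by rw [this]; group
  exact h1 (e ▸ h3)

theorem Ln.sum (h : Ln B L) (hz : ZD B) (hg : g ∈ L) (hn : g ∉ Ns B) (hv : v ∈ VV L) :
    ∃ u ∈ OZ B, ∃ w ∈ Trans.cj g (OZ B), v = u * w := by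
  obtain ⟨M, hM⟩ := h.vx.r1 h.syl
  obtain ⟨u, hu, w, hw, e⟩ := hM.sum g hg (fun e => hn (h.key hM hz hg e)) v hv
  rw [h.OZ_eq]
  exact ⟨u, hu, _, conj_mem_cj.2 hw, e⟩

theorem Ln.notJ (h : Ln B L) (hp : Pt B) : ¬ JJ B ≤ QQ L := by
  intro h1
  obtain ⟨g, hg, hn⟩ := h.exists_opp le_rfl le_sup_left
  obtain ⟨d, hd, hD, h2⟩ := hp.zd
  have h3 : g ∈ Ns (OZ B) := by
    rw [← hp.OZ_J, ← show JJ (QQ L) = JJ B from J_eq_of_le h1 h.Q_le]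
    exact ns_le_OZ (ns_le_JJ (self_le_normalizer_pCoreOf L hg))
  have h4 := mem_OZ_of_dd hd hD h2
  exact h.noD hD (h.Z_inf hp.zd hg hn ⟨h4, by rwa [mem_Ns_iff.1 h3]⟩)

theorem Ln.la (h : Ln B L) (hA : Mx B A) (h1 : ¬ A ≤ QQ L) :
    A ⊔ QQ L = B ∧ Mx B (A ⊓ QQ L ⊔ VV L) ∧ (QQ L).relIndex A = (QQ L).relIndex B := by
  have hea : IsElementaryAbelian 2 (A ⊓ QQ L ⊔ VV L : Subgroup G) :=
    ea_sup (ea_mono hA.ea inf_le_left) (PU.vv_ea L) (inf_le_right.trans (PU.Q_le_cent L))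
  have hle : A ⊓ QQ L ⊔ VV L ≤ B := sup_le (inf_le_left.trans hA.le) h.V_le
  have hn : A ≤ Ns (QQ L) := (hA.le.trans h.le).trans (self_le_normalizer_pCoreOf L)
  have e1 := Local.CD.card_sup_mul_card_inf_of_le_normalizer (H := A ⊓ QQ L) (K := VV L)
    ((inf_le_right.trans (pCoreOf_le L)).trans (PU.le_norm_vv L))
  have e2 : A ⊓ QQ L ⊓ VV L = VV L ⊓ Cs A := le_antisymm
    (fun x hx => ⟨hx.2, mx_cs hA hx.1.1⟩)
    fun x hx => ⟨⟨mx_mem hA (h.V_le hx.1) hx.2 (VV_sq hx.1), PU.vv_le L hx.1⟩, hx.1⟩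
  have e3 := card_mul_relIndex (inf_le_left : VV L ⊓ Cs A ≤ VV L)
  rw [inf_relIndex_left, h.vx.relIndex_eq h.syl hA.le h1] at e3
  have e4 := card_mul_relIndex (inf_le_left : A ⊓ QQ L ≤ A)
  rw [inf_relIndex_left] at e4
  rw [e2, ← e3, mul_comm (Nat.card (VV L ⊓ Cs A : Subgroup G)) ((QQ L).relIndex B), ← mul_assoc]
    at e1
  have e5 := Nat.eq_of_mul_eq_mul_right Nat.card_pos e1
  have e6 := hA.card_le hle hea
  rw [e5, ← e4] at e6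
  have e7 : (QQ L).relIndex A = (QQ L).relIndex B :=
    le_antisymm (relIndex_le_of_le_right hA.le FiniteIndex.index_ne_zero)
      (Nat.le_of_mul_le_mul_left e6 Nat.card_pos)
  exact ⟨PU.sup_eq_of_relIndex hA.le h.Q_le hn e7.ge,
    hA.of_card_le hle hea (by rw [e5, ← e4, e7]), e7⟩

theorem Ln.exists_mx_Q (h : Ln B L) : ∃ A, Mx B A ∧ A ≤ QQ L := by
  obtain ⟨A, hA⟩ := exists_maxEA 2 B
  by_cases h1 : A ≤ QQ L
  · exact ⟨A, hA, h1⟩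
  · exact ⟨_, (h.la hA h1).2.1, sup_le inf_le_right (PU.vv_le L)⟩

theorem Ln.mx_Q (h : Ln B L) : Mx (QQ L) A ↔ Mx B A ∧ A ≤ QQ L := by
  obtain ⟨A₀, h1, h2⟩ := h.exists_mx_Q
  exact mx_up h1 h2 h.Q_le

theorem Ln.V_le_mx (h : Ln B L) (hA : Mx B A) (h1 : A ≤ QQ L) : VV L ≤ A := by
  exact hA.le_of_le_centralizer h.V_le (PU.vv_ea L)
    ((PU.vv_le_cent L).trans (TJ.centralizer_anti h1))

theorem Ln.V_le_J (h : Ln B L) : VV L ≤ JJ B := by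
  obtain ⟨A₀, h1, h2⟩ := h.exists_mx_Q
  exact (h.V_le_mx h1 h2).trans h1.le_J

end Cfsg.Lib.Bau
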