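import Cfsg.Agent.Bau.Line

set_option autoImplicit false
set_option linter.unusedSectionVars false

open scoped commutatorElement

namespace Cfsg.Lib.Bau

open Cfsg Subgroup Cfsg.Lib.Trans Cfsg.Lib.Trans.TJ Cfsg.Lib.Gold Cfsg.Lib.Gomi
open Cfsg.Lib.Trans.MP (comm_le_iff comm_mem_comm comm_mul_left cj_comm_V comm_eq_one_of_mem)
open Cfsg.Lib.Local.MSS (self_le_normalizer_pCoreOf pCoreOf_le le_pCoreOf)

universe u

variable {G : Type u} [Group G] [Finite G]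
  {A A' B C E H J J' K L L' L₁ L₂ M P S S' T V V' W W' X α δ : Subgroup G}
  {a b c d e g k n r r' s t t' u u' v w x x' y y' z z' : G}

namespace Line2

theorem comm_sup_le (h : K ≤ V) (h1 : ⁅V, A⁆ ≤ K) (h2 : ⁅V, B⁆ ≤ K) : ⁅V, A ⊔ B⁆ ≤ K := by
  have n : ∀ {A}, ⁅V, A⁆ ≤ K → A ≤ Ns K := fun e =>
    le_normalizer_iff_commutator_le_left.2 ((commutator_mono h le_rfl).trans e)
  have n1 := n h1
  have n2 := n h2
  rw [Subgroup.commutator_comm V] at h1 h2 ⊢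
  exact Solv.commutator_sup_left_le_of_le_normalizer n1 n2 h1 h2

theorem cs_iff : v ∈ Cs X ↔ X ≤ C1 v :=
  ⟨fun h x hx => mem_C1.2 (h x hx), fun h _ hx => mem_C1.1 (h hx)⟩

theorem ZV (h : Ln B L) (hz : z ∈ OZ B) : z ∈ VV L := (h.OZ_eq.le hz).1

theorem ZC (h : Ln B L) (hz : z ∈ OZ B) : z ∈ Cs B := (h.OZ_eq.le hz).2

theorem nV (hg : g ∈ L) (hv : v ∈ VV L) : g * v * g⁻¹ ∈ VV L :=
  mem_normalizer_conj (PU.le_norm_vv L hg) hv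

theorem RV (h : A ≤ L) : ⁅VV L, A⁆ ≤ VV L := comm_le_iff.2 fun _ ha _ hv =>
  mul_mem (nV (h ha) hv) (inv_mem hv)

theorem tr (h : Ln B L) (hv : v ∈ VV L) (h1 : v ∉ Cs B) (hu : u ∈ OZ B) :
    ∃ s ∈ B, u⁻¹ * ⁅s, v⁆ ∈ Cs L := by
  obtain ⟨M, hM⟩ := h.vx.r1 h.syl
  exact hM.tr v hv h1 u (ZV h hu) (ZC h hu)

theorem mv (h : Ln B L) (hv : v ∈ VV L) (h1 : v ∉ Cs B) (hu : u ∈ OZ B) :
    ∃ s ∈ B, ∃ c ∈ VV L ⊓ Cs L, s * v * s⁻¹ = u * v * c := by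
  obtain ⟨s, hs, e⟩ := tr h hv h1 hu
  refine ⟨s, hs, _, ⟨(VV L).mul_mem (inv_mem (ZV h hu)) (RV h.le (comm_mem_comm hs hv)), e⟩, ?_⟩
  rw [mul_assoc u, e v (PU.vv_le_self L hv), commutatorElement_def]; group

theorem notC (h : Ln B L) (hz : ZD B) (hg : g ∈ L) (hn : g ∉ Ns B) (hd : d ∈ OZ B)
    (h1 : d ∉ Cs L) : d ∉ Cs (Trans.cj g B) := fun e =>
  h1 (h.Z_inf hz hg hn ⟨hd, OZ_cj g B ▸ (h.cj_mem hg).OZ_eq.ge ⟨ZV h hd, e⟩⟩)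

theorem cjQ (hg : g ∈ L) : Trans.cj g (QQ L) = QQ L :=
  mem_Ns_iff.1 (self_le_normalizer_pCoreOf L hg)

end Line2

open Line2

theorem Ln.R_inf (h : Ln B L) (hg : g ∈ L) :
    Trans.cj g ⁅VV L, B⁆ ⊓ Cs L ≤ ⁅VV L, B⁆ := fun _ hx =>
  PU.Vx.inf_le (h.syl.cj_of_mem hg) h.syl (cj_comm_V (PU.le_norm_vv L hg) ▸ hx.1) hx.2

theorem Ln.U_eq (h : Ln B L) (hz : ZD B) (hg : g ∈ L) (hn : g ∉ Ns B) :
    ⁅VV L, L⁆ = ⁅VV L, B⁆ ⊔ Trans.cj g ⁅VV L, B⁆ := by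
  rw [cj_comm_V (PU.le_norm_vv L hg)]
  refine le_antisymm ?_ (sup_le (commutator_mono le_rfl h.le)
    (commutator_mono le_rfl (h.cj_mem hg).le))
  exact (commutator_mono le_rfl (h.opp hz hg hn).ge).trans
    (comm_sup_le (sup_le (RV h.le) (RV (h.cj_mem hg).le)) le_sup_left le_sup_right)

theorem Ln.U_inf (h : Ln B L) (hz : ZD B) : ⁅VV L, L⁆ ⊓ OZ B ≤ ⁅VV L, B⁆ := by
  obtain ⟨g, hg, hn⟩ := h.exists_opp le_rfl le_sup_left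
  rintro u ⟨h1, h2⟩
  have n : Trans.cj g ⁅VV L, B⁆ ≤ Ns ⁅VV L, B⁆ := by
    rw [cj_comm_V (PU.le_norm_vv L hg)]
    exact ((RV (h.cj_mem hg).le).trans ((PU.vv_ab L).trans (TJ.centralizer_anti (RV h.le)))).trans
      (centralizer_le_normalizer _)
  obtain ⟨a, ha, b, hb, rfl⟩ := (Solv.mem_sup_of_le_normalizer n).1 ((h.U_eq hz hg hn).le h1)
  exact mul_mem ha (h.R_inf hg ⟨hb, h.Z_inf hz hg hn
    ⟨(mul_mem_cancel_left (h.comm_le ha)).1 h2, cj_mono g h.comm_le hb⟩⟩)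

theorem Ln.Z_le (h : Ln B L) : OZ B ≤ ⁅VV L, B⁆ ⊔ VV L ⊓ Cs L := fun z hz => by
  obtain ⟨M, hM⟩ := h.vx.r1 h.syl
  obtain ⟨v, hv, h1⟩ := hM.nc
  obtain ⟨s, hs, e⟩ := Line2.tr h hv h1 hz
  have m := comm_mem_comm hs hv
  rw [show z = ⁅s, v⁆ * (z⁻¹ * ⁅s, v⁆)⁻¹ by group]
  exact mul_mem (mem_sup_left m) (inv_mem (mem_sup_right (S := ⁅VV L, B⁆)
    (show _ ∈ VV L ⊓ Cs L from ⟨(VV L).mul_mem (inv_mem (ZV h hz)) (RV h.le m), e⟩)))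

theorem Ln.V_le_sup (h : Ln B L) (hz : ZD B) : VV L ≤ ⁅VV L, L⁆ ⊔ VV L ⊓ Cs L := fun v hv => by
  obtain ⟨g, hg, hn⟩ := h.exists_opp le_rfl le_sup_left
  obtain ⟨u, hu, w, hw, rfl⟩ := h.sum hz hg hn hv
  have k : ∀ {B}, Ln B L → OZ B ≤ ⁅VV L, L⁆ ⊔ VV L ⊓ Cs L := fun h =>
    h.Z_le.trans (sup_le_sup_right (commutator_mono le_rfl h.le) _)
  exact mul_mem (k h hu) (k (h.cj_mem hg) (OZ_cj g B ▸ hw))

theorem Ln.tr (h : Ln B L) (hz : ZD B) (h0 : e ∈ OZ B) (h0' : e ∉ Cs L) (h1 : z ∈ OZ B)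
    (h1' : z ∉ Cs L) : ∃ l ∈ L, l * e * l⁻¹ ∈ OZ B ∧ z * (l * e * l⁻¹) ∈ Cs L ∧
      e⁻¹ * (l * e * l⁻¹) ∈ ⁅VV L, B⁆ := by
  obtain ⟨g, hg, hn⟩ := h.exists_opp le_rfl le_sup_left
  have h' := h.cj_mem hg
  obtain ⟨w, hw, nw⟩ := SetLike.not_le_iff_exists.1 h'.R_not
  have hw := h'.comm_le hw
  obtain ⟨s₁, m₁, c₁, k₁, e₁⟩ := mv h' (ZV h h0) (notC h hz hg hn h0 h0') hw
  obtain ⟨s₂, m₂, c₂, k₂, e₂⟩ := mv h' (ZV h h1) (notC h hz hg hn h1 h1') hw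
  obtain ⟨s, m, c, k, e₃⟩ := mv h (ZV h' hw) (fun e => nw (h.Z_inf hz hg hn
    ⟨h.OZ_eq.ge ⟨ZV h' hw, e⟩, OZ_cj g B ▸ hw⟩)) (mul_mem h1 (inv_mem h0))
  have hl := mul_mem (mul_mem (inv_mem (h'.le m₂)) (h.le m)) (h'.le m₁)
  have kc := mul_mem (mul_mem (inv_mem k₂) k) k₁
  have ab : ∀ {a b}, a ∈ VV L → b ∈ VV L → a * b = b * a := fun ha hb => PU.vv_ab L hb _ ha
  have e4 : s₂⁻¹ * s * s₁ * e * (s₂⁻¹ * s * s₁)⁻¹ = z * (c₂⁻¹ * c * c₁) := by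
    calc _ = s₂⁻¹ * (s * (s₁ * e * s₁⁻¹) * s⁻¹) * s₂ := by group
      _ = s₂⁻¹ * (s * w * s⁻¹ * (s * e * s⁻¹) * (s * c₁ * s⁻¹)) * s₂ := by rw [e₁]; group
      _ = s₂⁻¹ * (z * (e⁻¹ * w) * (c * e) * c₁) * s₂ := by
        rw [e₃, ZC h h0 s m, k₁.2 s (h.le m)]; group
      _ = s₂⁻¹ * (z * w * c₂ * (c₂⁻¹ * c * c₁)) * s₂ := by
        rw [ab (inv_mem (ZV h h0)) (ZV h' hw), ab k.1 (ZV h h0)]; group
      _ = _ := by
        rw [ab (ZV h h1) (ZV h' hw), ← e₂, mul_assoc s₂⁻¹, mul_assoc _ _ s₂, ← kc.2 s₂ (h'.le m₂)]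
        group
  have m4 := e4 ▸ mul_mem h1 (h.C_le kc)
  refine ⟨_, hl, m4, ?_, h.U_inf hz ⟨?_, (OZ B).mul_mem (inv_mem h0) m4⟩⟩
  · rw [e4, ← mul_assoc, VV_sq (ZV h h1), one_mul]; exact kc.2
  · simpa [commutatorElement_def, mul_assoc] using
      commutator_mem_commutator (inv_mem (ZV h h0)) hl

theorem Ln.U_le (h : Ln B L) (hz : ZD B) (hg : g ∈ L) (hn : g ∉ Ns B) (hd : d ∈ OZ B)
    (hd' : d ∉ Cs L) (hA : A ⊔ QQ L = B) (h1 : ⁅VV L, B⁆ ≤ K)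
    (h2 : ∀ s ∈ Trans.cj g A, ⁅s, d⁆ ∈ K) : ⁅VV L, L⁆ ≤ K := by
  refine (h.U_eq hz hg hn).trans_le (sup_le h1 fun r hr => ?_)
  have h' := h.cj_mem hg
  have e := cj_comm_V (A := B) (PU.le_norm_vv (p := 2) L hg)
  obtain ⟨s, hs, k⟩ := Line2.tr h' (ZV h hd) (notC h hz hg hn hd hd') (h'.comm_le (e ▸ hr))
  have k := h1 (h.R_inf hg ⟨Subgroup.mul_mem _ (inv_mem hr) (e.ge (comm_mem_comm hs (ZV h hd))), k⟩)
  rw [← hA, cj_sup, cjQ hg] at hs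
  obtain ⟨a, ha, t, ht, rfl⟩ := PU.exists_mul_Q ((cj_mono g (le_sup_left.trans hA.le)).trans h'.le) hs
  rw [comm_mul_left, comm_eq_one_of_mem ht (PU.vv_le_cent L (ZV h hd)), mul_one, mul_inv_cancel,
    one_mul] at k
  exact inv_mem_iff.1 ((mul_mem_cancel_right (h2 a ha)).1 k)

theorem Ln.sup_Q (h : Ln B L) (hz : ZD B) (hg : g ∈ L) (hn : g ∉ Ns B) (hA : A ⊔ QQ L = B) :
    A ⊔ Trans.cj g A ⊔ QQ L = L := by
  rw [sup_sup_distrib_right, hA]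
  conv_lhs => rw [← cjQ hg, ← cj_sup, hA]
  exact h.opp hz hg hn

theorem Ln.noD2 (h : Ln B L) (hz : ZD B) (hg : g ∈ L) (hn : g ∉ Ns B) (hA : A ⊔ QQ L = B)
    (hd : DD d) : d ∉ Cs (A ⊔ Trans.cj g A) := fun e => by
  obtain ⟨S, hS⟩ := hd
  have pA : IsPGroup 2 A := h.pg.to_le (le_sup_left.trans hA.le)
  have e := cs_iff.1 e
  have e1 := h.sup_Q hz hg hn hA
  have p : IsPGroup 2 L := e1 ▸ (hS.pg.to_le (sup_le (hS.le_of pA (le_sup_left.trans e))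
    (hS.le_of (isPGroup_cj pA g) (le_sup_right.trans e)))).to_sup_of_normal_right'
      (Local.isPGroup_pCoreOf L) ((le_sup_left.trans e1.le).trans (self_le_normalizer_pCoreOf L))
  exact hn (le_normalizer ((h.syl.eq_of_le p h.le le_rfl).le hg))

theorem Ln.phi (h : Ln B L) (hz : ZD B) (hX : ∀ d, DD d → d ∉ Cs X) (h1 : VV L ⊓ Cs L ≤ Cs X)
    (he : DD e) (he' : e ∈ OZ B) (hs : ⁅VV L, B⁆ ≤ C1 s) (h2 : ∃ z ∈ OZ B, ⁅s, e⁆ * z ∈ Cs X) :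
    ⁅s, e⁆ ∈ Cs X := by
  obtain ⟨z, h3, h4⟩ := h2
  refine (mul_mem_cancel_right (by_contra fun n => ?_)).1 h4
  obtain ⟨l, -, k1, k2, k3⟩ := h.tr hz he' (h.noD he) h3 fun e => n (h1 ⟨ZV h h3, e⟩)
  obtain ⟨d, hd, e⟩ := Bau.phi (he.cj l) (h1 ⟨mul_mem (ZV h h3) (ZV h k1), k2⟩) (hs k3)
    (by rwa [inv_eq_of_mul_eq_one_right (VV_sq (ZV h h3))])
  exact hX d hd e

theorem Ln.restrict (h : Ln B L) (hk : L ⊓ Cs (VV L) ≤ QQ L) (h1 : L' ≤ L) (h2 : L' ⊔ QQ L = L)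
    (h3 : VV L ≤ L') (h4 : OZ (QQ L ⊓ L') ≤ VV L) :
    Ln (B ⊓ L') L' ∧ VV L' = VV L ∧ QQ L' = QQ L ⊓ L' := by
  have pQ : IsPGroup 2 (QQ L) := Local.isPGroup_pCoreOf L
  have nQ : L ≤ Ns (QQ L) := self_le_normalizer_pCoreOf L
  have QL : QQ L ≤ L := pCoreOf_le L
  have eQ : QQ L' = QQ L ⊓ L' := le_antisymm (le_inf (le_sup_left.trans (le_pCoreOf
      (sup_le ((pCoreOf_le L').trans h1) QL) (h2.ge.trans (sup_le ((le_inf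
        (self_le_normalizer_pCoreOf L') (h1.trans nQ)).trans
          (normalizer_inf_normalizer_le_normalizer_sup _ _)) (le_sup_right.trans le_normalizer)))
      ((Local.isPGroup_pCoreOf L').to_sup_of_normal_right' pQ (((pCoreOf_le L').trans h1).trans nQ))))
    (pCoreOf_le L')) (le_pCoreOf inf_le_right ((le_inf (h1.trans nQ) le_normalizer).trans
      (inf_normalizer_le_normalizer_inf)) pQ.to_inf_left)
  have eV : VV L' = VV L := by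
    ext x
    rw [PU.mem_vv, show pCoreOf 2 L' = _ from eQ]
    exact ⟨fun e => h4 (mem_OZ.2 ⟨e.1, e.2.1, sq x ▸ e.2.2⟩), fun e => ⟨⟨PU.vv_le L e, h3 e⟩,
      TJ.centralizer_anti inf_le_left (PU.vv_le_cent L e), PU.vv_pow e⟩⟩
  have dB : ∀ s ∈ B, ∃ a ∈ B ⊓ L', ∃ t ∈ QQ L, a * t = s := fun s hs => by
    obtain ⟨a, ha, t, ht, rfl⟩ := PU.exists_mul_Q h1 (h2.ge (h.le hs))
    exact ⟨a, ⟨(mul_mem_cancel_right (h.Q_le ht)).1 hs, ha⟩, t, ht, rfl⟩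
  have eB : B ⊓ L' ⊔ QQ L = B := le_antisymm (sup_le inf_le_left h.Q_le) fun s hs => by
    obtain ⟨a, ha, t, ht, rfl⟩ := dB s hs
    exact mul_mem (mem_sup_left ha) (mem_sup_right ht)
  have cs : ∀ {X Y}, X ⊔ QQ L = Y → VV L ⊓ Cs X = VV L ⊓ Cs Y := fun e => le_antisymm
    (fun v hv => ⟨hv.1, e ▸ cs_iff.2 (sup_le (cs_iff.1 hv.2) (cs_iff.1 (PU.vv_le_cent L hv.1)))⟩)
    (inf_le_inf_left _ (TJ.centralizer_anti (le_sup_left.trans e.le)))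
  have cB : ∀ {v}, v ∈ VV L → (v ∈ Cs (B ⊓ L') ↔ v ∈ Cs B) := fun hv =>
    ⟨fun e => ((cs eB).le ⟨hv, e⟩).2, fun e => TJ.centralizer_anti inf_le_left e⟩
  have cL : ∀ {v}, v ∈ VV L → (v ∈ Cs L' ↔ v ∈ Cs L) := fun hv =>
    ⟨fun e => ((cs h2).le ⟨hv, e⟩).2, fun e => TJ.centralizer_anti h1 e⟩
  have syl : IsSylowIn 2 (B ⊓ L') L' := isSylowIn_of_maximal inf_le_right h.pg.to_inf_left
    fun P hP k1 k2 => le_inf (le_sup_left.trans (h.syl.eq_of_le (hP.to_sup_of_normal_right' pQ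
      ((k2.trans h1).trans nQ)) (eB.ge.trans (sup_le_sup_right k1 _))
        (sup_le (k2.trans h1) QL)).le) k2
  have ix : (QQ L ⊓ L').relIndex (B ⊓ L') = (QQ L).relIndex B := by
    rw [← inf_relIndex_right, inf_assoc, inf_of_le_right (inf_le_right : B ⊓ L' ≤ L'),
      inf_relIndex_right]
    have a1 := Local.CD.card_sup_mul_card_inf_of_le_normalizer
      ((inf_le_right.trans h1).trans nQ : B ⊓ L' ≤ _)
    have a2 := card_mul_relIndex (inf_le_left : B ⊓ L' ⊓ QQ L ≤ B ⊓ L')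
    rw [eB, ← card_mul_relIndex h.Q_le, ← a2, inf_relIndex_left] at a1
    refine Nat.eq_of_mul_eq_mul_left (Nat.mul_pos (Nat.card_pos (α := QQ L))
      (Nat.card_pos (α := ↥(B ⊓ L' ⊓ QQ L)))) ?_
    linarith
  obtain ⟨M, hM⟩ := h.vx.r1 h.syl
  refine ⟨⟨⟨_, M ⊓ L', syl, ?_, ⟨inf_le_inf_right _ hM.uniq.1, inf_le_right.lt_of_ne fun e =>
    hM.uniq.2.1.not_ge (h2.ge.trans (sup_le (e.ge.trans inf_le_left) (h.Q_le.trans hM.uniq.1))),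
    fun X k1 k2 => le_inf (le_sup_left.trans (hM.uniq.2.2 (X ⊔ QQ L)
      (eB.ge.trans (sup_le_sup_right k1 _)) ((sup_le (k2.le.trans h1) QL).lt_of_ne fun e =>
        k2.not_ge fun l hl => ?_))) k2.le⟩, ?_, ?_, ?_, ?_, ?_, ?_, ?_, ?_⟩, syl⟩, eV, eQ⟩
  rotate_left
  · obtain ⟨a, ha, t, ht, rfl⟩ := PU.exists_mul_Q (k2.le.trans h1) (e.ge (h1 hl))
    exact mul_mem ha (k1 ⟨h.Q_le ht, (mul_mem_cancel_left (k2.le ha)).1 hl⟩)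
  all_goals simp only [show pCoreOf 2 L' = _ from eQ, show PU.vv 2 L' = _ from eV]
  · exact fun x hx n s hs e => ⟨hM.ti x (h1 hx) (fun e => n ⟨e, hx⟩) s hs.1 e.1, hs.2⟩
  · obtain ⟨v, hv, n⟩ := hM.nc
    exact ⟨v, hv, fun e => n ((cB hv).1 e)⟩
  · exact fun s hs v hv => TJ.centralizer_anti inf_le_left (hM.quad s hs.1 v hv)
  · exact fun s hs n v hv e => (cB hv).2 (hM.reg s hs.1 (fun e => n ⟨e, hs.2⟩) v hv
      ((cL (RV h.le (comm_mem_comm hs.1 hv))).1 e))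
  · intro v hv n u hu e
    obtain ⟨s, hs, k⟩ := hM.tr v hv (fun e => n ((cB hv).2 e)) u hu ((cB hu).1 e)
    obtain ⟨a, ha, t, ht, rfl⟩ := dB s hs
    rw [comm_mul_left, comm_eq_one_of_mem ht (PU.vv_le_cent L hv), mul_one, mul_inv_cancel,
      one_mul] at k
    exact ⟨a, ha, TJ.centralizer_anti h1 k⟩
  · rw [cs eB]; exact fun x hx n => hM.sum x (h1 hx) fun e => n ⟨e, hx⟩
  · rw [cs eB, ix]; exact hM.idx
  · rw [cs eB, cs h2, ix]; exact hM.idx'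
  · exact fun g hg e => ⟨hk ⟨h1 hg, TJ.centralizer_anti (le_inf (PU.vv_le L) h3) e⟩, hg⟩

end Cfsg.Lib.Bau
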