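import Cfsg.Agent.Bau.Am3
import Cfsg.Agent.Bau.Ap

set_option autoImplicit false
set_option linter.unusedSectionVars false

open scoped commutatorElement

namespace Cfsg.Lib.Bau

open Cfsg Subgroup Cfsg.Lib.Trans Cfsg.Lib.Trans.TJ Cfsg.Lib.Gold Cfsg.Lib.Gomi

universe u

variable {G : Type u} [Group G] [Finite G]
  {A A' B C E H J J' K L L' L₁ L₂ M P S S' T V V' W W' X α δ : Subgroup G}
  {a b c d e g k n r r' s t t' u u' v w x x' y y' z z' : G}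

open Cfsg.Lib.Local.MSS (self_le_normalizer_pCoreOf isPGroup_pCoreOf pCoreOf_le le_pCoreOf
  isPGroup_of_resOf_le resOf_le_centralizer_of_iterCommutator)

namespace Lk1

theorem sup1 (h1 : Ln B L₁) (h2 : Ln B L₂) (hl : ¬ VV L₁ ≤ QQ L₂) : VV L₁ ⊔ QQ L₂ = B :=
  haveI : Fact (Nat.Prime 2) := ⟨Nat.prime_two⟩
  h1.vx.crit h2.vx h1.syl h2.syl h1.V_le h2.V_le hl

theorem sym (h1 : Ln B L₁) (h2 : Ln B L₂) (hl : ¬ VV L₁ ≤ QQ L₂) : ¬ VV L₂ ≤ QQ L₁ :=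
  haveI : Fact (Nat.Prime 2) := ⟨Nat.prime_two⟩
  h2.vx.not_le_symm h2.syl h1.V_le hl

theorem nV (h : Ln B L) : B ≤ Ns (VV L) := h.le.trans (PU.le_norm_vv _)

theorem ZV (h : Ln B L) : OZ B ≤ VV L := h.OZ_eq.le.trans inf_le_left

theorem dec (h1 : Ln B L₁) (h2 : Ln B L₂) (hl : ¬ VV L₁ ≤ QQ L₂) (hb : b ∈ B) :
    ∃ v ∈ VV L₁, ∃ q ∈ QQ L₂, v * q = b :=
  (Solv.mem_sup_of_le_normalizer (h2.Q_le.trans (nV h1))).1 ((sup1 h1 h2 hl).ge hb)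

theorem memZ (h1 : Ln B L₁) (h2 : Ln B L₂) (hl : ¬ VV L₁ ≤ QQ L₂) (hv : v ∈ VV L₂) (h : v ∈ Cs (VV L₁)) :
    v ∈ OZ B := h2.OZ_eq.ge ⟨hv, sup1 h1 h2 hl ▸ ApX.cs_sup h (PU.vv_le_cent _ hv)⟩

theorem sw (h1 : Ln B L₁) (h2 : Ln B L₂) (hl : ¬ VV L₁ ≤ QQ L₂) (A : Subgroup G) (hA : Mx (JJ B) A)
    (k : VV L₁ ≤ A) : A ≤ VV L₁ ⊔ (A ⊓ Cs (VV L₂)) ∧ Mx (JJ B) (VV L₂ ⊔ (A ⊓ Cs (VV L₂))) := by
  rw [mx_J] at hA ⊢
  have e : A ⊓ Cs (VV L₂) = A ⊓ QQ L₂ := Subgroup.ext fun a => and_congr_right fun ha => (h2.memQ (hA.le ha)).symm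
  rw [e, sup_comm (VV L₂)]
  refine ⟨fun a ha => ?_, (h2.la hA fun c => hl (k.trans c)).2.1⟩
  obtain ⟨v, hv, q, hq, rfl⟩ := dec h1 h2 hl (hA.le ha)
  exact mul_mem_sup hv ⟨(A.mul_mem_cancel_left (k hv)).1 ha, hq⟩

theorem cN (h1 : Ln B L₁) (h2 : Ln B L₂) (hl : ¬ VV L₁ ≤ QQ L₂) : ⁅QQ L₁, ncl (VV L₂) L₁⁆ ≤ VV L₁ := by
  rw [ncl, iSup_subtype']
  refine Local.MSS.commutator_ncl_le (self_le_normalizer_pCoreOf _) (PU.le_norm_vv _) (h2.V_le.trans h1.le)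
    (commutator_le.2 fun y hy w hw => ?_)
  obtain ⟨v, hv, c, hc, rfl⟩ := dec h1 h2 hl (h1.Q_le hy)
  have := mul_mem hv (mem_normalizer_conj (nV h1 (h2.V_le hw)) (inv_mem hv))
  convert this using 1
  rw [commutatorElement_def, mul_assoc v c w, ← mem_Cs.1 (PU.Q_le_cent _ hc) w hw]; group

theorem le_sup (h1 : Ln B L₁) (h2 : Ln B L₂) (hl : ¬ VV L₁ ≤ QQ L₂) : L₁ ≤ ncl (VV L₂) L₁ ⊔ QQ L₁ :=
  (h1.le_ncl h2.V_le (sym h1 h2 hl)).trans (sup_le le_sup_left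
    ((sup1 h2 h1 (sym h1 h2 hl)).ge.trans (sup_le_sup_right le_ncl' _)))

end Lk1

open Lk1

theorem lk1 (h1 : Ln B L₁) (h2 : Ln B L₂) (hp : Pt B) (hl : ¬ VV L₁ ≤ QQ L₂) :
    AP (JJ B) (VV L₁) (VV L₂) ∧ VV L₁ ⊔ QQ L₂ = B ∧ VV L₂ ⊔ QQ L₁ = B := by
  have hl' := sym h1 h2 hl
  refine ⟨⟨h1.pg.to_le JJ_le, JJ_JJ, hp.OZ_J ▸ le_antisymm (fun x hx => memZ h1 h2 hl hx.2 (PU.vv_ab _ hx.1))
    (le_inf (ZV h1) (ZV h2)), h1.V_le_J, h2.V_le_J, JJ_le.trans (nV h1), JJ_le.trans (nV h2), fun A hA => ?_,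
    fun v hv w hw e => ?_, sw h1 h2 hl, sw h2 h1 hl', fun k => hl (k.trans (PU.vv_le _)),
    fun k => hl' (k.trans (PU.vv_le _))⟩, sup1 h1 h2 hl, sup1 h2 h1 hl'⟩
  · rw [mx_J] at hA
    refine (lk0_le h1 h2 hp.zd hl' h1.V_le h2.V_le le_rfl le_rfl ?_ hA.le fun _ => mx_sq hA).imp
      (h1.V_le_mx hA) (h2.V_le_mx hA)
    rw [inf_eq_right.2 h1.Q_le]
    exact self_le_normalizer_pCoreOf _
  · by_cases c : v ∈ QQ L₂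
    · exact Or.inl (ZV h2 (memZ h2 h1 hl' hv (PU.Q_le_cent _ c)))
    · exact Or.inr (ZV h1 (h2.reg (h1.V_le hv) c hw (commutatorElement_eq_one_iff_mul_comm.2 e ▸ one_mem _)))

theorem lk_ker (h1 : Ln B L₁) (h2 : Ln B L₂) (hl : ¬ VV L₁ ≤ QQ L₂) :
    L₁ ⊓ Cs (VV L₁) ≤ QQ L₁ ∧ ∀ l ∈ L₁, (∀ v ∈ VV L₁, ⁅l, v⁆ ∈ Cs L₁) → l ∈ QQ L₁ := by
  have : Fact (Nat.Prime 2) := ⟨Nat.prime_two⟩
  have n : L₁ ≤ Ns (Cs L₁) := le_Ns_Cs le_normalizer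
  let K : Subgroup G :=
    { carrier := {l | l ∈ L₁ ∧ ∀ v ∈ VV L₁, ⁅l, v⁆ ∈ Cs L₁}
      one_mem' := ⟨one_mem _, fun v _ => by simp⟩
      mul_mem' := fun {a b} ha hb => ⟨mul_mem ha.1 hb.1, fun v hv => by
        have := mul_mem (mem_normalizer_conj (n ha.1) (hb.2 v hv)) (ha.2 v hv)
        convert this using 1; simp only [commutatorElement_def]; group⟩
      inv_mem' := fun {a} ha => ⟨inv_mem ha.1, fun v hv => by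
        have := mem_normalizer_conj' (n ha.1) (inv_mem (ha.2 v hv))
        convert this using 1; simp only [commutatorElement_def]; group⟩ }
  have k1 : K ≤ L₁ := fun _ h => h.1
  have k2 : L₁ ≤ Ns K := fun g hg => mem_normalizer_of_cj_le (cj_le_iff.2 fun l hl' =>
    ⟨mul_mem (mul_mem hg hl'.1) (inv_mem hg), fun v hv => by
      have := mem_normalizer_conj (n hg) (hl'.2 _ (mem_normalizer_conj' (PU.le_norm_vv _ hg) hv))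
      convert this using 1; simp only [commutatorElement_def]; group⟩)
  have k3 : ⁅VV L₁, K⁆ ≤ Cs L₁ := commutator_le.2 fun v hv l hl' => by
    rw [← commutatorElement_inv]; exact inv_mem (hl'.2 v hv)
  have k4 : O2 K ≤ ncl (VV L₂) L₁ := (Local.resOf_mono k1).trans (Local.resOf_le_of_le_sup
    (isPGroup_pCoreOf _) ((pCoreOf_le _).trans le_Ns_ncl) (Lk1.le_sup h1 h2 hl))
  have r := Local.resOf_le (p := 2) K
  have k5 := resOf_le_centralizer_of_iterCommutator (isPGroup_pCoreOf (p := 2) L₁)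
    ((r.trans k1).trans (self_le_normalizer_pCoreOf _)) (n := 3) (le_bot_iff.1 ((commutator_mono
      ((commutator_mono ((commutator_mono le_rfl k4).trans (cN h1 h2 hl)) r).trans k3) (r.trans k1)).trans
      (commutator_eq_bot_iff_le_centralizer.2 le_rfl).le))
  rw [Local.resOf_resOf] at k5
  obtain ⟨_, _, c⟩ := h1.vx
  have k6 : K ≤ QQ L₁ := le_pCoreOf k1 k2 (isPGroup_of_resOf_le (isPGroup_pCoreOf L₁)
    fun x hx => c.char x (k1 (r hx)) (k5 hx))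
  exact ⟨fun l h => k6 ⟨h.1, fun v hv =>
    commutatorElement_eq_one_iff_mul_comm.2 (mem_Cs.1 h.2 v hv).symm ▸ one_mem _⟩, fun l h h' => k6 ⟨h, h'⟩⟩

theorem lk_fr (h1 : Ln B L₁) (hp : Pt B) (hw : WC (JJ B) (VV L₁)) (hn : n ∈ Ns (VV L₁)) :
    ∃ l ∈ L₁, ∃ m ∈ Ns (JJ B), m ∈ Ns (VV L₁) ∧ n = l * m := by
  obtain ⟨d, hd, ⟨S, hS⟩, hc⟩ := hp.zd
  have hB := hS.le_of h1.pg hc
  obtain ⟨l, hl, k⟩ := h1.cover (mem_normalizer_conj hn (ZV h1 (hS.mem_OZ hB hd)))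
  rw [← OZ_cj, mem_OZ] at k
  have hB' := (hS.cj n).le_of (isPGroup_cj h1.pg l) fun x hx => mem_C1.2 (mem_Cs.1 k.2.1 x hx)
  have e : ∀ g ∈ Ns (VV L₁), cj g B ≤ cj n S → cj g⁻¹ (JJ (cj n S ⊓ Ns (VV L₁))) = JJ B := fun g hg c => by
    rw [← JJ_cj]
    refine hw _ (isPGroup_cj ((hS.cj n).pg.to_le inf_le_left) _) (cj_le_iff_le_cj_inv.1 (le_inf
      ((cj_mono g JJ_le).trans c) (cj_le_of_mem_of_le hg (JJ_le.trans (nV h1)))))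
      (cj_le_of_mem_of_le (inv_mem hg) inf_le_right)
  have hl' := PU.le_norm_vv (p := 2) _ hl
  refine ⟨l, hl, l⁻¹ * n, mem_Ns_iff.2 ?_, mul_mem (inv_mem hl') hn, (mul_inv_cancel_left _ _).symm⟩
  conv_lhs => rw [← e n hn (cj_mono n hB), cj_mul, cj_cj_inv]
  exact e l hl' hB'

theorem lk_LL (h1 : Ln B L₁) (h2 : Ln B L₂) (hp : Pt B) (hl : ¬ VV L₁ ≤ QQ L₂)
    (hw : WC (JJ B) (VV L₁)) :
    LL (VV L₁) (VV L₂) ≤ L₁ ∧ LL (VV L₁) (VV L₂) ⊔ QQ L₁ = L₁ ∧ VV L₁ ≤ LL (VV L₁) (VV L₂) ∧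
      ⁅QQ L₁, LL (VV L₁) (VV L₂)⁆ ≤ VV L₁ ∧ L₁ ⊓ Ns B ≤ Ns (VV L₂) := by
  have ap := (lk1 h1 h2 hp hl).1
  have e : LL (VV L₁) (VV L₂) = ncl (VV L₂) L₁ := le_antisymm (ncl_le_iff.2 fun n hn => by
    obtain ⟨l, hl, m, k1, k2, rfl⟩ := lk_fr h1 hp hw hn
    rw [cj_mul, mem_Ns_iff.1 (ap.ns k1 k2)]
    exact cj_le_ncl hl) (ncl_mono (PU.le_norm_vv _))
  have k := ncl_le (h2.V_le.trans h1.le)
  rw [e]
  refine ⟨k, le_antisymm (sup_le k (pCoreOf_le _)) (Lk1.le_sup h1 h2 hl), fun v hv => ?_, cN h1 h2 hl,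
    fun g hg => ap.ns (ns_le_JJ hg.2) (PU.le_norm_vv _ hg.1)⟩
  obtain ⟨g, hg, hn⟩ := h1.exists_opp le_rfl le_sup_left
  obtain ⟨u, hu, w, hw, rfl⟩ := h1.sum hp.zd hg hn hv
  exact mul_mem (le_ncl' (ZV h2 hu)) (cj_le_ncl hg (cj_mono g (ZV h2) hw))

end Cfsg.Lib.Bau
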