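import Cfsg.Agent.Bau.Lk1
import Cfsg.Agent.Bau.Line2
import Cfsg.Agent.Trans.Fus

/-! Linked lines: the Sylow subgroup of `LL` and the parabolic structure. -/

set_option autoImplicit false
set_option linter.unusedSectionVars false

open scoped commutatorElement

namespace Cfsg.Lib.Bau

open Cfsg Subgroup Cfsg.Lib.Trans Cfsg.Lib.Trans.TJ Cfsg.Lib.Gold Cfsg.Lib.Gomi

universe u

variable {G : Type u} [Group G] [Finite G]
  {A A' B C E H J J' K L L' L₁ L₂ M P S S' T V V' W W' X α δ : Subgroup G}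
  {a b c d e g k n r r' s t t' u u' v w x x' y y' z z' : G}

theorem lk_syl (h1 : Ln B L₁) (h2 : Ln B L₂) (hp : Pt B) (hl : ¬ VV L₁ ≤ QQ L₂)
    (hw : WC (JJ B) (VV L₁)) : QQ L₁ ⊓ LL (VV L₁) (VV L₂) = VV L₁ := by
  obtain ⟨ap, -, eB⟩ := lk1 h1 h2 hp hl
  obtain ⟨XL, eL, VX, QX, nW⟩ := lk_LL h1 h2 hp hl hw
  have nV : L₁ ≤ Ns (VV L₁) := PU.le_norm_vv L₁
  have nQ : L₁ ≤ Ns (QQ L₁) := Local.MSS.self_le_normalizer_pCoreOf L₁
  have WX : VV L₂ ≤ LL (VV L₁) (VV L₂) := B_le_LL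
  have WQ : ∀ w ∈ VV L₂, w ∈ QQ L₁ → w ∈ VV L₁ := fun w a b =>
    ap.symm.mem_of_cs a (PU.Q_le_cent L₁ b)
  have BW : B ≤ Ns (VV L₂) := (le_inf h1.le le_normalizer).trans nW
  have foc := (h1.syl.inf_normal_of_le (nV.trans Ns_le_Ns_LL) XL).inf_commutator_le
    (F := VV L₂ ⊔ VV L₁) fun b hb g hg hc => by
      obtain ⟨w, hw, z, hz, rfl⟩ := PU.exists_mul_Q (h2.V_le.trans h1.le) (eB.ge hb.1)
      have zB := h1.Q_le hz
      have a : g * w * g⁻¹ ∈ B := by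
        simpa [mul_assoc] using
          B.mul_mem hc.1 (B.inv_mem (h1.Q_le (mem_normalizer_conj (nQ (XL hg)) hz)))
      have k : z⁻¹ * (g * w * g⁻¹) * z ∈ VV L₂ ⊔ VV L₁ := by
        by_cases hn : g ∈ Ns B
        · exact mem_sup_left (mem_normalizer_conj' (BW zB) (mem_normalizer_conj (nW ⟨XL hg, hn⟩) hw))
        · refine mem_sup_right (mem_normalizer_conj' (nV (h1.le zB))
            (mem_normalizer_conj (nV (XL hg)) (WQ w hw ?_)))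
          simpa [mul_assoc] using mem_normalizer_conj' (nQ (XL hg))
            (h1.ti hp.zd (XL hg) hn ⟨a, conj_mem_cj.2 (h2.V_le hw)⟩)
      have := mul_mem (mul_mem (mem_sup_left (mem_normalizer_conj' (BW zB) (inv_mem hw))) k)
        (mem_sup_right (QX (commutator_mem_commutator (inv_mem hz) hg)))
      simpa [commutatorElement_def, mul_assoc] using this
  have gen : LL (VV L₁) (VV L₂) ≤ ⁅LL (VV L₁) (VV L₂), LL (VV L₁) (VV L₂)⁆ ⊔ VV L₂ :=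
    ncl_le_iff.2 fun n hn y hy => by
      obtain ⟨l, hl, m, m1, m2, rfl⟩ := lk_fr h1 hp hw hn
      obtain ⟨x, hx, q, hq, rfl⟩ := PU.exists_mul_Q XL (eL.ge hl)
      have a := mem_normalizer_conj (BW (h1.Q_le hq)) (mem_normalizer_conj (ap.ns m1 m2) (mem_cj.1 hy))
      simpa [commutatorElement_def, mul_assoc] using
        mul_mem (mem_sup_left (commutator_mem_commutator hx (WX a))) (mem_sup_right a)
  refine le_antisymm (fun c hc => ?_) (le_inf (PU.vv_le L₁) VX)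
  obtain ⟨x, hx, w, hw, rfl⟩ := (Solv.mem_sup_of_le_normalizer (WX.trans (le_sup_left.trans
    (Local.sup_le_normalizer_commutator _ _)))).1 (gen hc.2)
  obtain ⟨u, hu, v, hv, e⟩ := (Solv.mem_sup_of_le_normalizer' (h2.V_le.trans (h1.le.trans nV))).1
    (mul_mem (foc ⟨⟨(mul_mem_cancel_right (h2.V_le hw)).1 (h1.Q_le hc.1),
      (mul_mem_cancel_right (WX hw)).1 hc.2⟩, hx⟩) (mem_sup_left hw))
  rw [← e] at hc ⊢
  exact mul_mem (WQ u hu ((mul_mem_cancel_right (PU.vv_le L₁ hv)).1 hc.1)) hv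

theorem lk_par (h1 : Ln B L₁) (h2 : Ln B L₂) (hp : Pt B) (hl : ¬ VV L₁ ≤ QQ L₂)
    (hw : WC (JJ B) (VV L₁)) (F : Type) [Field F] [Fintype F]
    (hF : Fintype.card F = (QQ L₁).relIndex B) : HasPar F (VV L₁) (VV L₂) := by
  obtain ⟨ap, -, eB⟩ := lk1 h1 h2 hp hl
  obtain ⟨XL, eL, VX, -, -⟩ := lk_LL h1 h2 hp hl hw
  obtain ⟨M, r⟩ := h1.vx.r1 h1.syl
  obtain ⟨g, hg, gM⟩ := SetLike.not_le_iff_exists.1 r.uniq.not_le
  obtain ⟨θ, ψ, N, oU, -, mB, -⟩ := r.natMod hg gM F hF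
  have QL := h1.Q_le.trans h1.le
  have WL := h2.V_le.trans h1.le
  have k : ∀ l ∈ L₁, ∀ q ∈ QQ L₁, θ (l * q) = θ l := fun l hl q hq => by
    rw [N.mul l hl q (QL hq), (N.theta_eq_one_iff (QL hq)).2 fun v hv => ?_, mul_one]
    rw [commutatorElement_eq_one_iff_mul_comm.2 (PU.Q_le_cent L₁ hq v hv).symm]
    exact one_mem _
  have eZ : ZZ (VV L₁) (VV L₂) = VV L₁ ⊓ Cs L₁ := by
    refine le_antisymm (fun v hv => ⟨hv.1, fun l hl => ?_⟩)
      (inf_le_inf_left _ (TJ.centralizer_anti XL))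
    obtain ⟨x, hx, q, hq, rfl⟩ := PU.exists_mul_Q XL (eL.ge hl)
    exact Commute.mul_left (hv.2 x hx) (PU.vv_le_cent L₁ hv.1 q hq)
  refine ⟨θ, ψ, ap.ab, ⟨XL.trans N.norm, inf_le_left, N.add, N.surj, eZ ▸ N.ker,
    fun a ha b hb => N.mul a (XL ha) b (XL hb), fun a ha => N.act a (XL ha), fun T => ?_⟩,
    ⟨fun a ha => oU.1 a (h2.V_le ha), fun t => ?_⟩, fun v hv => ?_, fun l hx e => ?_, ?_⟩
  · obtain ⟨l, hl, rfl⟩ := N.onto T
    obtain ⟨x, hx, q, hq, rfl⟩ := PU.exists_mul_Q XL (eL.ge hl)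
    exact ⟨x, hx, (k x (XL hx) q hq).symm⟩
  · obtain ⟨l, hl, e⟩ := oU.2 t
    obtain ⟨x, hx, q, hq, rfl⟩ := PU.exists_mul_Q WL (eB.ge hl)
    exact ⟨x, hx, (k x (WL hx) q hq).symm.trans e⟩
  · have e := ap.inf.trans (hp.OZ_J.trans h1.OZ_eq)
    exact ⟨fun a => (mB v hv).1 (e.le ⟨hv, a⟩).2, fun a => (e.ge ⟨hv, (mB v hv).2 a⟩).2⟩
  · exact PU.Q_le_cent L₁ ((lk_ker h1 h2 hl).2 l (XL hx) fun v hv =>
      ((N.theta_eq_one_iff (XL hx)).1 e v hv).2)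
  · have := h1.syl.inf_normal_of_le ((PU.le_norm_vv L₁).trans Ns_le_Ns_LL) XL
    refine (le_antisymm (fun b hb => ?_) (le_inf (sup_le h1.V_le h2.V_le) (sup_le VX B_le_LL))) ▸ this
    obtain ⟨x, hx, q, hq, rfl⟩ := PU.exists_mul_Q WL (eB.ge hb.1)
    exact mul_mem (mem_sup_right hx) (mem_sup_left ((lk_syl h1 h2 hp hl hw).le
      ⟨hq, (mul_mem_cancel_left (B_le_LL hx)).1 hb.2⟩))

end Cfsg.Lib.Bau
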