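import Cfsg.Agent.Bau.Lk2

set_option autoImplicit false
set_option linter.unusedSectionVars false

open scoped commutatorElement

namespace Cfsg.Lib.Bau

open Cfsg Subgroup Cfsg.Lib.Trans Cfsg.Lib.Trans.TJ Cfsg.Lib.Gold Cfsg.Lib.Gomi

universe u

variable {G : Type u} [Group G] [Finite G]
  {A A' B C E H J J' K L L' L₁ L₂ M P S S' T V V' W W' X α δ : Subgroup G}
  {a b c d e g k n r r' s t t' u u' v w x x' y y' z z' : G}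

theorem lk_half (h1 : Ln B L₁) (h2 : Ln B L₂) (hp : Pt B) (hl : ¬ VV L₁ ≤ QQ L₂)
    (hw : WC (JJ B) (VV L₁)) : Half (JJ B) (VV L₁) (VV L₂) := by
  obtain ⟨ap, -, e2⟩ := lk1 h1 h2 hp hl
  obtain ⟨hX1, hX2, hVX, -, -⟩ := lk_LL h1 h2 hp hl hw
  have hsyl := lk_syl h1 h2 hp hl hw
  have hk := (lk_ker h1 h2 hl).1
  have hWX : VV L₂ ≤ LL (VV L₁) (VV L₂) := B_le_LL
  have hJB : JJ B ≤ B := JJ_le
  have r1 := h1.restrict hk hX1 hX2 hVX (by rw [hsyl]; exact fun x hx => (mem_OZ.1 hx).1)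
  have eB : B ⊓ LL (VV L₁) (VV L₂) = VV L₁ ⊔ VV L₂ := by
    refine le_antisymm (fun b hb => ?_)
      (sup_le (le_inf h1.V_le hVX) (le_inf h2.V_le hWX))
    have hb1 : b ∈ VV L₂ ⊔ QQ L₁ := by rw [e2]; exact hb.1
    obtain ⟨w, hw1, q, hq, rfl⟩ := PU.exists_mul_Q (h2.V_le.trans h1.le) hb1
    have hq1 : q ∈ QQ L₁ ⊓ LL (VV L₁) (VV L₂) :=
      ⟨hq, (mul_mem_cancel_left (hWX hw1)).1 hb.2⟩
    rw [hsyl] at hq1
    exact mul_mem (mem_sup_right hw1) (mem_sup_left hq1)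
  have hJX : JJ B ≤ Ns (LL (VV L₁) (VV L₂)) := ap.nV.trans Ns_le_Ns_LL
  have eJ : B ⊓ (LL (VV L₁) (VV L₂) ⊔ JJ B) = JJ B := by
    refine le_antisymm (fun b hb => ?_) (le_inf hJB le_sup_right)
    obtain ⟨l, hl1, j, hj, rfl⟩ := (Solv.mem_sup_of_le_normalizer hJX).1 hb.2
    have hl2 : l ∈ B ⊓ LL (VV L₁) (VV L₂) := ⟨(mul_mem_cancel_right (hJB hj)).1 hb.1, hl1⟩
    rw [eB] at hl2
    exact mul_mem (sup_le ap.lV ap.lW hl2) hj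
  have eQ : QQ L₁ ⊓ (LL (VV L₁) (VV L₂) ⊔ JJ B) = JJ B ⊓ Cs (VV L₁) := by
    refine le_antisymm (fun q hq => ⟨?_, (h1.memQ (h1.Q_le hq.1)).1 hq.1⟩)
      (fun j hj => ⟨(h1.memQ (hJB hj.1)).2 hj.2, mem_sup_right hj.1⟩)
    have : q ∈ B ⊓ (LL (VV L₁) (VV L₂) ⊔ JJ B) := ⟨h1.Q_le hq.1, hq.2⟩
    rwa [eJ] at this
  have hL' : LL (VV L₁) (VV L₂) ⊔ JJ B ≤ L₁ := sup_le hX1 (hJB.trans h1.le)
  have r2 := h1.restrict hk hL'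
    (le_antisymm (sup_le hL' (h1.Q_le.trans h1.le))
      (hX2.ge.trans (sup_le_sup_right le_sup_left _)))
    (hVX.trans le_sup_left) (by rw [eQ, ap.OZ_C])
  rw [eB] at r1
  rw [eJ] at r2
  refine ⟨r1.1, r1.2.1, r1.2.2.trans hsyl, r2.1, r2.2.1, r2.2.2.trans eQ, fun n hn => ?_, hw⟩
  obtain ⟨l, hl1, m, hm, -, rfl⟩ := lk_fr h1 hp hw hn
  rw [← hX2] at hl1
  obtain ⟨l', hl', q, hq, rfl⟩ := PU.exists_mul_Q hX1 hl1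
  exact ⟨l', hl', q * m, mul_mem (ns_le_JJ (le_normalizer (h1.Q_le hq))) hm, mul_assoc _ _ _⟩

theorem lk3_idx_le (h1 : Ln B L₁) (h2 : Ln B L₂) (hl : ¬ VV L₂ ≤ QQ L₁) :
    (QQ L₁).relIndex B ≤ (QQ L₂).relIndex B := by
  rw [← h1.vx.relIndex_eq h1.syl h2.V_le hl, ← h2.vx.relIndex_Q h2.syl h1.V_le]
  exact relIndex_le_of_le_right h1.V_le FiniteIndex.index_ne_zero

theorem lk2 (h1 : Ln B L₁) (h2 : Ln B L₂) (hp : Pt B) (hl : ¬ VV L₁ ≤ QQ L₂)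
    (w1 : WC (JJ B) (VV L₁)) (w2 : WC (JJ B) (VV L₂)) :
    Live (JJ B) (VV L₁) (VV L₂) ∧ L₁ ≤ LL (VV L₁) (VV L₂) ⊔ B := by
  have hl' : ¬ VV L₂ ≤ QQ L₁ := PU.Vx.not_le_symm h2.vx h2.syl h1.V_le hl
  obtain ⟨ap, -, -⟩ := lk1 h1 h2 hp hl
  obtain ⟨-, hX2, -⟩ := lk_LL h1 h2 hp hl w1
  refine ⟨⟨ap, ?_, lk_half h1 h2 hp hl w1, lk_half h2 h1 hp hl' w2, ?_⟩,
    hX2.ge.trans (sup_le_sup_left h1.Q_le _)⟩
  · obtain ⟨d, hd, hD, hc⟩ := hp.zd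
    obtain ⟨S, hS⟩ := id hD
    have h3 : d ∈ OZ B := mem_OZ.2 ⟨hd, fun b hb => (mem_C1.1 (hc hb)), hS.sq⟩
    exact ⟨d, (mem_OZ.1 (OZ_le_OZ_J h3)).1, hD, JJ_le.trans hc⟩
  · obtain ⟨k, hk⟩ := h1.pg.index ((QQ L₁).subgroupOf B)
    obtain ⟨F, _, _, hF⟩ := MP.exists_field_card (p := 2) (n := k) fun e => by
      rw [e, pow_zero] at hk
      exact hl' (h2.V_le.trans (relIndex_eq_one.1 hk))
    have e1 : Fintype.card F = (QQ L₁).relIndex B := hF.trans hk.symm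
    exact ⟨F, inferInstance, inferInstance, lk_par h1 h2 hp hl w1 F e1, lk_par h2 h1 hp hl' w2 F
      (e1.trans (le_antisymm (lk3_idx_le h1 h2 hl') (lk3_idx_le h2 h1 hl)))⟩

end Cfsg.Lib.Bau
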