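import Cfsg.Agent.Bau.Ap
import Cfsg.Agent.Bau.Line2

set_option autoImplicit false
set_option linter.unusedSectionVars false

open scoped commutatorElement

namespace Cfsg.Lib.Bau

open Cfsg Subgroup Cfsg.Lib.Trans Cfsg.Lib.Trans.TJ Cfsg.Lib.Gold Cfsg.Lib.Gomi

universe u

variable {G : Type u} [Group G] [Finite G]
  {A A' B C E H J J' K L L' L₁ L₂ M P S S' T V V' W W' X α δ : Subgroup G}
  {a b c d e g k n r r' s t t' u u' v w x x' y y' z z' : G}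

theorem Live.symm (h : Live J V W) : Live J W V := by
  obtain ⟨F, i, j, h1, h2⟩ := h.par
  exact ⟨h.ap.symm, h.zd, h.hW, h.hV, F, i, j, h2, h1⟩

theorem LL_cj (g : G) (V W : Subgroup G) : LL (cj g V) (cj g W) = cj g (LL V W) := by
  rw [LL, LL, cj_ncl, cj_normalizer]

theorem EE_cj (g : G) (V W : Subgroup G) : EE (cj g V) (cj g W) = cj g (EE V W) := by
  rw [EE, LL_cj, O2_cj]

theorem UU_cj (g : G) (V W : Subgroup G) : UU (cj g V) (cj g W) = cj g (UU V W) := by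
  rw [UU, LL_cj, cj_commutator]

theorem ZZ_cj (g : G) (V W : Subgroup G) : ZZ (cj g V) (cj g W) = cj g (ZZ V W) := by
  rw [ZZ, ZZ, LL_cj, cj_inf, cj_centralizer]

theorem hasPar_cj {F : Type} [Field F] (h : HasPar F V W) (g : G) : HasPar F (cj g V) (cj g W) := by
  obtain ⟨θ, ψ, P⟩ := h
  have e1 : ∀ x y : G, g⁻¹ * (x * y) * g = g⁻¹ * x * g * (g⁻¹ * y * g) := fun x y => by group
  have e2 : ∀ x : G, g⁻¹ * (g * x * g⁻¹) * g = x := fun x => by group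
  refine ⟨fun x => θ (g⁻¹ * x * g), fun x => ψ (g⁻¹ * x * g), P.ab.cj g, ?_, ⟨?_, ?_⟩, ?_, ?_, ?_⟩
  · rw [LL_cj, ZZ_cj]
    refine ⟨?_, cj_mono g P.nat.le, fun u hu v hv => ?_, fun y => ?_, fun v hv => ?_,
      fun l hl k hk => ?_, fun l hl v hv => ?_, fun T => ?_⟩
    · exact (cj_mono g P.nat.norm).trans (cj_normalizer g V).le
    · simp only [e1]
      exact P.nat.add _ (mem_cj.1 hu) _ (mem_cj.1 hv)
    · obtain ⟨v, hv, e⟩ := P.nat.surj y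
      exact ⟨_, conj_mem_cj.2 hv, by simp only [e2, e]⟩
    · rw [mem_cj]
      exact P.nat.ker _ (mem_cj.1 hv)
    · simp only [e1]
      exact P.nat.mul _ (mem_cj.1 hl) _ (mem_cj.1 hk)
    · rw [← P.nat.act _ (mem_cj.1 hl) _ (mem_cj.1 hv)]
      congr 1
      group
    · obtain ⟨l, hl, e⟩ := P.nat.onto T
      exact ⟨_, conj_mem_cj.2 hl, by simp only [e2, e]⟩
  · exact fun a ha => P.ontoU.1 _ (mem_cj.1 ha)
  · intro t
    obtain ⟨a, ha, e⟩ := P.ontoU.2 t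
    exact ⟨_, conj_mem_cj.2 ha, by simp only [e2, e]⟩
  · intro v hv
    rw [mem_cj]
    exact P.memB _ (mem_cj.1 hv)
  · intro l hl e
    rw [LL_cj] at hl
    exact (cj_centralizer g V).le (mem_cj.2 (P.ker _ (mem_cj.1 hl) e))
  · rw [LL_cj, ← cj_sup]
    exact P.syl.cj g

theorem Half.cj (h : Half J V W) (g : G) : Half (cj g J) (cj g V) (cj g W) := by
  refine ⟨?_, ?_, ?_, ?_, ?_, ?_, fun n hn => ?_, fun P hP h1 h2 => ?_⟩
  · rw [LL_cj, ← cj_sup]; exact h.ln.cj g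
  · rw [LL_cj, VV_cj, h.vv]
  · rw [LL_cj, QQ_cj, h.qq]
  · rw [LL_cj, ← cj_sup]; exact h.lnJ.cj g
  · rw [LL_cj, ← cj_sup, VV_cj, h.vvJ]
  · rw [LL_cj, ← cj_sup, QQ_cj, h.qqJ, cj_inf, cj_centralizer]
  · obtain ⟨l, hl, m, hm, e⟩ := h.fr _ (mem_cj.1 ((cj_normalizer g V).ge hn))
    refine ⟨g * l * g⁻¹, by rw [LL_cj]; exact conj_mem_cj.2 hl, g * m * g⁻¹,
      (cj_normalizer g J).le (conj_mem_cj.2 hm), ?_⟩
    calc n = g * (g⁻¹ * n * g) * g⁻¹ := by group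
      _ = _ := by rw [e]; group
  · have := h.wc (Trans.cj g⁻¹ P) (isPGroup_cj hP _) (cj_le_iff_le_cj_inv.1 h1)
      (cj_inv_le_iff_le_cj.2 (h2.trans (cj_normalizer g V).ge))
    rw [← this, JJ_cj, cj_cj_inv]

theorem Live.cj (h : Live J V W) (g : G) : Live (cj g J) (cj g V) (cj g W) := by
  obtain ⟨F, i, j, h1, h2⟩ := h.par
  exact ⟨h.ap.cj g, h.zd.cj g, h.hV.cj g, h.hW.cj g, F, i, j, hasPar_cj h1 g, hasPar_cj h2 g⟩

theorem ns_le_EE : Ns V ≤ Ns (EE V W) := by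
  exact Ns_le_Ns_LL.trans ns_le_O2

theorem ns_le_UU : Ns V ≤ Ns (UU V W) := by
  exact (le_inf le_rfl Ns_le_Ns_LL).trans (normalizer_le_normalizer_commutator _ _)

theorem Live.exists_d (h : Live J V W) : ∃ d ∈ J, DD d ∧ J ≤ C1 d ∧ d ∈ V ⊓ W := by
  obtain ⟨d, h1, ⟨S, h2⟩, h3⟩ := h.zd
  refine ⟨d, h1, h2.dd, h3, ?_⟩
  rw [h.ap.inf]
  exact mem_OZ.2 ⟨h1, mem_Cs.2 fun u hu => mem_C1.1 (h3 hu), h2.sq⟩

theorem Live.ker_aux (h : Live J V W) (hg : g ∈ LL V W) (h1 : ∀ v ∈ V, ⁅g, v⁆ ∈ ZZ V W) :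
    g ∈ V := by
  obtain ⟨F, i, j, ⟨θ, ψ, P⟩, -⟩ := h.par
  obtain ⟨S, M, hR⟩ := h.hV.ln.vx
  have h2 := hR.char g hg (by
    rw [show pCoreOf 2 (LL V W) = V from h.hV.qq]
    exact P.ker g hg ((P.nat.theta_eq_one_iff hg).2 h1))
  exact h.hV.qq.le h2

theorem Live.zd' (h : Live J V W) : ZD (V ⊔ W) := by
  obtain ⟨d, -, h2, h3, h4⟩ := h.exists_d
  exact ⟨d, mem_sup_left h4.1, h2, (sup_le h.ap.lV h.ap.lW).trans h3⟩

theorem Live.OZ_sup (h : Live J V W) : OZ (V ⊔ W) = V ⊓ W := by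
  ext x
  rw [mem_OZ, ← and_assoc, ← mem_inf, h.ap.ab.inf_Cs_S]
  exact ⟨fun h1 => h1.1, fun h1 => ⟨h1, h.ap.sq h1.1⟩⟩

theorem Live.R_eq (h : Live J V W) : ⁅V, V ⊔ W⁆ = ⁅V, W⁆ := by
  have := h.hV.ln.R_eq (A := W) (by rw [h.hV.qq, sup_comm])
  rwa [h.hV.vv] at this

theorem Live.noD (h : Live J V W) (hd : DD d) : d ∉ Cs (LL V W) := by
  exact h.hV.ln.noD hd

theorem Live.exists_opp (h : Live J V W) : ∃ g ∈ EE V W, g ∉ Ns (V ⊔ W) := by
  exact h.hV.ln.exists_opp (Local.resOf_le _) (Local.resOf_sup_sylowIn h.hV.ln.syl).ge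

theorem Live.ns_W (h : Live J V W) (hg : g ∈ LL V W) (h1 : g ∈ Ns (V ⊔ W)) :
    g ∈ Ns W ∧ g ∈ Ns J := by
  have h2 : g ∈ Ns V := LL_le h.ap.ab hg
  have h3 : g ∈ Ns W := h.ap.ab.Ns_inf_le ⟨h1, h2⟩
  obtain ⟨d, -, h4, -, h5⟩ := h.exists_d
  refine ⟨h3, h.hV.lnJ.mem_ns h.zd (mem_sup_left hg) (h.ap.inf ▸ h5) (h.hV.lnJ.noD h4) ?_⟩
  rw [← h.ap.inf]
  exact ⟨mem_normalizer_conj h2 h5.1, mem_normalizer_conj h3 h5.2⟩

theorem Live.gen2 (h : Live J V W) (hg : g ∈ LL V W) (h1 : g ∉ Ns (V ⊔ W)) :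
    W ⊔ Trans.cj g W = LL V W := by
  have h2 : V ≤ W ⊔ Trans.cj g W := fun v hv => by
    obtain ⟨u, hu, w, hw, rfl⟩ := h.hV.ln.sum h.zd' hg h1 (h.hV.vv.ge hv)
    rw [h.OZ_sup] at hu hw
    exact mul_mem (mem_sup_left hu.2) (mem_sup_right (cj_mono g inf_le_right hw))
  refine le_antisymm (sup_le B_le_LL (cj_le_of_mem_of_le hg B_le_LL)) ?_
  rw [← h.hV.ln.opp h.zd' hg h1, cj_sup, cj_eq_of_mem_normalizer (LL_le h.ap.ab hg)]
  exact sup_le (sup_le h2 le_sup_left) (sup_le h2 le_sup_right)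

theorem Live.UU_le (h : Live J V W) : UU V W ≤ V := by
  exact commutator_le_left_of_le (LL_le h.ap.ab)

theorem Live.UU_le_EE (h : Live J V W) : UU V W ≤ EE V W := by
  obtain ⟨F, i, j, h1, -⟩ := h.par
  have hL : LL V W ≤ Ns ⁅V, EE V W⁆ := (le_inf (LL_le h.ap.ab) (Local.le_normalizer_resOf _)).trans
    (normalizer_le_normalizer_commutator _ _)
  have hV : ⁅V, EE V W⁆ ≤ V := commutator_le_left_of_le ((Local.resOf_le _).trans (LL_le h.ap.ab))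
  have hE : ⁅V, EE V W⁆ ≤ EE V W := commutator_le_right_of_le (le_normalizer.trans ns_le_EE)
  rcases h1.irr hV hL with h2 | h2
  · obtain ⟨g, hg, hn⟩ := h.exists_opp
    refine (hn (le_normalizer (mem_sup_left (h.ker_aux (Local.resOf_le _ hg) fun v hv =>
      h2 ?_)))).elim
    rw [Subgroup.commutator_comm]
    exact commutator_mem_commutator hg hv
  · refine commutator_le.2 fun v hv l hl => hE ?_
    obtain ⟨k, hk, z, hz, rfl⟩ := TJ.mem_sup_of_le_normalizer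
      (hV.trans (le_normalizer.trans Ns_le_Ns_ZZ)) (h2 hv)
    have h3 := mul_mem hk (mem_normalizer_conj (hL hl) (inv_mem hk))
    have h4 : ⁅k * z, l⁆ = k * (l * k⁻¹ * l⁻¹) := by
      calc ⁅k * z, l⁆ = k * (z * l) * z⁻¹ * k⁻¹ * l⁻¹ := by rw [commutatorElement_def]; group
        _ = _ := by rw [← mem_Cs.1 (ZZ_le_Cs hz) l hl]; group
    rwa [h4]

theorem Live.R_le (h : Live J V W) : ⁅V, W⁆ ≤ UU V W ⊓ UU W V ⊓ (V ⊓ W) := by
  refine le_inf (le_inf (commutator_mono le_rfl B_le_LL) ?_)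
    (commutator_le.2 fun v hv w hw => h.ap.ab.comm_mem hv hw)
  rw [Subgroup.commutator_comm]
  exact commutator_mono le_rfl B_le_LL

theorem Live.R_not (h : Live J V W) : ¬ ⁅V, W⁆ ≤ Cs (LL V W) := by
  have := h.hV.ln.R_not
  rwa [h.hV.vv, h.R_eq] at this

theorem Live.Z_le (h : Live J V W) : V ⊓ W ≤ ⁅V, W⁆ ⊔ ZZ V W := by
  obtain ⟨F, i, j, h1, -⟩ := h.par
  exact h1.le_commutator_sup'

theorem Live.V_le (h : Live J V W) : V ≤ UU V W ⊔ ZZ V W := by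
  have := h.hV.ln.V_le_sup h.zd'
  rwa [h.hV.vv] at this

theorem Live.UU_not (h : Live J V W) : ¬ UU V W ≤ W := by
  exact fun h1 => h.ap.nle (h.V_le.trans (sup_le h1 ((ZZ_le h.ap.ab).trans inf_le_right)))

theorem Live.LL_le (h : Live J V W) : LL V W ≤ EE V W ⊔ W := by
  rw [← Local.resOf_sup_sylowIn h.hV.ln.syl]
  exact sup_le le_sup_left (sup_le (h.V_le.trans (sup_le_sup h.UU_le_EE
    ((ZZ_le h.ap.ab).trans inf_le_right))) le_sup_right)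

theorem Live.EE_ne (h : Live J V W) : EE V W ≠ ⊥ := by
  intro e
  obtain ⟨g, hg, hn⟩ := h.exists_opp
  rw [e, mem_bot] at hg
  exact hn (hg ▸ one_mem _)

theorem Live.EE_le2 (h : Live J V W) (hg : g ∈ LL V W) (h1 : g ∉ Ns (V ⊔ W)) :
    EE V W ≤ UU W V ⊔ Trans.cj g (UU W V) := by
  have hW : W ≤ UU W V ⊔ V := h.symm.V_le.trans
    (sup_le_sup_left ((ZZ_le h.symm.ap.ab).trans inf_le_right) _)
  have hU : UU W V ≤ LL V W := h.symm.UU_le.trans B_le_LL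
  have hR : ⁅V, W⁆ ≤ UU W V := h.R_le.trans (inf_le_left.trans inf_le_right)
  have h2 : UU V W ≤ UU W V ⊔ Trans.cj g (UU W V) := by
    have := h.hV.ln.U_eq h.zd' hg h1
    rw [h.hV.vv, h.R_eq] at this
    exact this.le.trans (sup_le_sup hR (cj_mono g hR))
  refine res_le_of (P := V) O2_O2 ((Local.resOf_le _).trans ?_)
    (h.ap.pg.to_le h.ap.lV) fun v hv => mem_normalizer_of_cj_le (cj_le_iff.2 fun x hx => ?_)
  · rw [← h.gen2 hg h1]
    refine sup_le (hW.trans (sup_le_sup_right le_sup_left _)) ((cj_mono g hW).trans ?_)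
    rw [cj_sup, cj_eq_of_mem_normalizer (Gomi.LL_le h.ap.ab hg)]
    exact sup_le_sup_right le_sup_right _
  · have := mul_mem (h2 (commutator_mem_commutator hv
      (sup_le hU (cj_le_of_mem_of_le hg hU) hx))) hx
    simpa [commutatorElement_def] using this

theorem Live.EE_le_ncl (h : Live J V W) : EE V W ≤ ncl (UU W V) (EE V W) := by
  obtain ⟨g, hg, hn⟩ := h.exists_opp
  exact (h.EE_le2 (Local.resOf_le _ hg) hn).trans (sup_le le_ncl' (cj_le_ncl hg))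

theorem Live.inf_Cs (h : Live J V W) : V ⊓ Cs (EE V W) ≤ ZZ V W := by
  intro v hv
  obtain ⟨l, hl, h1⟩ := h.hV.ln.cover (h.hV.vv.ge hv.1)
  rw [← OZ_cj] at h1
  have h2 : LL V W ≤ C1 v := by
    rw [← Local.resOf_sup_sylowIn (h.hV.ln.cj_mem hl).syl]
    exact sup_le (fun x hx => mem_C1.2 (mem_Cs.1 hv.2 x hx))
      fun x hx => mem_C1.2 (mem_Cs.1 (mem_OZ.1 h1).2.1 x hx)
  exact ⟨hv.1, mem_Cs.2 fun x hx => mem_C1.1 (h2 hx)⟩

theorem Live.ker (h : Live J V W) (hg : g ∈ LL V W) (h1 : ∀ v ∈ V, ⁅g, v⁆ ∈ ZZ V W) : g ∈ V := by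
  exact h.ker_aux hg h1

end Cfsg.Lib.Bau
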