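import Cfsg.Agent.Bau.LvA
import Cfsg.Agent.Bau.Dat

set_option autoImplicit false
set_option linter.unusedSectionVars false

open scoped commutatorElement

namespace Cfsg.Lib.Bau

open Cfsg Subgroup Cfsg.Lib.Trans Cfsg.Lib.Trans.TJ Cfsg.Lib.Gold Cfsg.Lib.Gomi

universe u

variable {G : Type u} [Group G] [Finite G]
  {A A' B C E H J J' K L L' L₁ L₂ M P S S' T V V' W W' X α δ : Subgroup G}
  {a b c d e g k n r r' s t t' u u' v w x x' y y' z z' : G}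

/-- the elements of `N(X)` that commute with `x` modulo `X`. -/
def CmMod (x : G) (X : Subgroup G) : Subgroup G where
  carrier := {a | a ∈ Ns X ∧ ⁅a, x⁆ ∈ X}
  one_mem' := ⟨one_mem _, by simp⟩
  mul_mem' := by
    rintro a b ⟨h1, h2⟩ ⟨k1, k2⟩
    refine ⟨mul_mem h1 k1, ?_⟩
    have e : ⁅a * b, x⁆ = a * ⁅b, x⁆ * a⁻¹ * ⁅a, x⁆ := by simp only [commutatorElement_def]; group
    rw [e]
    exact mul_mem (mem_normalizer_conj h1 k2) h2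
  inv_mem' := by
    rintro a ⟨h1, h2⟩
    refine ⟨inv_mem h1, ?_⟩
    have e : ⁅a⁻¹, x⁆ = a⁻¹ * ⁅a, x⁆⁻¹ * a := by simp only [commutatorElement_def]; group
    rw [e]
    exact mem_normalizer_conj' h1 (inv_mem h2)

theorem mem_CmMod : a ∈ CmMod x X ↔ a ∈ Ns X ∧ ⁅a, x⁆ ∈ X := Iff.rfl

theorem comm_mem_symm (h : ⁅a, b⁆ ∈ X) : ⁅b, a⁆ ∈ X := by
  rw [← commutatorElement_inv]; exact inv_mem h

theorem conj_eq_comm_mul (x a : G) : x * a * x⁻¹ = ⁅x, a⁆ * a := by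
  rw [commutatorElement_def, inv_mul_cancel_right]

theorem YY_le_Cs : YY J V ≤ Cs V := JJ_le.trans inf_le_right

theorem Live.L_ns (h : Live J V W) : LL V W ≤ Ns V := Gomi.LL_le h.ap.ab

theorem Live.V_le_L (h : Live J V W) : V ≤ LL V W := le_sup_left.trans h.hV.ln.syl.le

theorem Live.commV (h : Live J V W) (ha : a ∈ V) (hb : b ∈ V) : a * b = b * a :=
  h.ap.ab.commA ha hb

theorem Live.opp (h : Live J V W) : ∃ g ∈ LL V W, g ∉ Ns (V ⊔ W) := by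
  obtain ⟨g, hg, hn⟩ := h.exists_opp
  exact ⟨g, Local.resOf_le _ hg, hn⟩

theorem Live.sum (h : Live J V W) (hg : g ∈ LL V W) (hn : g ∉ Ns (V ⊔ W)) (hv : v ∈ V) :
    ∃ z ∈ V ⊓ W, ∃ z' ∈ V ⊓ W, v = z * (g * z' * g⁻¹) := by
  obtain ⟨z, hz, z', hz', rfl⟩ := h.hV.ln.sum h.zd' hg hn (h.hV.vv.ge hv)
  rw [h.OZ_sup] at hz hz'
  exact ⟨z, hz, _, mem_cj.1 hz', by group⟩

theorem Live.ns_YY (h : Live J V W) : LL V W ≤ Ns (YY J V) := by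
  refine le_trans ?_ ns_le_JJ
  rw [← h.hV.qqJ]
  exact le_sup_left.trans (Local.le_normalizer_pCoreOf _)

theorem Live.comm_YY (h : Live J V W) : ⁅YY J V, LL V W⁆ ≤ V := by
  obtain ⟨g, hg, hn⟩ := h.opp
  refine commutator_le.2 fun y hy l hl => comm_mem_symm (mem_CmMod.1 ((?_ : _ ≤ CmMod y V) hl)).2
  have key : ∀ y ∈ YY J V, ∀ w ∈ W, ⁅w, y⁆ ∈ V := fun y hy w hw =>
    comm_mem_symm (h.ap.comm_YY (commutator_mem_commutator hy hw))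
  rw [← h.gen2 hg hn]
  refine sup_le (fun w hw => ⟨h.ap.ab.nA hw, key y hy w hw⟩) (cj_le_iff.2 fun w hw =>
    ⟨h.L_ns (mul_mem (mul_mem hg (B_le_LL hw)) (inv_mem hg)), ?_⟩)
  have := mem_normalizer_conj (h.L_ns hg) (key _ (mem_normalizer_conj' (h.ns_YY hg) hy) w hw)
  rwa [conj_comm, show g * (g⁻¹ * y * g) * g⁻¹ = y by group] at this

theorem Live.cm (h : Live J V W) (h1 : a ∈ YY J V) (h2 : b ∈ YY J V) : ⁅a, b⁆ ∈ Cs (LL V W) := by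
  refine mem_Cs_iff_le.2 fun l hl => mem_C1_conj.2 ?_
  have h3 := comm_mem_symm (h.comm_YY (commutator_mem_commutator h1 hl))
  have h4 := comm_mem_symm (h.comm_YY (commutator_mem_commutator h2 hl))
  rw [conj_comm, conj_eq_comm_mul l a, conj_eq_comm_mul l b,
    comm_mul_left (mem_Cs.1 (YY_le_Cs h1) _ h3)
      (mem_Cs.1 (mul_mem (h.ap.cs h4) (YY_le_Cs h2)) _ h3),
    comm_mul_right (mem_Cs.1 (YY_le_Cs h1) _ h4) (mem_Cs.1 (YY_le_Cs h2) _ h4)]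

theorem mem_Cs_sup (h1 : g ∈ Cs A) (h2 : g ∈ Cs B) : g ∈ Cs (A ⊔ B) :=
  mem_Cs_iff_le.2 (sup_le (mem_Cs_iff_le.1 h1) (mem_Cs_iff_le.1 h2))

theorem conj_mem_Cs_cj (h : a ∈ Cs X) (g : G) : g * a * g⁻¹ ∈ Cs (Trans.cj g X) := by
  rw [← cj_Cs]; exact conj_mem_cj.2 h

theorem Live.cz (h : Live J V W) (h1 : c ∈ YY J V) (h2 : c ∈ Cs W) :
    ∃ z ∈ V ⊓ W, c * z ∈ Cs (LL V W) := by
  obtain ⟨g, hg, hn⟩ := h.opp
  obtain ⟨v, hv, c', hc', e⟩ := (Solv.mem_sup_of_le_normalizer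
    (inf_le_left.trans (YY_le_Cs.trans Cs_le_Ns))).1
    (h.ap.YY_le (mem_normalizer_conj' (h.ns_YY hg) h1))
  obtain ⟨z, hz, z', hz', e'⟩ := h.sum hg hn (mem_normalizer_conj (h.L_ns hg) hv)
  refine ⟨z, hz, ?_⟩
  rw [← h.gen2 hg hn]
  refine mem_Cs_sup (mul_mem h2 (h.symm.ap.cs hz.2)) ?_
  have e2 : c * z = g * (z' * c') * g⁻¹ := by
    calc c * z = z * (g * (g⁻¹ * c * g) * g⁻¹) := by rw [← mem_Cs.1 (YY_le_Cs h1) z hz.1]; group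
      _ = z * (g * v * g⁻¹) * (g * c' * g⁻¹) := by rw [← e]; group
      _ = _ := by rw [e', ← mul_assoc z z, h.ap.sq hz.1]; group
  rw [e2]
  exact conj_mem_Cs_cj (mul_mem (h.symm.ap.cs hz'.2) hc'.2) g

theorem Live.other (h : Live J V W) (h' : AP J V' W') (hc : V' ⊔ W' ≤ Cs V ⊓ Cs W) :
    ⁅V', W'⁆ ≤ Cs (LL V W) :=
  commutator_le.2 fun _ ha _ hb => h.cm (h.ap.le_YY h' hc (mem_sup_left ha))
    (h.ap.le_YY h' hc (mem_sup_right hb))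

theorem Live.pair (h : Live J V W) (h1 : b ∈ Ns J) (h2 : b ∈ Cs (V ⊓ W)) :
    (b ∈ Ns V ∧ b ∈ Ns W) ∨ (Trans.cj b V = W ∧ Trans.cj b W = V) := by
  rcases ap1 h.ap (h.ap.cj_ns h1) with e | e | e
  · exact Or.inl ⟨mem_Ns_iff.2 e.1, mem_Ns_iff.2 e.2⟩
  · exact Or.inr e
  · have := h.other (h.ap.cj_ns h1) e
    rw [← cj_commutator, cj_eq_of_mem_centralizer (Cs_anti (h.R_le.trans inf_le_right) h2)] at this
    exact absurd this h.R_not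

theorem Triv.symm (h : Triv V W x) : Triv W V x := ⟨h.nW, h.nV, h.cW, h.cV⟩

theorem Live.triv_Z (h : Live J V W) (hx : Triv V W x) (hz : z ∈ V ⊓ W) : ⁅x, z⁆ ∈ ZZ V W := by
  obtain ⟨F, i, j, ⟨θ, ψ, P⟩, -⟩ := h.par
  obtain ⟨σ, f, g, H⟩ := P.exists_act (x := x) ⟨hx.nV, hx.nW⟩
  obtain ⟨rfl, rfl⟩ := P.act_of_A H hx.cV
  obtain ⟨-, rfl⟩ := P.act_of_B H hx.cW
  rw [P.comm_mem_ZZ' H.mem hz, H.ga z hz, one_mul, one_mul]
  rfl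

set_option linter.unusedVariables false in
theorem Live.triv_mul (h : Live J V W) (hx : Triv V W x) (hy : Triv V W y) : Triv V W (x * y) :=
  ⟨mul_mem hx.nV hy.nV, mul_mem hx.nW hy.nW,
    fun v hv => (mul_mem (mem_CmMod.2 ⟨hx.nW, hx.cV v hv⟩) (mem_CmMod.2 ⟨hy.nW, hy.cV v hv⟩)).2,
    fun v hv => (mul_mem (mem_CmMod.2 ⟨hx.nV, hx.cW v hv⟩) (mem_CmMod.2 ⟨hy.nV, hy.cW v hv⟩)).2⟩

theorem Live.triv_of_mem (h : Live J V W) (hx : x ∈ V ⊔ W) : Triv V W x :=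
  ⟨h.ap.ab.S_le_Ns hx, h.ap.ab.S_le_Ns' hx, fun _ hv => (h.ap.ab.comm_mem' hx (mem_sup_left hv)).2,
    fun _ hv => (h.ap.ab.comm_mem' hx (mem_sup_right hv)).1⟩

theorem Live.comm_L (h : Live J V W) (hx : x ∈ Ns V) (h1 : ∀ a ∈ V, ⁅x, a⁆ ∈ ZZ V W) {l : G}
    (hl : l ∈ LL V W) : ⁅x, l⁆ ∈ V := by
  refine h.ker (Par.comm_mem_N (Ns_le_Ns_LL hx) hl) fun a ha => ?_
  have h2 : x ∈ CmMod a (ZZ V W) := ⟨Ns_le_Ns_ZZ hx, h1 a ha⟩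
  have h3 : l * x * l⁻¹ ∈ CmMod a (ZZ V W) := by
    refine ⟨Ns_le_Ns_ZZ (mul_mem (mul_mem (h.L_ns hl) hx) (inv_mem (h.L_ns hl))), ?_⟩
    have := mem_normalizer_conj (Ns_le_Ns_ZZ (h.L_ns hl))
      (h1 _ (mem_normalizer_conj' (h.L_ns hl) ha))
    rwa [conj_comm, show l * (l⁻¹ * a * l) * l⁻¹ = a by group] at this
  have h4 := (mul_mem h2 (inv_mem h3)).2
  rwa [show x * (l * x * l⁻¹)⁻¹ = ⁅x, l⁆ by rw [commutatorElement_def]; group] at h4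

theorem Live.cent_UU (h : Live J V W) (hx : x ∈ Ns V) (h1 : ∀ a ∈ V, ⁅x, a⁆ ∈ ZZ V W) :
    x ∈ Cs (UU V W) := by
  refine mem_Cs_iff_le.2 (commutator_le.2 fun a ha l hl => mem_C1_symm.1 (mem_C1_conj.2 ?_))
  have h2 := h.comm_L hx h1 hl
  have h3 := mem_Cs.1 (ZZ_le_Cs (h1 a ha))
  rw [conj_comm, conj_eq_comm_mul x a, conj_eq_comm_mul x l,
    comm_mul_left (h3 _ (h.V_le_L ha)).symm (h3 _ (mul_mem (h.V_le_L h2) hl)).symm]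
  have h4 := h.commV h2 (h.UU_le (commutator_mem_commutator ha hl))
  calc ⁅a, ⁅x, l⁆ * l⁆ = a * ⁅x, l⁆ * a⁻¹ * ⁅a, l⁆ * ⁅x, l⁆⁻¹ := by
        generalize ⁅x, l⁆ = k
        simp only [commutatorElement_def]; group
    _ = ⁅a, l⁆ := by rw [h.commV ha h2, mul_inv_cancel_right, h4, mul_inv_cancel_right]

theorem Live.cent_of_fix (h : Live J V W) (hx : Triv V W x) (hg : g ∈ LL V W)
    (hn : g ∉ Ns (V ⊔ W)) (hd : d ∈ V ⊓ W) (hd' : d ∉ ZZ V W)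
    (h1 : ⁅x, g * d * g⁻¹⁆ ∈ ZZ V W) : x ∈ Cs (UU V W) := by
  have hZ : x ∈ Ns (V ⊓ W) := mem_Ns_inf hx.nV hx.nW
  have hk : g⁻¹ * (x * g * x⁻¹) ∈ LL V W :=
    mul_mem (inv_mem hg) (mem_normalizer_conj (Ns_le_Ns_LL hx.nV) hg)
  have h2 : g⁻¹ * (x * g * x⁻¹) ∈ Ns (V ⊔ W) := by
    refine h.hV.ln.mem_ns h.zd' hk (h.OZ_sup.ge (mem_normalizer_conj hZ hd)) (fun h3 => hd' ⟨hd.1, ?_⟩)
      (h.OZ_sup.ge ?_)
    · rw [conj_eq_comm_mul] at h3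
      exact (mul_mem_cancel_left (ZZ_le_Cs (h.triv_Z hx hd))).1 h3
    · have e : g⁻¹ * (x * g * x⁻¹) * (x * d * x⁻¹) * (g⁻¹ * (x * g * x⁻¹))⁻¹ =
          g⁻¹ * (⁅x, g * d * g⁻¹⁆ * g) * d := by
        rw [commutatorElement_def]; group
      rw [e, ← mem_Cs.1 (ZZ_le_Cs h1) g hg, inv_mul_cancel_left]
      exact mul_mem (ZZ_le h.ap.ab h1) hd
  have h3 : g⁻¹ * (x * g * x⁻¹) ∈ Ns (V ⊓ W) := mem_Ns_inf (h.L_ns hk) (h.ns_W hk h2).1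
  refine h.cent_UU hx.nV fun a ha => ?_
  obtain ⟨z, hz, z', hz', rfl⟩ := h.sum hg hn ha
  have h4 : g * z' * g⁻¹ ∈ V := mem_normalizer_conj (h.L_ns hg) hz'.1
  have h5 : ⁅x, g * z' * g⁻¹⁆ ∈ V := Par.comm_mem_N hx.nV h4
  refine comm_mem_symm (mul_mem (mem_CmMod.2 ⟨Ns_le_Ns_ZZ (le_normalizer hz.1),
    comm_mem_symm (h.triv_Z hx hz)⟩) (mem_CmMod.2 ⟨Ns_le_Ns_ZZ (le_normalizer h4),
      comm_mem_symm ⟨h5, h.hV.ln.Z_inf h.zd' hg hn ?_⟩⟩)).2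
  rw [h.OZ_sup]
  refine ⟨⟨h5, hx.cV _ h4⟩, mem_cj.2 ?_⟩
  have := mul_mem (mem_normalizer_conj h3 (mem_normalizer_conj hZ hz')) (inv_mem hz')
  convert this using 1
  rw [commutatorElement_def]; group

theorem Live.exists_cent (h : Live J V W) (hx : Triv V W x) :
    ∃ w ∈ UU W V, x * w ∈ Cs (UU V W) := by
  obtain ⟨g, hg, hn⟩ := h.opp
  obtain ⟨F, i, j, P, -⟩ := h.par
  obtain ⟨d, hd, hd'⟩ := P.exists_Z
  have hv : g * d * g⁻¹ ∈ V := mem_normalizer_conj (h.L_ns hg) hd.1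
  have hv' : g * d * g⁻¹ ∉ W := fun h1 => hn (h.hV.ln.mem_ns h.zd' hg (h.OZ_sup.ge hd)
    (fun h2 => hd' ⟨hd.1, h2⟩) (h.OZ_sup.ge ⟨hv, h1⟩))
  obtain ⟨b, hb, h1⟩ := P.exists_comm hv hv' ⟨Par.comm_mem_N hx.nV hv, hx.cV _ hv⟩
  obtain ⟨c, hc, w, hw, rfl⟩ := (Solv.mem_sup_of_le_normalizer'
    ((ZZ_le_A.trans le_normalizer).trans ns_le_UU)).1 (sup_comm (UU W V) _ ▸ h.symm.V_le hb)
  have hc' := ZZ_le h.symm.ap.ab hc
  have hw' := h.symm.UU_le hw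
  rw [comm_mul_right (h.commV hc'.2 hv) (h.symm.commV hc'.1 hw')] at h1
  refine ⟨w, hw, h.cent_of_fix (h.triv_mul hx (h.triv_of_mem (mem_sup_right hw'))) hg hn hd hd' ?_⟩
  have h2 := h.ap.ab.comm_mem hv hw'
  have e : ⁅x * w, g * d * g⁻¹⁆ = ⁅x, ⁅g * d * g⁻¹, w⁆⁻¹⁆ * (⁅g * d * g⁻¹, w⁆⁻¹ * ⁅x, g * d * g⁻¹⁆) := by
    generalize g * d * g⁻¹ = v
    simp only [commutatorElement_def]; group
  rw [e, inv_eq_of_sq (h.ap.sq h2.1)]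
  exact mul_mem (h.triv_Z hx h2) h1

theorem Live.exists_cent2 (h : Live J V W) (hx : Triv V W x) :
    ∃ w ∈ UU W V, ∃ v ∈ UU V W,
      x * w ∈ Cs (UU V W) ∧ x * v ∈ Cs (UU W V) ∧ x * w * v ∈ Cs (UU V W) ⊓ Cs (UU W V) := by
  obtain ⟨w, hw, h1⟩ := h.exists_cent hx
  obtain ⟨v, hv, h2⟩ := h.symm.exists_cent hx.symm
  refine ⟨w, hw, v, hv, h1, h2, mul_mem h1 (Cs_anti h.UU_le (h.ap.cs (h.UU_le hv))), ?_⟩
  rw [show x * w * v = x * v * (v⁻¹ * w * v) by group]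
  exact mul_mem h2 (Cs_anti h.symm.UU_le (h.symm.ap.cs
    (mem_normalizer_conj' (h.ap.ab.nB (h.UU_le hv)) (h.symm.UU_le hw))))

theorem Live.p1 (h : Live J V W) (h1 : b ∈ Ns V) (h2 : b ∈ Cs (UU V W)) (h3 : b ∈ Cs (UU W V)) :
    ∃ r ∈ ⁅V, W⁆, b * r ∈ Cs (EE V W) := by
  obtain ⟨g, hg, hn⟩ := h.opp
  have h4 : V ≤ CmMod b (ZZ V W) := h.V_le.trans (sup_le
    (fun u hu => ⟨Ns_le_Ns_ZZ (le_normalizer (h.UU_le hu)), by
      rw [commutatorElement_eq_one_iff_mul_comm.2 (mem_Cs.1 h2 u hu)]; exact one_mem _⟩)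
    fun c hc => ⟨le_normalizer hc, comm_mem_symm (Par.comm_mem_N (Ns_le_Ns_ZZ h1) hc)⟩)
  obtain ⟨z, hz, z', hz', e⟩ := h.sum hg hn
    (comm_mem_symm (h.comm_L h1 (fun a ha => comm_mem_symm (h4 ha).2) hg))
  have h5 : z * b ∈ Cs (EE V W) := by
    refine Cs_anti (h.EE_le2 hg hn) (mem_Cs_sup (mul_mem (Cs_anti h.symm.UU_le (h.symm.ap.cs hz.2)) h3) ?_)
    have h6 := conj_mem_Cs_cj h3 g
    rw [conj_eq_comm_mul, e, h.commV hz.1 (mem_normalizer_conj (h.L_ns hg) hz'.1), mul_assoc] at h6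
    exact (mul_mem_cancel_left (conj_mem_Cs_cj (Cs_anti h.symm.UU_le (h.symm.ap.cs hz'.2)) g)).1 h6
  obtain ⟨c, hc, r, hr, rfl⟩ := (Solv.mem_sup_of_le_normalizer'
    (ZZ_le_A.trans left_le_Ns_commutator)).1 (sup_comm ⁅V, W⁆ _ ▸ h.Z_le hz)
  refine ⟨r, hr, ?_⟩
  rw [mul_assoc, mem_Cs.1 h2 r (h.R_le hr).1.1] at h5
  exact (mul_mem_cancel_left (Cs_anti (Local.resOf_le _) (ZZ_le_Cs hc))).1 h5

theorem Live.sig (h : Live J V W) :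
    ∃ (Γ : Type) (_ : CommGroup Γ) (_ : IsCyclic Γ) (σ : (Ns V ⊓ Ns W : Subgroup G) →* Γ),
      (∀ x : (Ns V ⊓ Ns W : Subgroup G), (x : G) ∈ LL V W → σ x = 1) ∧
      (∀ x : (Ns V ⊓ Ns W : Subgroup G), σ x = 1 → (∃ m : ℕ, (x : G) ^ 2 ^ m = 1) →
        Triv V W x) ∧
      (W.relIndex V = 2 → ∀ x, σ x = 1) ∧
      ∀ x : (Ns V ⊓ Ns W : Subgroup G), (x : G) * x = 1 → σ x ≠ 1 →
        ∃ v ∈ UU V W, v ∉ W ∧ v ∈ C1 (x : G) := by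
  obtain ⟨F, i, j, ⟨θ, ψ, P⟩, -⟩ := h.par
  have hc := Known.isCyclic_ringAut (F := F)
  refine ⟨RingAut F, IsCyclic.commGroup, hc, P.sig, fun x hx => ?_, fun x hx ⟨m, hm⟩ => ?_,
    fun h2 x => ?_, fun x hx hσ => ?_⟩
  · exact P.sig_eq (P.act_L ⟨hx, x.2.2⟩)
  · obtain ⟨σ, f, g, H⟩ := P.exists_act x.2
    obtain rfl : σ = 1 := (P.sig_eq H).symm.trans hx
    obtain ⟨-, h1, h2⟩ := P.act_uniq (H.pow_one' (2 ^ m)) (P.act_S (hm ▸ one_mem _))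
    rw [P.pow_two_pow_inj m (h1.trans (one_pow _).symm),
      P.pow_two_pow_inj m (h2.trans (one_pow _).symm)] at H
    exact ⟨x.2.1, x.2.2, fun a ha => (P.comm_mem_B x.2.1 ha).2 ((H.al a ha).trans (one_mul _)),
      fun a ha => (P.comm_mem_A x.2.2 ha).2 ((H.be a ha).trans (one_mul _))⟩
  · refine RingEquiv.ext fun s => ?_
    have h3 := FiniteField.pow_card s
    rw [← P.hasPar.relIndex_A, h2] at h3
    have h4 : s * (s - 1) = 0 := by linear_combination h3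
    rcases mul_eq_zero.1 h4 with e | e
    · rw [e]; exact (map_zero _).trans (map_zero (1 : RingAut F)).symm
    · rw [sub_eq_zero.1 e]; exact (map_one _).trans (map_one (1 : RingAut F)).symm
  · obtain ⟨σ, f, g, H⟩ := P.exists_act x.2
    have h1 : ∃ a ∈ UU V W, ⁅(x : G), a⁆ ∉ W := by
      by_contra h2
      push Not at h2
      have h3 : V ≤ CmMod (x : G) W := h.V_le.trans (sup_le
        (fun u hu => ⟨h.ap.ab.nB (h.UU_le hu), comm_mem_symm (h2 u hu)⟩)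
        fun c hc => ⟨h.ap.ab.nB hc.1, comm_mem_symm (Par.comm_mem_N x.2.2 (ZZ_le h.ap.ab hc).2)⟩)
      exact hσ ((P.sig_eq H).trans (P.act_of_A H fun a ha => comm_mem_symm (h3 ha).2).1)
    obtain ⟨a, ha, h2⟩ := h1
    have h3 := Par.comm_mem_N (ns_le_UU x.2.1) ha
    refine ⟨_, h3, h2, mem_C1_symm.1 (mem_C1_conj.2 ?_)⟩
    conv_rhs => rw [← inv_eq_of_sq (h.ap.sq (h.UU_le h3))]
    calc _ = (x : G) * x * a * ((x : G) * x)⁻¹ * x * a⁻¹ * (x : G)⁻¹ := by rw [commutatorElement_def]; group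
      _ = _ := by rw [hx, commutatorElement_def]; group

theorem Live.fix (h : Live J V W) (h1 : x ∈ Ns V) (h2 : x ∈ Ns W) (hx : x * x = 1) :
    Triv V W x ∨ ((∃ v ∈ UU V W, v ∉ W ∧ v ∈ C1 x) ∧ ∃ w ∈ UU W V, w ∉ V ∧ w ∈ C1 x) := by
  have hm : ∃ m : ℕ, x ^ 2 ^ m = 1 := ⟨1, by rw [pow_one, pow_two, hx]⟩
  refine or_iff_not_imp_left.2 fun ht => ⟨?_, ?_⟩
  · obtain ⟨Γ, _, _, σ, -, k1, -, k2⟩ := h.sig
    exact k2 ⟨x, h1, h2⟩ hx fun e => ht (k1 _ e hm)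
  · obtain ⟨Γ, _, _, σ, -, k1, -, k2⟩ := h.symm.sig
    exact k2 ⟨x, h2, h1⟩ hx fun e => ht (k1 _ e hm).symm

end Cfsg.Lib.Bau
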