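import Cfsg.Agent.Bau.Od1

/-! A line against data, part 2. -/

set_option autoImplicit false
set_option linter.unusedSectionVars false

open scoped commutatorElement

namespace Cfsg.Lib.Bau

open Cfsg Subgroup Cfsg.Lib.Trans Cfsg.Lib.Trans.TJ Cfsg.Lib.Gold Cfsg.Lib.Gomi

universe u

variable {G : Type u} [Group G] [Finite G]
  {A A' B C E H J J' K L L' L₁ L₂ M P S S' T V V' W W' X α δ : Subgroup G}
  {a b c d e g k n r r' s t t' u u' v w x x' y y' z z' : G}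

namespace Od2

theorem u_mem : u ∈ Del u z := subset_closure (by simp)

theorem z_mem : z ∈ Del u z := subset_closure (by simp)

theorem cjQ (hk : k ∈ α) : cj k (QQ α) = QQ α := by rw [← QQ_cj, cj_eq_of_mem hk]

theorem cjV (hk : k ∈ α) : cj k (VV α) = VV α := by rw [← VV_cj, cj_eq_of_mem hk]

theorem ev_del (h : DS S r u z) (h' : DS S' r u' z') (h1 : Del u z ≤ S') (h2 : Del u' z' ≤ S)
    (e : orderOf z' = orderOf z) (h3 : Ev u' z' u) (hg : g ∈ Del u z) : Ev u' z' g := by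
  have h4 : Del u z ≤ S' ⊓ C1 r := le_inf h1 (h.le.trans inf_le_right)
  have h5 : Ev u' z' z := by_contra fun h5 => by
    have h6 := (h'.odd_iff (h4 z_mem)).1 h5
    have h7 := (h.pair1 h' h1 h2).1
    rw [inv_eq_of_sq h'.u2] at h7
    rw [← mul_assoc, ← mul_assoc, h7, ← mul_inv_rev, orderOf_inv, e, ← pow_two] at h6
    obtain ⟨n, hn⟩ := IsPGroup.iff_orderOf.1 h.pg ⟨z, h.zS⟩
    rw [orderOf_mk] at hn
    rcases n with _ | n
    · exact h.zz (by rw [orderOf_eq_one_iff.1 hn, one_mul])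
    · rw [orderOf_pow, hn, Nat.gcd_eq_right (dvd_pow_self 2 n.succ_ne_zero)] at h6
      have := Nat.pos_of_ne_zero (pow_ne_zero (n + 1) two_ne_zero)
      omega
  induction hg using closure_induction with
  | mem x hx => rcases hx with rfl | rfl <;> assumption
  | one => exact ev_of_comm (by rw [one_mul, mul_one]) h'.u2
  | mul a b ha hb ha' hb' => exact (h'.ev_mul (h4 ha) (h4 hb)).2 (iff_of_true ha' hb')
  | inv a ha ha' => exact (h'.ev_inv (h4 ha)).2 ha'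

theorem exists_g (h : DS S r u z) (hl : Ln B α) (hB : B ≤ S) (hr : r ∈ Cs α) (hQ : Del u z ≤ QQ α)
    (h1 : A ≤ B) (h2 : ¬ A ≤ QQ α) (h3 : A ≤ Cs (Del u z)) :
    ∃ g ∈ α, g ∉ Ns B ∧ Ev u z (g * u * g⁻¹) := by
  let ε : G → G → Prop := fun a b => Ev (a * u * a⁻¹) (a * z * a⁻¹) (b * u * b⁻¹)
  have d : ∀ k ∈ α, DS (cj k S) r (k * u * k⁻¹) (k * z * k⁻¹) := fun k hk => by
    simpa only [mem_Cs.1 hr k hk, mul_inv_cancel_right] using h.cj k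
  have q : ∀ k ∈ α, Del (k * u * k⁻¹) (k * z * k⁻¹) ≤ QQ α := fun k hk =>
    Del_cj k u z ▸ cjQ hk ▸ cj_mono k hQ
  have q' : ∀ k ∈ α, QQ α ≤ cj k S := fun k hk => cjQ hk ▸ cj_mono k (hl.Q_le.trans hB)
  have o : ∀ a b : G, orderOf (a * z * a⁻¹) = orderOf (b * z * b⁻¹) := fun a b =>
    ((MulAut.conj a).orderOf_eq z).trans ((MulAut.conj b).orderOf_eq z).symm
  have e1 : ∀ m a b, ε a b → ε (m * a) (m * b) := fun m a b e => by
    simpa only [ε, mul_assoc, mul_inv_rev] using ev_cj e m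
  have e2 : ∀ a ∈ α, ∀ b ∈ α, ε a b → ε b a := fun a ha b hb =>
    (d a ha).pair_symm (d b hb) ((q a ha).trans (q' b hb)) ((q b hb).trans (q' a ha)) (o a b)
  have e3 : ∀ m ∈ α, ∀ a ∈ α, ∀ b ∈ α, ε a b ↔ (ε m a ↔ ε m b) := fun m hm a ha b hb =>
    (d a ha).pair3 (d b hb) (d m hm) (le_inf (le_inf (q' a ha) (q' b hb)) (q' m hm)) (q a ha)
      (q b hb) (q m hm) (o a m) (o b m)
  let H : Subgroup G :=
    { carrier := {k | k ∈ α ∧ ε 1 k}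
      one_mem' := ⟨one_mem _, ev_of_comm rfl (d 1 (one_mem _)).u2⟩
      mul_mem' := fun {a b} ha hb => ⟨mul_mem ha.1 hb.1,
        (e3 a ha.1 1 (one_mem _) _ (mul_mem ha.1 hb.1)).2
          (iff_of_true (e2 _ (one_mem _) a ha.1 ha.2) (by simpa using e1 a _ _ hb.2))⟩
      inv_mem' := fun {a} ha => ⟨inv_mem ha.1, by
        simpa using e1 a⁻¹ _ _ (e2 _ (one_mem _) a ha.1 ha.2)⟩ }
  have h4 : ncl A α ≤ H := ncl_le_iff.2 fun k hk => cj_le_iff.2 fun a ha => by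
    have ha' := hl.le (h1 ha)
    have c : ∀ b ∈ A, ∀ k, ε 1 k → ε 1 (b * k) := fun b hb k e => by
      obtain ⟨c1, c2⟩ := mem_Cs_Del.1 (h3 hb)
      simpa [ε, mem_C1.1 c1, mem_C1.1 c2] using e1 b _ _ e
    refine ⟨mul_mem (mul_mem hk ha') (inv_mem hk), ?_⟩
    simpa [mul_assoc] using e1 k _ _ ((e3 1 (one_mem _) _ (inv_mem hk) _
      (mul_mem ha' (inv_mem hk))).2 ⟨c a ha _, fun e => by simpa using c _ (inv_mem ha) _ e⟩)
  obtain ⟨g, hg, hn⟩ := hl.exists_opp (H := H) (fun _ e => e.1)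
    ((hl.le_ncl h1 h2).trans (sup_le_sup_right h4 _))
  exact ⟨g, hg.1, hn, by simpa [ε] using hg.2⟩

end Od2

theorem od_g (ht : TC t S) (h : DZ S r u z) (h1 : JJ S ≤ B) (h2 : B ≤ BB S) (hl : Ln B α)
    (hA : Mx B A) (e : A ⊓ Cs (Del u z) ⊔ QQ α = B) :
    ∃ g ∈ α, g ∉ Ns B ∧ ∀ v ∈ Del u z, ∃ c ∈ OZ B,
      v * c ∈ Cs (A ⊓ Cs (Del u z) ⊔ cj g (A ⊓ Cs (Del u z))) := by
  obtain ⟨hp, -, hZ, hB, -⟩ := ht.pt h1 h2
  obtain ⟨b1, b2, b3⟩ := od_V h h1 h2 hl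
  have hr := od_r ht h h1 h2 hl
  have d := h.ds
  set A₀ := A ⊓ Cs (Del u z) with hA₀
  have a1 : A₀ ≤ B := le_sup_left.trans e.le
  have a2 : ¬ A₀ ≤ QQ α := fun k => hl.notJ hp (JJ_le.trans (e.ge.trans (sup_le k le_rfl)))
  obtain ⟨g, hg, hn, ev⟩ := Od2.exists_g d hl hB hr b3 a1 a2 inf_le_right
  have d' : DS (cj g S) r (g * u * g⁻¹) (g * z * g⁻¹) := by
    simpa only [mem_Cs.1 hr g hg, mul_inv_cancel_right] using d.cj g
  have q : Del (g * u * g⁻¹) (g * z * g⁻¹) ≤ QQ α := Del_cj g u z ▸ Od2.cjQ hg ▸ cj_mono g b3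
  have q1 : QQ α ≤ S := hl.Q_le.trans hB
  have q2 : QQ α ≤ cj g S := Od2.cjQ hg ▸ cj_mono g q1
  have o : orderOf (g * z * g⁻¹) = orderOf z := (MulAut.conj g).orderOf_eq z
  have VQ : VV α ≤ QQ α := fun v hv =>
    (hl.memQ (hl.V_le hv)).2 (le_Cs_of_sq (fun _ => VV_sq) le_rfl hv)
  have key : ∀ w ∈ zpowers z, ∃ c ∈ OZ B, u * w * c ∈ Cs (A₀ ⊔ cj g A₀) := fun w hw => by
    obtain ⟨d₁, e₁⟩ := d.shift hw
    have m₁ : u * w ∈ Del u z := e₁ ▸ Od2.u_mem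
    obtain ⟨_, hw', b, hb, -, eb⟩ := d'.even ⟨q2 (b3 m₁), (d.le m₁).2⟩ d₁.u2 (fun k => d'.zz (by
        have := (d'.pair1 d₁ (q.trans q1) (e₁ ▸ b3.trans q2)).1
        rw [mem_C1.1 (mem_Cs_Del.1 k).2, mul_inv_cancel_right] at this
        exact mul_eq_one_iff_eq_inv.2 this))
      (Od2.ev_del d d' (b3.trans q2) (q.trans q1) o
        (d.pair_symm d' (b3.trans q2) (q.trans q1) o.symm ev) m₁)
    rw [← cj_zpowers] at hw'
    obtain ⟨w', hw', rfl⟩ := hw'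
    obtain ⟨d₂, e₂⟩ := d.shift hw'
    have m₂ : u * w' ∈ Del u z := e₂ ▸ Od2.u_mem
    have c₁ : g * (u * w') * g⁻¹ ∈ C1 (u * w) := by
      have : g * (u * w') * g⁻¹ = g * u * g⁻¹ * MulAut.conj g w' := by simp [mul_assoc]
      rw [eb, MulEquiv.coe_toMonoidHom, ← this, mem_C1, ← mul_assoc, mem_Cs.1 hb.2 _
        (Del_cj g u z ▸ conj_mem_cj.2 m₂)]
    have m₃ := (d₂.two b1 (h1 (mem_OZ.1 d.r_OZ).1) (hl.Q_le (b3 m₂)) hA).2.2.2
    rw [e₂, ← hA₀] at m₃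
    have m₄ := mx_cj (hl.mx_Q.2 ⟨(hl.la m₃ fun k => a2 (le_sup_left.trans k)).2.1,
      sup_le inf_le_right VQ⟩) g
    have c₂ : ∀ x ∈ A₀, x ∈ QQ α → g * x * g⁻¹ ∈ C1 (u * w) := fun x hx hx' => by
      have : g * x * g⁻¹ ∈ QQ α := Od2.cjQ hg ▸ conj_mem_cj.2 hx'
      exact Cs_le_C1 m₁ (d.pair2 d' (b3.trans q2) (q.trans q1) ⟨q1 this, q2 this⟩
        (by rw [conj_mul, mx_sq hA hx.1, mul_one, mul_inv_cancel])
        (by rw [← Del_cj, ← cj_Cs]; exact conj_mem_cj.2 hx.2))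
    rw [Od2.cjQ hg] at m₄
    have m₅ := mx_mem m₄ (b3 m₁) (mem_Cs.2 fun x hx => mem_C1.1 (cj_le_iff_le_cj_inv.2
      (sup_le (fun x hx => ?_) (cj_le_iff_le_cj_inv.1
        ((Od2.cjV hg).le.trans (b2.trans (Cs_le_C1 m₁))))) hx)) d₁.u2
    · obtain ⟨a, ha, v, hv, ea⟩ := (Solv.mem_sup_of_le_normalizer' (inf_le_right.trans
        fun x hx => mem_Ns_iff.2 (Od2.cjV (hl.le (hl.Q_le hx))))).1 (mem_cj.1 m₅)
      have hv' : g * v * g⁻¹ ∈ VV α := Od2.cjV hg ▸ conj_mem_cj.2 hv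
      obtain ⟨c, hc, c', hc', ec⟩ := hl.sum hp.zd hg hn hv'
      obtain ⟨c3, c4, c5⟩ := mem_OZ.1 hc
      refine ⟨c, hc, le_Cs_comm.1 (sup_le (le_Cs_comm.1 ?_) (le_Cs_comm.1 ?_)) (mem_zpowers _)⟩
      · exact zpowers_le.2 (mul_mem (le_Cs_comm.1 inf_le_right m₁) (Cs_anti a1 c4))
      · have : u * w * c = g * a * g⁻¹ * c' := by
          have e3 : c' = c * (g * v * g⁻¹) := by rw [ec, ← mul_assoc, c5, one_mul]
          rw [e3, ← mem_Cs.1 c4 _ (hl.V_le hv'), ← mul_assoc, conj_mul, ea]; group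
        rw [this, zpowers_le, ← cj_Cs]
        obtain ⟨c'', k, rfl⟩ := hc'
        exact mul_mem (conj_mem_cj.2 (Cs_anti le_sup_left (mx_cs m₃ ha.1)))
          (conj_mem_cj.2 (Cs_anti a1 (mem_OZ.1 k).2.1))
    · rcases (mem_sup_zpowers d₂.u2 (Cs_le_Ns (le_Cs_comm.1 inf_le_right m₂))).1 hx.1 with k | k
      · exact mem_cj_inv.2 (c₂ x k hx.2)
      · have := mul_mem (c₂ _ k (mul_mem hx.2 (b3 m₂))) (inv_mem c₁)
        rw [← conj_mul, mul_inv_cancel_right] at this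
        exact mem_cj_inv.2 this
  refine ⟨g, hg, hn, fun v hv => ?_⟩
  obtain ⟨w, hw, rfl | rfl⟩ := d.mem_Del.1 hv
  · obtain ⟨c, hc, k⟩ := key 1 (one_mem _)
    obtain ⟨c', hc', k'⟩ := key v hw
    refine ⟨c * c', mul_mem hc hc', ?_⟩
    convert mul_mem k k' using 1
    rw [mul_one, mul_assoc u c, ← mul_assoc c, ← mem_Cs.1 (mem_OZ.1 hc).2.1 _
      (hl.Q_le (b3 (mul_mem Od2.u_mem hv))), mul_assoc u, mul_assoc u, ← mul_assoc u, d.u2, one_mul,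
      mul_assoc]
  · exact key w hw

theorem od (ht : TC t S) (h1 : JJ S ≤ B) (h2 : B ≤ BB S) (hl : Ln B α) (r : G) :
    α ≤ Ns (KS S r) := by
  by_cases h0 : KS S r = ⊥
  · rw [h0]; exact le_normalizer_of_normal
  obtain ⟨u, hu⟩ := exists_of_KS h0
  obtain ⟨z, h⟩ := dz ht hu
  obtain ⟨A, hA, e⟩ := od_A ht h h1 h2 hl
  obtain ⟨g, hg, hn, k⟩ := od_g ht h h1 h2 hl hA e
  obtain ⟨hp, -, hZ, hB, tZ⟩ := ht.pt h1 h2
  obtain ⟨b1, b2, b3⟩ := od_V h h1 h2 hl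
  have hr := od_r ht h h1 h2 hl
  have hU := od_U ht h h1 h2 hl
  set X := A ⊓ Cs (Del u z) ⊔ cj g (A ⊓ Cs (Del u z))
  have hX : X ≤ α := le_sup_left.trans (hl.sup_Q hp.zd hg hn e).le
  have dm : ∀ v, Da S r v → v ∈ Del u z := fun v hv => (h.of_da hv).2 ▸ Od2.u_mem
  have key : ∀ v, Da S r v → v ∈ Cs X := fun v hv => by
    obtain ⟨y, x, A', hd⟩ := id hv
    obtain ⟨c1, c2, c3⟩ := mem_Cs_E4.1 (hd.tr ht)
    have e1 : ⁅y, t⁆ = v * r := by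
      obtain ⟨f, rfl⟩ : ∃ f, t = f * r := ⟨t * r⁻¹, by simp⟩
      rw [mul_assoc, hd.r2, mul_one, mem_C1] at c1 c2 c3
      rw [commutatorElement_def, ← mul_assoc y, ← c3, mul_assoc f, mul_assoc f, hd.yr,
        mul_inv_eq_iff_eq_mul, c1, c2, mul_assoc, ← mul_assoc r, hd.r2, one_mul]
    have := hl.phi hp.zd (fun d => hl.noD2 hp.zd hg hn e) (inf_le_right.trans (Cs_anti hX)) ht.dd tZ
      (((commutator_mono le_rfl hl.le).trans hU).trans ((Cs_anti hd.le_KS).trans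
        fun _ k => (mem_Cs_E4.1 k).2.2)) (e1 ▸ k _ (mul_mem (dm v hv)
          (zpowers_le.2 Od2.z_mem h.ds.r_mem)))
    exact (mul_mem_cancel_right (Cs_anti hX hr)).1 (e1 ▸ this)
  refine (hl.sup_Q hp.zd hg hn e).ge.trans (sup_le (fun y' hy => mem_ns_KS fun v y x A' hd => ?_)
    fun q hq => ns_KS (le_normalizer (b1 (hl.Q_le hq)).1) (b1 (hl.Q_le hq)).2)
  obtain ⟨d1, d2⟩ := hd.ux
  have m := dm _ d1
  have m1 := h.ds.le m
  have n1 := hd.ns_of (mem_C1.1 m1.2) d2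
  have rF : r ∈ Four r v := subset_closure (by simp)
  have UV : ⁅VV α, α⁆ ≤ VV α := commutator_le_left_of_le fun k hk => mem_Ns_iff.2 (Od2.cjV hk)
  refine n2 (Ua := Four r v) (Ub := ⁅VV α, α⁆) (C₀ := VV α ⊓ Cs α ⊓ Cs (E4 r v y))
    (U := zpowers (x * v * x⁻¹)) ht ((hl.Z_le.trans (sup_le ((commutator_mono le_rfl hl.le).trans
      (le_sup_right.trans le_sup_left)) fun c hc => ?_)) tZ) hd.res
    (hd.le_ncl m1.1 (mem_C1.1 m1.2) d2) (zpowers_le.2 m1.1) (zpowers_le.2 (mem_Ns_sup (mem_Ns_sup n1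
      (Cs_le_Ns (le_Cs_comm.1 (UV.trans b2) m)))
      (Cs_le_Ns (le_Cs_comm.1 (inf_le_left.trans (inf_le_left.trans b2)) m))))
    (zpowers_le.2 (hd.ns (le_normalizer m1.1) n1)) hd.le_ns_four
    (le_Cs_comm.1 (hU.trans (Cs_anti hd.le_KS))) (le_Cs_comm.1 inf_le_right)
    (mem_Cs_Four.2 ⟨mem_C1.2 (mem_Cs.1 hr _ (hX hy)), mem_C1.2 (mem_Cs.1 (key v ⟨_, _, _, hd⟩) _ hy)⟩)
    (right_le_Ns_commutator (hX hy)) (le_Cs_comm.1 (inf_le_left.trans inf_le_right) (hX hy))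
    (Cs_zpowers (x * v * x⁻¹) ▸ mem_C1.2 (mem_Cs.1 (key _ d1) _ hy))
    (((inf_le_inf_left _ (Cs_anti (le_sup_left.trans le_sup_left))).trans le_normalizer).trans hd.d4)
  obtain ⟨h', e'⟩ := h.of_da ⟨_, _, _, hd⟩
  rcases h'.ds.dec hd ⟨hB (hl.V_le hc.1), e' ▸ b2 hc.1⟩ with k | k
  · exact mem_sup_right ⟨hc, k⟩
  · have rV : r ∈ VV α := (hl.OZ_eq.le (hZ ▸ h.ds.r_OZ)).1
    simpa using mul_mem (mem_sup_right (S := Four r v ⊔ ⁅VV α, α⁆)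
      (mem_inf.2 ⟨mul_mem hc (mem_inf.2 ⟨rV, hr⟩), k⟩)) (mem_sup_left (mem_sup_left (inv_mem rF)))

end Cfsg.Lib.Bau
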