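import Cfsg.Agent.Bau.Ol1
import Cfsg.Agent.Bau.Prod

set_option autoImplicit false
set_option linter.unusedSectionVars false

open scoped commutatorElement

namespace Cfsg.Lib.Bau

open Cfsg Subgroup Cfsg.Lib.Trans Cfsg.Lib.Trans.TJ Cfsg.Lib.Gold Cfsg.Lib.Gomi

universe u

variable {G : Type u} [Group G] [Finite G]
  {A A' B C E H J J' K L L' L₁ L₂ M P S S' T V V' W W' X α δ : Subgroup G}
  {a b c d e g k n r r' s t t' u u' v w x x' y y' z z' : G}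

namespace Ol2

theorem cs_sup (h1 : x ∈ Cs A) (h2 : x ∈ Cs A') : x ∈ Cs (A ⊔ A') :=
  (le_Cs_comm.2 (sup_le (le_Cs_comm.1 inf_le_left) (le_Cs_comm.1 inf_le_right)) :
    Cs A ⊓ Cs A' ≤ Cs (A ⊔ A')) ⟨h1, h2⟩

theorem comm_mem (h1 : s ∈ Ns V) (h2 : v ∈ V) : ⁅s, v⁆ ∈ V := by
  rw [commutatorElement_def]
  exact mul_mem (mem_normalizer_conj h1 h2) (inv_mem h2)

theorem JB (hJ : JJ B = J) : J ≤ B := hJ ▸ JJ_le

theorem Z_eq (h : Live J V W) (hJ : JJ B = J) (hp : Pt B) : OZ B = V ⊓ W := by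
  rw [h.ap.inf, ← hJ, hp.OZ_J]

theorem OZ_cs : OZ B ≤ Cs B := fun _ h => (mem_OZ.1 h).2.1

theorem nleQ (hp : Pt B) (hl : Ln B α) (e : X ⊔ QQ α = B) : ¬ X ≤ QQ α := fun n =>
  hl.notJ hp (JJ_le.trans (e.ge.trans (sup_le n le_rfl)))

theorem mx3 (hJ : JJ B = J) (hl : Ln B α) (hA : Mx J A) (hn : ¬ A ≤ QQ α) :
    Mx B (A ⊓ QQ α ⊔ VV α) := (hl.la (mx_J.1 (hJ ▸ hA)) hn).2.1

theorem sub (h : Live J V W) (hJ : JJ B = J) (hl : Ln B α) (hc : VV α ≤ Cs V ⊓ Cs W) :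
    AP (JJ (QQ α)) (V ⊔ OZ (JJ (QQ α))) (W ⊔ OZ (JJ (QQ α))) ∧ OZ (JJ (QQ α)) ≤ Cs V ⊓ Cs W :=
  h.ap.sub JJ_JJ (fun A => by rw [mx_J, hl.mx_Q, ← hJ, mx_J])
    (fun _ hv => (hl.memQ (JB hJ (h.ap.lV hv))).2 (le_Cs_comm.1 (hc.trans inf_le_left) hv))
    fun _ hv => (hl.memQ (JB hJ (h.ap.lW hv))).2 (le_Cs_comm.1 (hc.trans inf_le_right) hv)

theorem nsJ (α : Subgroup G) : α ≤ Ns (JJ (QQ α)) := (Local.le_normalizer_pCoreOf α).trans ns_le_JJ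

theorem perm (h : Live J V W) (hJ : JJ B = J) (hp : Pt B) (hl : Ln B α) (hc : VV α ≤ Cs V ⊓ Cs W)
    (hg : g ∈ α) :
    (cj g (V ⊔ OZ (JJ (QQ α))) = V ⊔ OZ (JJ (QQ α)) ∧ cj g (W ⊔ OZ (JJ (QQ α))) = W ⊔ OZ (JJ (QQ α))) ∨
    (cj g (V ⊔ OZ (JJ (QQ α))) = W ⊔ OZ (JJ (QQ α)) ∧ cj g (W ⊔ OZ (JJ (QQ α))) = V ⊔ OZ (JJ (QQ α))) := by
  have h0 := (sub h hJ hl hc).1
  have h1 := h0.cj_ns (nsJ α hg)
  rcases ap1 h0 h1 with e | e | e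
  · exact Or.inl e
  · exact Or.inr e
  have k : ∀ {U U' : Subgroup G}, AP (JJ (QQ α)) U U' → U ≤ Cs V ⊓ Cs W → U ≤ YY J V := fun a b => by
    obtain ⟨A, hA, le⟩ := a.exists_mx
    refine le_trans (le_inf (le_inf le (b.trans inf_le_left)) (b.trans inf_le_right)) (h.ap.inf_le_YY ?_)
    rw [← hJ, mx_J]
    exact (hl.mx_Q.1 (mx_J.1 hA)).1
  have e' := e.trans (inf_le_inf (Cs_anti le_sup_left) (Cs_anti le_sup_left))
  refine absurd ?_ h.R_not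
  rw [← cj_eq_of_mem_centralizer (le_Cs_comm.1 (ol_R h hJ hp hl hc) hg), cj_commutator]
  exact commutator_le.2 fun a ha b hb => h.cm (k h1 (le_sup_left.trans e') (cj_mono g le_sup_left ha))
    (k h1.symm (le_sup_right.trans e') (cj_mono g le_sup_left hb))

theorem half (hp : Pt B) (hl : Ln B α) (hA : Mx B A) (h3 : Mx B (A ⊓ QQ α ⊔ VV α))
    (hc : VV α ≤ T) (hT : T ≤ Cs V) (hZ : OZ (JJ (QQ α)) ≤ T) (hX : X ≤ A ⊓ T) (hX' : A ⊓ T ≤ X)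
    (hg : g ∈ α) (hn : g ∉ Ns B) (h1 : g ∈ Ns (V ⊔ OZ (JJ (QQ α)))) (hv : v ∈ V) :
    ∃ z ∈ OZ B, v * z ∈ Cs (X ⊔ cj g X) := by
  have hB : X ≤ B := hX.trans (inf_le_left.trans ((mx_le_J hA).trans JJ_le))
  have hV : V ≤ Cs X := le_Cs_comm.1 (hX.trans (inf_le_right.trans hT))
  obtain ⟨v₁, hv₁, z₀, hz₀, e⟩ := (Solv.mem_sup_of_le_normalizer (hZ.trans (hT.trans Cs_le_Ns))).1
    (mem_normalizer_conj' h1 (mem_sup_left hv))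
  obtain ⟨a, ha, v', hv', rfl⟩ := (Solv.mem_sup_of_le_normalizer' (inf_le_right.trans
    ((PU.Q_le_cent α).trans Cs_le_Ns))).1 (mem_OZ_J.1 hz₀ _ (hl.mx_Q.2 ⟨h3, sup_le inf_le_right (PU.vv_le α)⟩))
  have ha' : a ∈ X := hX' ⟨ha.1, (mul_mem_cancel_right (hc hv')).1 (hZ hz₀)⟩
  have hv2 := mem_normalizer_conj (PU.le_norm_vv α hg) hv'
  obtain ⟨z, hz, z', hz', e'⟩ := hl.sum hp.zd hg hn hv2
  refine ⟨z, hz, cs_sup (mul_mem (hV hv) (Cs_anti hB (OZ_cs hz))) ?_⟩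
  have e1 : z' * z = z * z' := by
    have := mem_Cs.1 (OZ_cs hz) _ (hl.V_le hv2)
    rw [e', mul_assoc] at this
    exact mul_left_cancel this
  have e2 : g⁻¹ * (v * z) * g = v₁ * a * (g⁻¹ * z' * g) := by
    calc g⁻¹ * (v * z) * g = g⁻¹ * v * g * (g⁻¹ * z * g) := by group
      _ = v₁ * a * (g⁻¹ * (g * v' * g⁻¹ * z) * g) := by rw [← e]; group
      _ = _ := by rw [e', mul_assoc z, e1, ← mul_assoc z, (mem_OZ.1 hz).2.2, one_mul]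
  rw [← cj_Cs, mem_cj, e2]
  exact mul_mem (mul_mem (hV hv₁) (Cs_anti (hX.trans inf_le_left) (mx_cs hA ha.1)))
    (Cs_anti hB (OZ_cs (mem_cj.1 hz')))

theorem LL_ns (h : Live J V W) : LL V W ≤ Ns V := ncl_le h.ap.ab.nA

end Ol2

open Ol2

theorem ol_g (h : Live J V W) (hJ : JJ B = J) (hp : Pt B) (hl : Ln B α)
    (hc : VV α ≤ Cs V ⊓ Cs W) (hA : Mx J A) (e : A ⊓ Cs V ⊓ Cs W ⊔ QQ α = B) :
    ∃ g ∈ α, g ∉ Ns B ∧ ∀ v ∈ V ⊔ W, ∃ z ∈ OZ B,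
      v * z ∈ Cs (A ⊓ Cs V ⊓ Cs W ⊔ cj g (A ⊓ Cs V ⊓ Cs W)) := by
  have hn := nleQ hp hl e
  have hB : A ⊓ Cs V ⊓ Cs W ≤ B := le_sup_left.trans e.le
  have h3 := mx3 hJ hl hA fun n => hn (inf_le_left.trans (inf_le_left.trans n))
  have hZ := (sub h hJ hl hc).2
  have n0 : A ⊓ Cs V ⊓ Cs W ≤ Ns (OZ (JJ (QQ α))) := hB.trans (hl.le.trans ((nsJ α).trans ns_le_OZ))
  have n1 := le_Ns_sup ((inf_le_left.trans inf_le_right).trans Cs_le_Ns) n0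
  have n2 := le_Ns_sup (inf_le_right.trans Cs_le_Ns) n0
  obtain ⟨g, hg, hg'⟩ := hl.exists_opp (ncl_le (hB.trans hl.le)) (hl.le_ncl hB hn)
  have hα := ncl_le (hB.trans hl.le) hg
  have n3 : ncl (A ⊓ Cs V ⊓ Cs W) α ≤ Ns (V ⊔ OZ (JJ (QQ α))) ⊓ Ns (W ⊔ OZ (JJ (QQ α))) :=
    ncl_le_iff.2 fun k hk => by
      rw [cj_le_iff_le_cj_inv, cj_inf, cj_normalizer, cj_normalizer]
      rcases perm h hJ hp hl hc (inv_mem hk) with ⟨a, b⟩ | ⟨a, b⟩ <;> rw [a, b]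
      · exact le_inf n1 n2
      · exact le_inf n2 n1
  refine ⟨g, hα, hg', fun v hv => ?_⟩
  obtain ⟨a, ha, b, hb, rfl⟩ := h.ap.ab.mem_sup.1 hv
  obtain ⟨z, hz, e1⟩ := half hp hl (mx_J.1 (hJ ▸ hA)) h3 hc inf_le_left hZ (inf_assoc _ _ _).le
    (inf_assoc _ _ _).ge hα hg' (n3 hg).1 ha
  obtain ⟨z', hz', e2⟩ := half hp hl (mx_J.1 (hJ ▸ hA)) h3 hc inf_le_right hZ (inf_assoc _ _ _).le
    (inf_assoc _ _ _).ge hα hg' (n3 hg).2 hb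
  refine ⟨z * z', mul_mem hz hz', ?_⟩
  rw [mul_assoc, ← mul_assoc b, mem_Cs.1 (OZ_cs hz) b (JB hJ (h.ap.lW hb)), mul_assoc, ← mul_assoc a]
  exact mul_mem e1 e2

theorem ol_U (h : Live J V W) (hJ : JJ B = J) (hp : Pt B) (hl : Ln B α)
    (hc : VV α ≤ Cs V ⊓ Cs W) : ⁅VV α, α⁆ ≤ Cs (LL V W) := by
  obtain ⟨A, hA, e⟩ := ol_A h hJ hp hl hc
  have hn := nleQ hp hl e
  have h3 := mx3 hJ hl hA fun n => hn (inf_le_left.trans (inf_le_left.trans n))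
  have hY : VV α ≤ YY J V := (le_inf (le_inf le_sup_right (hc.trans inf_le_left))
    (hc.trans inf_le_right)).trans (h.ap.inf_le_YY (hJ ▸ mx_J.2 h3))
  obtain ⟨g, hg, hg'⟩ := hl.exists_opp le_rfl le_sup_left
  obtain ⟨d, hd, dd, hd'⟩ := hp.zd
  have hz : d ∈ OZ B := mem_OZ.2 ⟨hd, mem_Cs.2 fun u hu => mem_C1.1 (hd' hu), dd.choose_spec.sq⟩
  refine hl.U_le hp.zd hg hg' hz (hl.noD dd) e ?_ fun s hs => ?_
  · rw [hl.R_eq e]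
    exact commutator_le.2 fun a ha b hb => h.cm (hY ha) (h.ap.inf_le_YY hA hb)
  · have hs' : s ∈ α := cj_le_of_mem_of_le hg ((le_sup_left.trans e.le).trans hl.le) hs
    have h1 := comm_mem (PU.le_norm_vv α hs') ((hl.OZ_eq ▸ hz : d ∈ VV α ⊓ Cs B).1)
    refine h.hV.ln.phi h.zd' (fun _ => h.noD) inf_le_right dd (by rwa [h.OZ_sup, ← Z_eq h hJ hp]) ?_ ?_
    · rw [h.hV.vv, h.R_eq]
      exact (ol_R h hJ hp hl hc).trans (Cs_le_C1 hs')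
    · rw [h.OZ_sup]
      exact h.cz (hY h1) (hc h1).2

namespace Ol2

theorem U_cent (ht : TC t S) (htB : t ∈ B) (hB : B ≤ S) (h : Live J V W) (hJ : JJ B = J)
    (hp : Pt B) (hl : Ln B α) (hc : VV α ≤ Cs V ⊓ Cs W) (hX : X ≤ α) (hD : ∀ d, DD d → d ∉ Cs X)
    (hg : ∀ v ∈ V, ∃ z ∈ OZ B, v * z ∈ Cs X) : UU V W ≤ Cs X := by
  obtain ⟨k, hk, hk'⟩ := h.hV.ln.exists_opp le_rfl le_sup_left
  have hz := ht.mem_OZ hB htB
  have hz' : t ∈ V ⊓ W := Z_eq h hJ hp ▸ hz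
  have := h.hV.ln.U_le (A := W) (K := Cs X) h.zd' hk hk' (h.OZ_sup ▸ hz') (h.noD ht.dd)
    (by rw [h.hV.qq, sup_comm]) (by
      rw [h.hV.vv, h.R_eq]
      exact (ol_R h hJ hp hl hc).trans (Cs_anti hX)) fun s hs => by
    have hs' : s ∈ LL V W := cj_le_of_mem_of_le hk le_ncl' hs
    exact hl.phi hp.zd hD (inf_le_right.trans (Cs_anti hX)) ht.dd hz
      ((commutator_mono le_rfl hl.le).trans ((ol_U h hJ hp hl hc).trans (Cs_le_C1 hs')))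
      (hg _ (comm_mem (LL_ns h hs') hz'.1))
  rwa [h.hV.vv] at this

theorem ns_EE (ht : TC t S) (htB : t ∈ B) (hB : B ≤ S) (h : Live J V W) (hJ : JJ B = J)
    (hp : Pt B) (hl : Ln B α) (hc : VV α ≤ Cs V ⊓ Cs W) (hy : y ∈ α) (h1 : y ∈ Cs (UU V W))
    (h2 : y ∈ Cs (UU W V)) : y ∈ Ns (EE V W) := by
  have hE : EE V W ≤ LL V W := Local.resOf_le _
  have hZ := Z_eq h hJ hp
  have hα : α ≤ Ns ⁅VV α, α⁆ := le_Ns_commutator (PU.le_norm_vv α) le_normalizer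
  have hz : ZZ V W ≤ V ⊓ W := fun c hc => ⟨hc.1, h.ap.mem_of_cs hc.1 (Cs_anti le_ncl' hc.2)⟩
  have hV : V ≤ UU V W ⊔ ⁅VV α, α⁆ ⊔ V ⊓ W ⊓ Cs (LL V W) ⊓ Cs α := by
    refine h.V_le.trans (sup_le (le_sup_left.trans le_sup_left) (hz.trans (hZ.ge.trans
      (hl.Z_le.trans (sup_le ((commutator_mono le_rfl hl.le).trans (le_sup_right.trans le_sup_left))
        fun c hc' => ?_)))))
    obtain ⟨r, hr, c', h', rfl⟩ := (Solv.mem_sup_of_le_normalizer ((hz.trans inf_le_left).trans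
      (h.ap.cs.trans ((Cs_anti (h.R_le.trans (inf_le_right.trans inf_le_left))).trans Cs_le_Ns)))).1
      (h.Z_le (hZ.le (hl.C_le hc')))
    exact mul_mem (mem_sup_left (mem_sup_left (h.R_le hr).1.1)) (mem_sup_right ⟨⟨hz h', h'.2⟩,
      (mul_mem_cancel_left (ol_R h hJ hp hl hc hr)).1 hc'.2⟩)
  have hU := h.symm.UU_le
  have hW := h.ap.lW.trans (JB hJ)
  exact n2 ht (hV (hZ ▸ ht.mem_OZ hB htB : t ∈ V ⊓ W).1) O2_O2 h.EE_le_ncl (hU.trans (hW.trans hB))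
    (hU.trans (le_Ns_sup (le_Ns_sup (h.ap.ab.nA.trans ns_le_UU) (hW.trans (hl.le.trans hα)))
      (h.ap.symm.cs.trans ((Cs_anti (inf_le_left.trans (inf_le_left.trans inf_le_right))).trans Cs_le_Ns))))
    (hU.trans (h.ap.ab.nA.trans ns_le_EE)) (hE.trans ((LL_ns h).trans ns_le_UU))
    (hE.trans (le_Cs_comm.1 (ol_U h hJ hp hl hc)))
    (hE.trans (le_Cs_comm.1 (inf_le_left.trans inf_le_right))) h1 (hα hy)
    (le_Cs_comm.1 inf_le_right hy) h2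
    (inf_le_right.trans ((Cs_anti hV).trans (Cs_le_Ns.trans ns_le_EE)))

end Ol2

theorem olb (ht : TC t S) (htB : t ∈ B) (hB : B ≤ S) (h : Live J V W) (hJ : JJ B = J)
    (hp : Pt B) (hl : Ln B α) (hc : VV α ≤ Cs V ⊓ Cs W) : α ≤ Ns (EE V W ⊔ EE W V) := by
  obtain ⟨A, hA, e⟩ := ol_A h hJ hp hl hc
  obtain ⟨g, hg, hn, hv⟩ := ol_g h hJ hp hl hc hA e
  have hc' : VV α ≤ Cs W ⊓ Cs V := hc.trans (inf_comm _ _).le
  have h0 := (le_sup_left.trans e.le).trans hl.le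
  have hX := sup_le h0 (cj_le_of_mem_of_le hg h0)
  have u1 := U_cent ht htB hB h hJ hp hl hc hX (fun _ => hl.noD2 hp.zd hg hn e)
    fun v a => hv v (mem_sup_left a)
  have u2 := U_cent ht htB hB h.symm hJ hp hl hc' hX (fun _ => hl.noD2 hp.zd hg hn e)
    fun v a => hv v (mem_sup_right a)
  refine (hl.sup_Q hp.zd hg hn e).ge.trans (sup_le (fun y hy => mem_Ns_sup
    (ns_EE ht htB hB h hJ hp hl hc (hX hy) (le_Cs_comm.1 u1 hy) (le_Cs_comm.1 u2 hy))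
    (ns_EE ht htB hB h.symm hJ hp hl hc' (hX hy) (le_Cs_comm.1 u2 hy) (le_Cs_comm.1 u1 hy)))
    (hl.Q_le.trans fun b hb => ?_))
  rcases h.pair (hJ ▸ ns_le_JJ (le_normalizer hb)) (Z_eq h hJ hp ▸ le_Cs_comm.1 OZ_cs hb) with
    ⟨a, c⟩ | ⟨a, c⟩
  · exact mem_Ns_sup (ns_le_EE a) (ns_le_EE c)
  · rw [mem_Ns_iff, cj_sup, ← EE_cj, ← EE_cj, a, c, sup_comm]

end Cfsg.Lib.Bau
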