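import Cfsg.Agent.Bau.Basic

/-! A transfer lemma for simple groups. -/

set_option autoImplicit false
set_option linter.unusedSectionVars false

open scoped commutatorElement

namespace Cfsg.Lib.Bau

open Cfsg Subgroup Cfsg.Lib.Trans Cfsg.Lib.Trans.TJ Cfsg.Lib.Gold Cfsg.Lib.Gomi

universe u

variable {G : Type u} [Group G] [Finite G]
  {A A' B C E H J J' K L L' L₁ L₂ M P S S' T V V' W W' X α δ : Subgroup G}
  {a b c d e g k n r r' s t t' u u' v w x x' y y' z z' : G}

theorem res_top (hs : IsSimpleGroup G) (hna : ¬ IsMulCommutative G) : pResidual 2 G = ⊤ := by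
  refine pResidual_eq_top_iff.2 fun N hN ⟨k, hk⟩ => hN.eq_bot_or_eq_top.resolve_left fun e => ?_
  rw [e, index_bot] at hk
  have := (IsPGroup.of_card hk).center_nontrivial
  rcases (inferInstance : (center G).Normal).eq_bot_or_eq_top with e | e
  · exact not_nontrivial_iff_subsingleton.2 (by rw [e]; infer_instance) this
  · exact hna ⟨⟨fun a b => mem_center_iff.1 (e ▸ mem_top b) a⟩⟩

theorem transfer_eq (hs : IsSimpleGroup G) (hna : ¬ IsMulCommutative G) (hS : IsSylowIn 2 S ⊤)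
    (hH : H ≤ S) (hloc : ∀ U ≤ S, S ⊓ Cs U ≤ U → ∀ n ∈ Ns U, Odd (orderOf n) → ∀ x ∈ U,
      x⁻¹ * (n * x * n⁻¹) ∈ ⁅S, S⁆ ⊔ H) : H = S := by
  obtain ⟨P, rfl⟩ := hS.exists_sylow_eq
  refine eq_of_le_comm_sup hS.isPGroup hH (le_trans (le_inf (by rw [res_top hs hna]; exact le_top)
    le_rfl) (pResidual_inf_le_of_fusion P fun x hx g hg => ?_))
  refine fusion_rel hS (fun x y => x⁻¹ * y ∈ ⁅(P : Subgroup G), (P : Subgroup G)⁆ ⊔ H)
    (fun x y z h1 h2 => by simpa [mul_assoc] using mul_mem h1 h2) (fun s hs x hx => ?_)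
    (fun U hU _ hc n hn ho _ => hloc U hU hc n hn (odd_iff_coprime.2 ho)) hx hg
  have := commutator_mem_commutator (inv_mem hx) hs
  rw [commutatorElement_def, inv_inv] at this
  simpa only [mul_assoc] using mem_sup_left this

end Cfsg.Lib.Bau
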