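import Cfsg.Agent.Bau.Xd2
import Cfsg.Agent.Bau.Ed
import Cfsg.Agent.Bau.Tr

/-! The end game for data: transfer and identification. -/

set_option autoImplicit false
set_option linter.unusedSectionVars false

open scoped commutatorElement

namespace Cfsg.Lib.Bau

open Cfsg Subgroup Cfsg.Lib.Trans Cfsg.Lib.Trans.TJ Cfsg.Lib.Gold Cfsg.Lib.Gomi

universe u

variable {G : Type u} [Group G] [Finite G]
  {A A' B C E H J J' K L L' L₁ L₂ M P S S' T V V' W W' X α δ : Subgroup G}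
  {a b c d e g k n r r' s t t' u u' v w x x' y y' z z' : G}

theorem Xd3.conj_mem (hs : s ∈ S) (hx : x ∈ S) : x⁻¹ * (s * x * s⁻¹) ∈ ⁅S, S⁆ := by
  have := commutator_mem_commutator (inv_mem hx) hs
  rw [commutatorElement_def, inv_inv] at this
  simpa only [mul_assoc] using this

theorem XD.mem_cap (h : XD t S u z) (hs : s ∈ S) : s ∈ S ⊓ C1 t := ⟨hs, h.tc.le hs⟩

theorem XD.t_Del (h : XD t S u z) : t ∈ Del u z :=
  h.dz.ds.mem_Del.2 ⟨t, h.dz.ds.r_mem, Or.inl rfl⟩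

theorem XD.loc_da (h : XD t S u z) (hd : Da S t d) (h1 : n * t * n⁻¹ = d)
    (h2 : n * d * n⁻¹ = t * d) (hx : x ∈ S) (h3 : x ∈ C1 d) :
    x⁻¹ * (n * x * n⁻¹) ∈ ⁅S, S⁆ ⊔ Del u z := by
  obtain ⟨w₀, hw₀, e₀⟩ := (h.dz.da d).1 hd
  obtain ⟨y, x₀, A, hD⟩ := hd
  have hF : Four t d ≤ Del u z := (closure_le _).2 (by
    rintro _ (rfl | rfl)
    exacts [h.t_Del, h.dz.ds.mem_Del.2 ⟨w₀, hw₀, Or.inr e₀⟩])
  obtain ⟨s, rfl⟩ : ∃ s, n = y * s := ⟨y⁻¹ * n, by group⟩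
  have st : s ∈ C1 t := mem_C1.2 (mul_inv_eq_iff_eq_mul.1 (conj_injective (x := y)
    (show y * _ * y⁻¹ = y * _ * y⁻¹ by rw [hD.yr, ← h1]; group)))
  have sd : s ∈ C1 d := mem_C1.2 (mul_inv_eq_iff_eq_mul.1 (conj_injective (x := y)
    (show y * _ * y⁻¹ = y * _ * y⁻¹ by rw [hD.yu, ← h2]; group)))
  have sS := h.cent st
  obtain ⟨w, hw, f, hf, e⟩ := hD.dec (s := s * x * s⁻¹) (mem_inf.2 ⟨mul_mem (mul_mem sS hx) (inv_mem sS),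
    mem_Cs_Four.2 ⟨mul_mem (mul_mem st (h.tc.le hx)) (inv_mem st),
      mul_mem (mul_mem sd h3) (inv_mem sd)⟩⟩)
  have fy : f * y = y * f := mem_C1.1 (mem_Cs_E4.1 hf.2).2.2
  have e1 : x⁻¹ * (y * s * x * (y * s)⁻¹) =
      x⁻¹ * (s * x * s⁻¹) * (f⁻¹ * (w⁻¹ * (y * w * y⁻¹)) * f) := by
    calc x⁻¹ * (y * s * x * (y * s)⁻¹)
        = x⁻¹ * (s * x * s⁻¹) * ((s * x * s⁻¹)⁻¹ * (y * (s * x * s⁻¹) * y⁻¹)) := by group
      _ = x⁻¹ * (s * x * s⁻¹) * (f⁻¹ * (w⁻¹ * (y * w * y⁻¹)) * (y * f) * y⁻¹) := by rw [e]; group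
      _ = _ := by rw [← fy]; group
  rw [e1]
  refine mul_mem (mem_sup_left (Xd3.conj_mem sS hx)) (mem_sup_right (mem_normalizer_conj'
    (h.dz.ds.ns (h.mem_cap hf.1)) (hF (mul_mem (inv_mem hw) (mem_normalizer_conj
      (hD.le_ns_four (subset_closure (by simp))) hw)))))

theorem XD.sq_odd (h : XD t S u z) (hd : DD d) (dS : d ∈ S) (ho : ¬ Ev u z d)
    (hs : s ∈ S ⊓ C1 d) : s * s = 1 := by
  rcases h.cen hd dS ho hs with k | k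
  · exact h.sq ⟨hs.1, k⟩
  · have e := h.sq ⟨mul_mem hs.1 dS, k⟩
    obtain ⟨_, hd⟩ := hd
    rwa [mul_assoc, ← mul_assoc d, ← mem_C1.1 hs.2, mul_assoc, hd.sq, mul_one] at e

theorem XD.loc_odd (h : XD t S u z) (h1 : n * t * n⁻¹ = d) (dS : d ∈ S) (ho : ¬ Ev u z d)
    (hn : n ∈ Ns (S ⊓ C1 d)) (h0 : n ∉ S) (hx : x ∈ S ⊓ C1 d) :
    x⁻¹ * (n * x * n⁻¹) ∈ ⁅S, S⁆ ⊔ (Del u z ⊔ zpowers d) := by
  have hd : DD d := h1 ▸ h.tc.dd.cj n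
  have td : t * d = d * t := (mem_C1.1 (h.tc.le dS)).symm
  have tW : t ∈ S ⊓ C1 d := ⟨h.tc.mem, mem_C1.2 td⟩
  obtain ⟨τ, hτ, e⟩ := h.dz.ds.tau
  have τD : τ ∈ Del u z := h.dz.ds.mem_Del.2 ⟨τ, hτ, Or.inl rfl⟩
  have τS := (h.dz.ds.le τD).1
  have k1 : ∀ x ∈ S ⊓ C1 d, x ∉ Cs (Del u z) → τ * x * τ⁻¹ = t * x := fun x hx k =>
    h.tau hx.1 (h.sq_odd hd dS ho hx) k hτ e
  have k2 : ∀ x ∈ S ⊓ C1 d, τ * x * τ⁻¹ = x ∨ τ * x * τ⁻¹ = t * x := fun x hx =>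
    (em _).imp (fun k : x ∈ Cs (Del u z) => by rw [k τ τD]; group) (k1 x hx)
  have τN : τ ∈ Ns (S ⊓ C1 d) := mem_normalizer_of_cj_le (cj_le_iff.2 fun x hx => by
    rcases k2 x hx with k | k <;> rw [k]
    exacts [hx, mul_mem tW hx])
  have e1 := k1 _ (mem_normalizer_conj' hn tW) fun k => h0 (h.cent (mem_C1.2 (by
    have := h.eq_of_Y (by simpa using h.tc.dd.cj n⁻¹) ⟨(mem_normalizer_conj' hn tW).1, k⟩
    rw [mul_assoc, inv_mul_eq_iff_eq_mul] at this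
    exact this.symm)))
  have e2 := k1 d ⟨dS, mem_C1.2 rfl⟩ fun k => h0 (h.cent (mem_C1.2
    (mul_inv_eq_iff_eq_mul.1 (h1.trans (h.eq_of_Y hd ⟨dS, k⟩)))))
  have e3 : τ * t * τ⁻¹ = t := by rw [← e]; group
  obtain ⟨s, hs⟩ : ∃ s, s = (τ * (n * τ * n⁻¹))⁻¹ * n := ⟨_, rfl⟩
  have sS : s ∈ S := h.cent (mem_C1.2 (mul_inv_eq_iff_eq_mul.1 (by
    have e4 : τ * (n * τ * n⁻¹) * t * (τ * (n * τ * n⁻¹))⁻¹ = d := by
      calc _ = τ * (n * (τ * (n⁻¹ * t * n) * τ⁻¹) * n⁻¹) * τ⁻¹ := by group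
        _ = τ * (n * t * n⁻¹) * τ⁻¹ * (τ * t * τ⁻¹) := by rw [e1]; group
        _ = d := by rw [h1, e2, e3, td, mul_assoc, h.tc.sq, mul_one]
    calc s * t * s⁻¹ = (τ * (n * τ * n⁻¹))⁻¹ * (n * t * n⁻¹) * (τ * (n * τ * n⁻¹)) := by
          rw [hs]; group
      _ = t := by rw [h1, ← e4]; group)))
  have sN : s ∈ Ns (S ⊓ C1 d) := hs ▸ mul_mem (inv_mem (mul_mem τN
    (mul_mem (mul_mem hn τN) (inv_mem hn)))) hn
  have hx₁ := mem_normalizer_conj sN hx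
  have hx₂ := mem_normalizer_conj (mul_mem (mul_mem hn τN) (inv_mem hn)) hx₁
  have e5 : x⁻¹ * (n * x * n⁻¹) = x⁻¹ * (s * x * s⁻¹) *
      ((s * x * s⁻¹)⁻¹ * (n * τ * n⁻¹ * (s * x * s⁻¹) * (n * τ * n⁻¹)⁻¹)) *
      ((n * τ * n⁻¹ * (s * x * s⁻¹) * (n * τ * n⁻¹)⁻¹)⁻¹ *
        (τ * (n * τ * n⁻¹ * (s * x * s⁻¹) * (n * τ * n⁻¹)⁻¹) * τ⁻¹)) := by
    rw [hs]; group
  rw [e5]
  refine mul_mem (mul_mem (mem_sup_left (Xd3.conj_mem sS hx.1)) (mem_sup_right (mem_sup_right ?_)))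
    (mem_sup_left (Xd3.conj_mem τS hx₂.1))
  generalize s * x * s⁻¹ = v at hx₁
  have e6 : v⁻¹ * (n * τ * n⁻¹ * v * (n * τ * n⁻¹)⁻¹) =
      v⁻¹ * (n * (τ * (n⁻¹ * v * n) * τ⁻¹) * n⁻¹) := by group
  rw [e6]
  rcases k2 _ (mem_normalizer_conj' hn hx₁) with k | k <;> rw [k]
  · rw [show v⁻¹ * (n * (n⁻¹ * v * n) * n⁻¹) = 1 by group]; exact one_mem _
  · rw [show v⁻¹ * (n * (t * (n⁻¹ * v * n)) * n⁻¹) = v⁻¹ * (n * t * n⁻¹ * v) by group, h1,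
      ← mem_C1.1 hx₁.2, inv_mul_cancel_left]
    exact mem_zpowers d

theorem XD.loc {U : Subgroup G} (h : XD t S u z) (hU : U ≤ S) (hc : S ⊓ Cs U ≤ U)
    (hn : n ∈ Ns U) (ho : Odd (orderOf n)) (hx : x ∈ U) :
    x⁻¹ * (n * x * n⁻¹) ∈ ⁅S, S⁆ ⊔ Del u z ∨
      ∃ e, Gd t S u z e ∧ x⁻¹ * (n * x * n⁻¹) ∈ ⁅S, S⁆ ⊔ (Del u z ⊔ zpowers e) := by
  by_cases h0 : n ∈ S
  · exact Or.inl (mem_sup_left (Xd3.conj_mem h0 (hU hx)))
  have tC : t ∈ Cs U := fun s hs => mem_C1.1 (h.tc.le (hU hs))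
  have dC := mem_normalizer_conj (mem_Ns_Cs hn) tC
  have dU := mem_normalizer_conj hn (hc ⟨h.tc.mem, tC⟩)
  have hd := h.tc.cj n
  have dt : n * t * n⁻¹ ≠ t := fun e => h0 (h.cent (mem_C1.2 (mul_inv_eq_iff_eq_mul.1 e)))
  obtain ⟨d, e⟩ : ∃ d, n * t * n⁻¹ = d := ⟨_, rfl⟩
  rw [e] at dC dU hd dt
  rcases (h.tri hd.dd (hU dU)).resolve_left dt with k | k
  · have d2 := mem_normalizer_conj hn dU
    refine Or.inl (h.loc_da k e ?_ (hU hx) (mem_C1.2 (dC x hx)))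
    rcases h.tri (hd.dd.cj n) (hU d2) with k' | k' | k'
    · refine (h0 (Local.mem_of_pow_mem_of_coprime (k := 1) (odd_iff_coprime.1 ho)
        (h.cent (mem_C1.2 (mul_inv_eq_iff_eq_mul.1 ?_))))).elim
      rw [pow_one, pow_two]
      exact Eq.trans (by rw [← e]; group) k'
    · exact (bc h.tc k k' (dC _ d2).symm).resolve_left fun k' =>
        dt (conj_injective (x := n) (k'.trans e.symm))
    · obtain ⟨w, hw, e'⟩ := (h.dz.da d).1 k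
      exact (k' ((h.dz.ds.ev_shift hw (h.mem_cap (hU d2))).1
        (e' ▸ ev_of_comm (dC _ d2) hd.sq))).elim
  · have h1 : U ≤ S ⊓ C1 d := fun s hs => ⟨hU hs, mem_C1.2 (dC s hs)⟩
    obtain rfl : U = S ⊓ C1 d := le_antisymm h1 (le_trans (le_inf inf_le_left
      (le_Cs_of_sq (fun _ => h.sq_odd hd.dd (hU dU) k) h1)) hc)
    exact Or.inr ⟨d, ⟨hU dU, k, n, hn, e⟩, h.loc_odd e (hU dU) k hn h0 hx⟩

theorem XD.conj_Del (h : XD t S u z) (hs : s ∈ Del u z) (h2 : s * s = 1) (h1 : s ≠ 1) :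
    IsConj t s := by
  obtain ⟨w, hw, rfl | e⟩ := h.dz.ds.mem_Del.1 hs
  · rw [(h.dz.ds.sq hw h2).resolve_left h1]
  · obtain ⟨y, _, _, hD⟩ := (h.dz.da s).2 ⟨w, hw, e⟩
    exact isConj_iff.2 ⟨y, hD.yr⟩

theorem XD.lst (h : XD t S u z) : Lst G := by
  have hD : Del u z ≤ S := h.dz.ds.le.trans inf_le_left
  refine ed h.simple h.nonab h.tc h.cent fun s hs h2 h1 => ?_
  by_cases c : ∃ e, Gd t S u z e
  · obtain ⟨e, he⟩ := c
    obtain ⟨n, -, hn⟩ := he.fus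
    have e2 : e * e = 1 := hn ▸ (h.tc.cj n).sq
    rw [← transfer_eq h.simple h.nonab h.tc.syl (sup_le hD (zpowers_le.2 he.mem))
      fun U hU hc n hn ho x hx => (h.loc hU hc hn ho hx).elim
        (fun k => SetLike.le_def.1 (sup_le_sup_left le_sup_left _) k) fun ⟨e', he', k⟩ =>
          SetLike.le_def.1 (sup_le_sup_left
            (sup_le le_sup_left (zpowers_le.2 (h.uniq_gd he he'))) _) k] at hs
    rcases (mem_sup_zpowers e2 (h.dz.ds.ns (h.mem_cap he.mem))).1 hs with k | k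
    · exact h.conj_Del k h2 h1
    obtain ⟨w, hw, k⟩ := h.dz.ds.mem_Del.1 k
    rcases k with k | k
    · obtain ⟨g, -, hg⟩ := h.orb he.mem e2 he.odd hw
      rw [← k, mul_assoc s, e2, mul_one] at hg
      exact (isConj_iff.2 ⟨n, hn⟩).trans (isConj_iff.2 ⟨g, hg⟩)
    · have u2 := (h.dz.ds.shift hw).1.u2
      refine (he.odd ((h.dz.ds.ev_shift hw (h.mem_cap he.mem)).1 (ev_of_comm ?_ u2))).elim
      rw [← k] at u2 ⊢
      have e3 : e * s = s * e := by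
        rw [← inv_eq_of_sq u2, mul_inv_rev, inv_eq_of_sq e2, inv_eq_of_sq h2]
      rw [← mul_assoc, e3]
  · rw [← transfer_eq h.simple h.nonab h.tc.syl hD fun U hU hc n hn ho x hx =>
      (h.loc hU hc hn ho hx).resolve_right fun ⟨e, he, _⟩ => c ⟨e, he⟩] at hs
    exact h.conj_Del hs h2 h1

end Cfsg.Lib.Bau
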