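import Cfsg.Agent.Bau.Basic

/-! The almost simple situation: the odd part of the centraliser of a Sylow subgroup. -/

set_option autoImplicit false
set_option linter.unusedSectionVars false

open scoped commutatorElement

namespace Cfsg.Lib.Bau

open Cfsg Subgroup Cfsg.Lib.Trans Cfsg.Lib.Trans.TJ Cfsg.Lib.Gold Cfsg.Lib.Gomi

universe u

variable {G : Type u} [Group G] [Finite G]
  {A A' B C E H J J' K L L' L₁ L₂ M P S S' T V V' W W' X α δ : Subgroup G}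
  {a b c d e g k n r r' s t t' u u' v w x x' y y' z z' : G}

theorem Ctx.bot_or (h : Ctx K t S) (N : Subgroup G) [N.Normal] : N = ⊥ ∨ K ≤ N := by
  have := h.normal
  have := h.simple
  rcases (inferInstance : (N.subgroupOf K).Normal).eq_bot_or_eq_top with e | e
  · refine Or.inl (eq_bot_iff.2 (h.cent ▸ fun x hx k hk => ?_))
    exact (commute_of_normal_of_disjoint N K inferInstance inferInstance
      (subgroupOf_eq_bot.1 e) x k hx hk).eq.symm
  · exact Or.inr (subgroupOf_eq_top.1 e)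

theorem Ctx.ns_ne_top (h : Ctx K t S) (hX : IsPGroup 2 X) (h1 : X ≠ ⊥) : Ns X ≠ ⊤ := fun e => by
  have := normalizer_eq_top_iff.1 e
  have := h.simple
  have hK := hX.to_le ((h.bot_or X).resolve_left h1)
  have := hK.center_nontrivial
  rcases (inferInstance : (center K).Normal).eq_bot_or_eq_top with e | e
  · exact not_nontrivial_iff_subsingleton.2 (by rw [e]; infer_instance) this
  · exact h.nonab ⟨⟨fun a b => mem_center_iff.1 (e ▸ mem_top b) a⟩⟩

theorem Ctx.le_of_res (h : Ctx K t S) (hE : O2 E = E) : E ≤ K :=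
  have := h.normal
  res_le_of hE (h.sup ▸ le_top) (h.tc.pg.to_le (zpowers_le.2 h.tc.mem)) le_normalizer_of_normal

theorem Ctx.eq_top (h : Ctx K t S) (ht : t ∈ K) : K = ⊤ :=
  (sup_eq_left.2 (zpowers_le.2 ht)).symm.trans h.sup

theorem Ctx.simple_top (h : Ctx K t S) (e : K = ⊤) : IsSimpleGroup G ∧ ¬ IsMulCommutative G := by
  subst e
  have := h.simple
  exact ⟨topEquiv.symm.isSimpleGroup, fun hc => h.nonab inferInstance⟩

theorem Theta.ab (hP : IsPGroup 2 P) (hn : (orderOf n).Coprime 2) (hS : IsPGroup 2 S)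
    (h1 : n ∈ Cs P) (h2 : P ≤ Ns S) (h3 : n ∈ Ns S) (h4 : n ∈ Cs (S ⊓ Cs P)) : n ∈ Cs S :=
  Cfsg.Agent.S0028.result 2 P (zpowers n) S hP (by rwa [Nat.card_zpowers]) hS
    (le_Cs_comm.1 (zpowers_le.2 h1)) h2 (zpowers_le.2 h3) (le_Cs_comm.1 (zpowers_le.2 h4))
    (mem_zpowers n)

theorem Theta.le (h : TC d S) (h' : TC e S') (hc : d * e = e * d) : O2 (Cs S') ≤ O2 (Cs S) := by
  refine Local.resOf_le_iff.2 fun n hn ho => Local.mem_resOf ?_ ho
  refine Theta.ab (P := zpowers e) (h'.pg.to_le (zpowers_le.2 h'.mem)) ho h.pg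
    (Cs_anti (zpowers_le.2 h'.mem) hn) (zpowers_le.2 (h.nm (mem_C1.2 hc.symm)))
    (h.nm (Cs_le_C1 (h'.mem_of_sq h.sq (mem_C1.2 hc)) hn)) (Cs_anti ?_ hn)
  exact h'.le_of (h.pg.to_le inf_le_left) (inf_le_right.trans (Cs_zpowers e).le)

theorem Ctx.theta (h : Ctx K t S) : HC S ∨ Cs S ≤ S := by
  by_cases h0 : O2 (Cs S) = ⊥
  · exact Or.inr (h.tc.le_of (Local.resOf_eq_bot_iff.1 h0) (Cs_le_C1 h.tc.mem))
  refine Or.inl ⟨Ns (O2 (Cs S)), fun e => ?_, (le_Ns_Cs le_rfl).trans ns_le_O2,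
    fun e he ⟨S', h'⟩ => ?_⟩
  · have := normalizer_eq_top_iff.1 e
    have h1 := ((h.bot_or _).resolve_left h0).trans ((Local.resOf_le _).trans (Cs_le_C1 h.tc.mem))
    exact h.tc.ne (mem_bot.1 (h.cent ▸ fun k hk => mem_C1.1 (h1 hk)))
  · have hc : e * t = t * e := mem_C1.1 (h.tc.le he)
    rw [le_antisymm (Theta.le h' h.tc hc) (Theta.le h.tc h' hc.symm)]
    exact h'.nm.trans ((le_Ns_Cs le_rfl).trans ns_le_O2)

theorem TC.th (h : TC t S) (hθ : Cs S ≤ S) (h' : TC d S') : Cs S' ≤ S' := by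
  obtain ⟨g, rfl⟩ := h'.exists_cj h
  rw [← cj_Cs]
  exact cj_mono g hθ

theorem TC.charP (h : TC t S) (hθ : Cs S ≤ S) (hC : IsPGroup 2 C) (hz : ZD C) :
    Local.CharP 2 (Ns C) := by
  obtain ⟨d, hd, ⟨S', h'⟩, hc⟩ := hz
  refine Local.charP_of_isPGroup_inf (Local.resOf_eq_bot_iff.1 (eq_bot_iff.2
    (Local.resOf_le_iff.2 fun n hn ho => ?_)))
  have h1 : n ∈ Cs C := Cs_anti (Local.le_pCoreOf le_normalizer le_rfl hC) hn.2
  have h2 : n ∈ Cs (S' ⊓ Cs C) := Cs_anti (Local.le_pCoreOf (inf_le_right.trans Cs_le_Ns)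
    (h'.ns_inf hd) (h'.pg.to_le inf_le_left)) hn.2
  obtain ⟨k, hk⟩ := h'.pg ⟨n, h.th hθ h' (Theta.ab hC ho h'.pg h1 (hc.trans h'.nm)
    (h'.nm (Cs_le_C1 hd h1)) h2)⟩
  exact Local.mem_of_pow_mem_of_coprime ho (k := k) (mem_bot.2 (congrArg Subtype.val hk))

end Cfsg.Lib.Bau
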