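import Cfsg.Agent.Bau.Am5
import Cfsg.Agent.Bau.Lk3
import Cfsg.Agent.Bau.Theta
import Cfsg.Agent.GCT.Ex

/-! A maximal admissible pair gives a live pair. -/

set_option autoImplicit false
set_option linter.unusedSectionVars false

open scoped commutatorElement

namespace Cfsg.Lib.Bau

open Cfsg Subgroup Cfsg.Lib.Trans Cfsg.Lib.Trans.TJ Cfsg.Lib.Gold Cfsg.Lib.Gomi

universe u

variable {G : Type u} [Group G] [Finite G]
  {A A' B C E H J J' K L L' L₁ L₂ M P S S' T V V' W W' X α δ : Subgroup G}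
  {a b c d e g k n r r' s t t' u u' v w x x' y y' z z' : G}

/-- An admissible pair. -/
structure Adm (M C P : Subgroup G) : Prop where
  pg : IsPGroup 2 P
  le : P ≤ M
  cp : C ≤ P
  nm : P ≤ Ns C
  zd : ZD C
  nle : ¬ Ns C ≤ M

/-- An admissible pair that is maximal. -/
structure AdmMx (M C P : Subgroup G) : Prop where
  adm : Adm M C P
  mJ : ∀ {C' P' : Subgroup G}, Adm M C' P' → JJ P ≤ P' → JJ P' = JJ P ∧ Nat.card P' ≤ Nat.card P

theorem not_cj_le (hg : g ∈ M) (h : ¬ L ≤ M) : ¬ cj g L ≤ M := fun c =>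
  h ((cj_inv_cj g _).ge.trans (cj_le_of_mem_of_le (inv_mem hg) c))

theorem Adm.cj (h : Adm M C P) (hg : g ∈ M) : Adm M (cj g C) (cj g P) :=
  ⟨h.pg.map _, cj_le_of_mem_of_le hg h.le, cj_mono g h.cp,
    (cj_mono g h.nm).trans (cj_normalizer g C).le, h.zd.cj g,
    fun c => not_cj_le hg h.nle ((cj_normalizer g C).le.trans c)⟩

theorem exists_admMx (hS : IsSylowIn 2 S M) (h : Adm M C P) : ∃ C P, P ≤ S ∧ AdmMx M C P := by
  choose m hm using fun X : Subgroup G => exists_maxEA 2 X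
  let f : Subgroup G → ℕ ×ₗ ℕ ×ₗ ℕ := fun X =>
    toLex (Nat.card (m X), toLex (Nat.card (JJ X), Nat.card X))
  obtain ⟨P, ⟨C, h⟩, mx⟩ := Set.exists_max_image {P | ∃ C, Adm M C P} f (Set.toFinite _) ⟨P, C, h⟩
  obtain ⟨g, hg, e⟩ := hS.exists_cj_le h.pg h.le
  have e1 : f (cj g P) = f P := by
    simp only [f, JJ_cj, card_cj, (hm _).card_eq (mx_cj (hm P) g)]
  refine ⟨_, _, e, h.cj hg, fun {C' P'} h' k => ?_⟩
  have k1 := e1 ▸ mx P' ⟨C', h'⟩
  generalize cj g P = P at k k1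
  have k2 := (hm P').card_le ((mx_le_J (hm P)).trans k) (hm P).ea
  obtain ⟨k3, k4⟩ := (Prod.Lex.toLex_le_toLex.1 k1).resolve_left k2.not_gt
  have k5 : JJ P ≤ JJ P' := JJ_le_of fun A hA => mx_le_J ((hm P').of_card_le
    ((mx_le_J hA).trans k) hA.ea (k3.trans ((hm P).card_eq hA)).le)
  obtain ⟨k6, k7⟩ := (Prod.Lex.toLex_le_toLex.1 k4).resolve_left
    (Subgroup.card_le_of_le k5).not_gt
  exact ⟨(eq_of_le_of_card_ge k5 k6.le).symm, k7⟩

theorem AdmMx.not_lt {C' P' : Subgroup G} (h : AdmMx M C P) (h' : Adm M C' P') : ¬ P < P' :=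
  fun k => (Trans.card_lt_of_lt k).not_ge (h.mJ h' (JJ_le.trans k.le)).2

theorem mx (ht : TC t S) (hθ : Cs S ≤ S) (h1 : Ns (JJ S) ≤ M) (h2 : ∀ L, Ln (BB S) L → L ≤ M)
    (he : e ∈ S) (hd : DD e) (h3 : ¬ C1 e ≤ M) :
    ∃ J V W, Live J V W ∧ J ≤ S ∧ ¬ LL V W ≤ M ∧ HM S J V W := by
  have hN : Ns S ≤ M := ns_le_JJ.trans h1
  have hS : S ≤ M := le_normalizer.trans hN
  have adm : ∀ {C P : Subgroup G}, P ≤ S → C ≤ P → P ≤ Ns C → t ∈ C → ¬ Ns C ≤ M → Adm M C P :=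
    fun a b c d e => ⟨ht.pg.to_le a, a.trans hS, b, c, ht.zd (b.trans a) d, e⟩
  have he' : zpowers e ≤ S := zpowers_le.2 he
  obtain ⟨C, P, hP, mx⟩ := exists_admMx (ht.syl.mono hS le_top)
    ⟨ht.pg.to_le he', he'.trans hS, le_rfl, le_normalizer,
      ⟨e, mem_zpowers e, hd, zpowers_le.2 (mem_C1.2 rfl)⟩,
      fun c => h3 ((Cs_zpowers e).ge.trans (Cs_le_Ns.trans c))⟩
  have a := mx.adm
  have tP : t ∈ P := by_contra fun k => by
    have k1 : P ⊔ zpowers t ≤ S := sup_le hP (zpowers_le.2 ht.mem)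
    exact mx.not_lt ⟨ht.pg.to_le k1, k1.trans hS, a.cp.trans le_sup_left, sup_le a.nm
      (zpowers_le.2 (Cs_le_Ns fun c hc => mem_C1.1 (ht.le (hP (a.cp hc))))), a.zd, a.nle⟩
      (left_lt_sup.2 fun c => k (c (mem_zpowers t)))
  obtain ⟨pt, tJ⟩ := ht.pt_BB hP tP
  have JS : JJ P ≤ S := JJ_le.trans hP
  have nJ : Ns (JJ P) ≤ M := by_contra fun k => by
    rcases hP.eq_or_lt with rfl | l
    · exact k h1
    · exact mx.not_lt (adm inf_le_left (le_inf JS le_normalizer) inf_le_right tJ k)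
        ((lt_inf_normalizer ht.pg l).trans_le (inf_le_inf_left _ ns_le_JJ))
  have syl : IsSylowIn 2 P (Ns C) := isSylowIn_of_maximal a.nm a.pg fun Q q1 q2 q3 =>
    by_contra fun q4 => by
      have := lt_inf_normalizer q1 (lt_of_le_not_ge q2 q4)
      exact mx.not_lt ⟨q1.to_le inf_le_left, inf_le_right.trans (ns_le_JJ.trans nJ),
        a.cp.trans this.le, inf_le_left.trans q3, a.zd, a.nle⟩ this
  have nB : Ns (BB P) ≤ M := ns_BB_le.trans nJ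
  obtain ⟨L, -, l1, l2, l3⟩ := GCT.exists_r1 (ht.charP hθ (a.pg.to_le a.cp) a.zd) syl
    (fun g hg => hN (ht.nm (mem_C1.2 (hg t (ht.mem_OZ hP tP)).symm))) nB a.nle
  have JB : JJ P ≤ BB P := JJ_BB.ge.trans JJ_le
  have BP : BB P ≤ P := fun _ h => (mem_BB.1 h).1
  have tV : ∀ {L : Subgroup G}, Ln (BB P) L → t ∈ VV L := fun h =>
    (h.OZ_eq.le (ht.mem_OZ (BP.trans hP) (JB tJ))).1
  have inv : ∀ n ∈ Ns (BB P), ∀ L ∈ {L | Ln (BB P) L ∧ ¬ L ≤ M},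
      cj n L ∈ {L | Ln (BB P) L ∧ ¬ L ≤ M} := fun n hn L hL =>
    ⟨cj_eq_of_mem_normalizer hn ▸ hL.1.cj n, not_cj_le (nB hn) hL.2⟩
  rcases am5 pt (fun _ h => h.1) inv with ⟨L₁, ⟨a1, b1⟩, L₂, ⟨a2, b2⟩, hl⟩ | k
  · have wc : ∀ {L : Subgroup G}, Ln (BB P) L → ¬ L ≤ M → WC (JJ (BB P)) (VV L) :=
      fun {L} a b Q q1 q2 q3 => by
        have v := a.V_le_J
        rw [JJ_BB] at q2 v ⊢
        exact jn q1 q2 (mx.mJ ⟨q1.to_le inf_le_left, inf_le_right.trans nJ,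
          v.trans (le_inf q2 le_normalizer), inf_le_left.trans q3, ht.zd (v.trans JS) (tV a),
          fun c => b ((PU.le_norm_vv L).trans c)⟩ (le_inf q2 le_normalizer)).1
    obtain ⟨lv, k⟩ := lk2 a1 a2 pt hl (wc a1 b1) (wc a2 b2)
    rw [JJ_BB] at lv
    have k1 : ¬ LL (VV L₁) (VV L₂) ≤ M := fun c => b1 (k.trans (sup_le c (le_normalizer.trans nB)))
    exact ⟨_, _, _, lv, JS, k1, fun C' P' c1 c2 c3 c4 c5 c6 => (mx.mJ (adm (c4.trans inf_le_left)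
      (c2.trans c3) c5 (c1 (tV a1)) fun c => k1 (c6.trans c)) c3).1⟩
  · have hL : L ∈ {L | Ln (BB P) L ∧ ¬ L ≤ M} := ⟨⟨l2, l3⟩, l1⟩
    rcases hP.eq_or_lt with rfl | l
    · exact absurd (h2 L hL.1) l1
    refine absurd ((lt_inf_normalizer ht.pg l).trans_le (inf_le_inf_left _
      (normalizer_le_bau (n := 2) P)))
      (mx.not_lt (adm inf_le_left ?_ ?_ ?_ fun c => l1 ((k L hL).trans c)))
    · exact iSup₂_le fun L' h => h.1.V_le.trans (le_inf (BP.trans hP) le_normalizer)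
    · rw [← sSup_image]
      refine fun n hn => ns_sSup ?_
      rintro _ ⟨L', h, rfl⟩
      exact le_sSup ⟨_, inv n hn.2 L' h, VV_cj n L'⟩
    · exact le_iSup₂_of_le (f := fun L' (_ : L' ∈ {L | Ln (BB P) L ∧ ¬ L ≤ M}) => VV L') L hL
        le_rfl (tV hL.1)

end Cfsg.Lib.Bau
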