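import Cfsg.Agent.Bau.Dz
import Cfsg.Agent.Bau.Line2

set_option autoImplicit false
set_option linter.unusedSectionVars false

open scoped commutatorElement

namespace Cfsg.Lib.Bau

open Cfsg Subgroup Cfsg.Lib.Trans Cfsg.Lib.Trans.TJ Cfsg.Lib.Gold Cfsg.Lib.Gomi

universe u

variable {G : Type u} [Group G] [Finite G]
  {A A' B C E H J J' K L L' L₁ L₂ M P S S' T V V' W W' X α δ : Subgroup G}
  {a b c d e g k n r r' s t t' u u' v w x x' y y' z z' : G}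

theorem od_rJ (h : DZ S r u z) : r ∈ JJ S := (mem_OZ.1 h.ds.r_OZ).1

theorem od_u (u z : G) : u ∈ Del u z := subset_closure (by simp)

theorem od_V (h : DZ S r u z) (h1 : JJ S ≤ B) (h2 : B ≤ BB S) (hl : Ln B α) :
    B ≤ S ⊓ C1 r ∧ VV α ≤ Cs (Del u z) ∧ Del u z ≤ QQ α := by
  have hB : B ≤ S ⊓ C1 r := fun b hb =>
    ⟨(mem_BB.1 (h2 hb)).1, Cs_le_C1 h.ds.r_OZ (mem_BB.1 (h2 hb)).2⟩
  have hN : B ≤ Ns (VV α) := hl.le.trans (PU.le_norm_vv α)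
  obtain ⟨y, x, A, hd⟩ := h.da_self
  have hx := h1 (h.ds.x_mem hd)
  have hV : VV α ≤ Cs (Del u z) := h.ds.five (hl.V_le.trans hB) (fun _ => VV_sq)
    (h.ds.le_J.trans (h1.trans hN)) (hB hx) (hN hx) hd.xu
  exact ⟨hB, hV, fun s hs => (hl.memQ (h1 (h.ds.le_J hs))).2 (le_Cs_comm.1 hV hs)⟩

theorem od_ex (hl : Ln B α) (hp : Pt B) : ∃ A, Mx B A ∧ ¬ A ≤ QQ α := by
  by_contra hc
  push Not at hc
  exact hl.notJ hp (JJ_le_of hc)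

theorem od_A (ht : TC t S) (h : DZ S r u z) (h1 : JJ S ≤ B) (h2 : B ≤ BB S) (hl : Ln B α) :
    ∃ A, Mx B A ∧ A ⊓ Cs (Del u z) ⊔ QQ α = B := by
  obtain ⟨hB, hV, hQ⟩ := od_V h h1 h2 hl
  obtain ⟨A, hA, hAQ⟩ := od_ex hl (ht.pt h1 h2).1
  have hr := h1 (od_rJ h)
  have hu := h1 (h.ds.le_J (od_u u z))
  obtain ⟨-, -, i2, hA'⟩ := h.ds.two hB hr hu hA
  refine ⟨A, hA, ?_⟩
  by_cases h0 : A ⊓ Cs (Del u z) ≤ QQ α
  · refine absurd (sup_le (fun a ha => ?_) hV) (h.ds.two hB hr hu (hl.la hA hAQ).2.1).1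
    by_contra hc
    refine hAQ fun b hb => ?_
    by_cases hb' : b ∈ Cs (Del u z)
    · exact h0 ⟨hb, hb'⟩
    · have : (⟨a, ha.1⟩ * ⟨b, hb⟩ : A) ∈ (Cs (Del u z)).subgroupOf A :=
        (mul_mem_iff_of_index_two i2).2 (iff_of_false hc hb')
      exact ((QQ α).mul_mem_cancel_left ha.2).1 (h0 ⟨A.mul_mem ha.1 hb, this⟩)
  · have e := (hl.la hA' fun hc => h0 (le_sup_left.trans hc)).1
    rwa [sup_assoc, sup_eq_right.2 (zpowers_le.2 (hQ (od_u u z)))] at e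

theorem od_r (ht : TC t S) (h : DZ S r u z) (h1 : JJ S ≤ B) (h2 : B ≤ BB S) (hl : Ln B α) :
    r ∈ Cs α := by
  obtain ⟨hB, hV, hQ⟩ := od_V h h1 h2 hl
  obtain ⟨hp, -, hZ, -, -⟩ := ht.pt h1 h2
  by_contra hr
  have eQ : ∀ g ∈ α, cj g (QQ α) = QQ α := fun g hg => by rw [← QQ_cj, cj_eq_of_mem hg]
  have eV : ∀ g ∈ α, cj g (VV α) = VV α := fun g hg => by rw [← VV_cj, cj_eq_of_mem hg]
  obtain ⟨g, hg, hn⟩ := hl.exists_opp le_rfl le_sup_left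
  have hl' := hl.cj_mem hg
  obtain ⟨A, hA, hAQ⟩ := od_ex hl' (hp.cj g)
  obtain ⟨a, ha, haQ⟩ := SetLike.not_le_iff_exists.1 hAQ
  have haB : a ∈ cj g B := JJ_le (mx_le_J hA ha)
  have haα : a ∈ α := hl'.le haB
  have hne : a * r * a⁻¹ ≠ r := fun e => hl.not_ns hp.zd hg hn haB haQ
    (hl.mem_ns hp.zd haα (hZ ▸ h.ds.r_OZ) hr (by rw [e]; exact hZ ▸ h.ds.r_OZ))
  have hd := h.ds.cj a
  have hQ1 : QQ α ≤ S ⊓ C1 r := hl.Q_le.trans hB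
  have hQ2 : QQ α ≤ cj a S ⊓ C1 (a * r * a⁻¹) := by
    rw [← cj_C1, ← cj_inf, ← eQ a haα]; exact cj_mono a hQ1
  have hQ' : Del (a * u * a⁻¹) (a * z * a⁻¹) ≤ QQ α := by
    rw [← Del_cj, ← eQ a haα]; exact cj_mono a hQ
  have hV' : VV α ≤ Cs (Del (a * u * a⁻¹) (a * z * a⁻¹)) := by
    rw [← Del_cj, ← cj_Cs, ← eV a haα]; exact cj_mono a hV
  have h3 := hd.three h.ds hne (hQ'.trans hQ1) (hQ.trans hQ2)
  have mem : ∀ {S : Subgroup G} {r u z : G}, DS S r u z → r ∈ Del u z := fun h =>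
    h.mem_Del.2 ⟨_, h.r_mem, Or.inl rfl⟩
  have hA3 : Mx (QQ α) (A ⊓ QQ α ⊔ VV α) :=
    hl'.mx_Q.2 ⟨(hl'.la hA hAQ).2.1, sup_le inf_le_right (PU.vv_le α)⟩
  have hA4 := (h.ds.two hQ1 (hQ (mem h.ds)) (hQ (od_u u z)) hA3).2.2.2
  refine (hd.two hQ2 (hQ' (mem hd)) (hQ' (od_u _ _)) hA4).1
    (sup_le (fun x hx => ?_) (zpowers_le.2 (h3 (od_u u z))))
  have hx' : a * x * a⁻¹ ∈ Cs (Del (a * u * a⁻¹) (a * z * a⁻¹)) := by
    rw [← Del_cj, ← cj_Cs]; exact conj_mem_cj.2 hx.2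
  have hN : A ⊓ QQ α ≤ Ns (VV α) := inf_le_right.trans (hl.Q_le.trans (hl.le.trans (PU.le_norm_vv α)))
  obtain ⟨c, hc, v, hv, rfl⟩ := (Solv.mem_sup_of_le_normalizer' hN).1 hx.1
  have e : a * (c * v) * a⁻¹ = c * (a * v * a⁻¹) := by
    rw [← mul_assoc, ← mem_Cs.1 (mx_cs hA ha) c hc.1]; group
  rw [e] at hx'
  exact mul_mem ((mul_mem_cancel_right
    (hV' (mem_normalizer_conj (PU.le_norm_vv α haα) hv))).1 hx') (hV' hv)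

theorem od_U (ht : TC t S) (h : DZ S r u z) (h1 : JJ S ≤ B) (h2 : B ≤ BB S) (hl : Ln B α) :
    ⁅VV α, α⁆ ≤ Cs (KS S r) := by
  suffices H : ∀ v y x A, Dat S r v y x A → ⁅VV α, α⁆ ≤ Cs (E4 r v y) from
    fun g hg => mem_Cs_KS.2 fun v y x A hd => H v y x A hd hg
  intro v y x A' hd
  replace h := (h.of_da ⟨y, x, A', hd⟩).1
  obtain ⟨hB, hV, hQ⟩ := od_V h h1 h2 hl
  obtain ⟨hp, -, -, -, htZ⟩ := ht.pt h1 h2
  obtain ⟨A, hA, e⟩ := od_A ht h h1 h2 hl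
  obtain ⟨g, hg, hn⟩ := hl.exists_opp le_rfl le_sup_left
  have hF : ∀ s ∈ B, s ∈ Cs (Del v z) → s ∈ S ⊓ Cs (Four r v) := fun s hs hs' =>
    ⟨(hB hs).1, mem_Cs_Four.2 ⟨(hB hs).2, (mem_Cs_Del.1 hs').1⟩⟩
  have hAB : A ⊓ Cs (Del v z) ≤ B := e ▸ le_sup_left
  refine hl.U_le hp.zd hg hn htZ (hl.noD ht.dd) e ?_ fun s hs => ?_
  · rw [hl.R_eq e, commutator_le]
    exact fun a ha b hb => hd.comm_mem (hF a (hl.V_le ha) (hV ha)) (hF b (hAB hb) hb.2)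
  · have htV : t ∈ VV α := (hl.OZ_eq ▸ htZ : t ∈ VV α ⊓ Cs B).1
    have hs' : s * t * s⁻¹ ∈ VV α := mem_normalizer_conj
      (PU.le_norm_vv α (cj_le_of_mem_of_le hg (hAB.trans hl.le) hs)) htV
    have hc : ⁅s, t⁆ ∈ VV α := mul_mem hs' (inv_mem htV)
    refine (h.ds.dec hd ⟨(hB (hl.V_le hc)).1, hV hc⟩).resolve_right fun hc' => ?_
    refine h.ds.noD hd (ht.dd.cj s) (hV hs') ?_
    have := mul_mem hc' (inv_mem (hd.tr ht))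
    rwa [commutatorElement_def, mul_inv_rev, mul_assoc _ r, mul_inv_cancel_left, mul_assoc _ t⁻¹,
      ← mul_inv_rev, ht.sq, inv_one, mul_one] at this

end Cfsg.Lib.Bau
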