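import Cfsg.Agent.Bau.LvB

/-! A line against a live pair, first part. -/

set_option autoImplicit false
set_option linter.unusedSectionVars false

open scoped commutatorElement

namespace Cfsg.Lib.Bau

open Cfsg Subgroup Cfsg.Lib.Trans Cfsg.Lib.Trans.TJ Cfsg.Lib.Gold Cfsg.Lib.Gomi

universe u

variable {G : Type u} [Group G] [Finite G]
  {A A' B C E H J J' K L L' L₁ L₂ M P S S' T V V' W W' X α δ : Subgroup G}
  {a b c d e g k n r r' s t t' u u' v w x x' y y' z z' : G}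

namespace Ol1

theorem nQ : α ≤ Ns (QQ α) := Local.le_normalizer_pCoreOf α

theorem nV : α ≤ Ns (VV α) := PU.le_norm_vv α

theorem split (h : AP J V W) (hA : Mx J A) (h1 : V ≤ A) (ha : a ∈ A) :
    ∃ v ∈ V, ∃ c ∈ A ⊓ Cs V ⊓ Cs W, v * c = a := by
  have c1 : A ≤ Cs V := (mx_cs hA).trans (Cs_anti h1)
  obtain ⟨v, hv, c, hc, e⟩ := (Solv.mem_sup_of_le_normalizer
    (inf_le_left.trans (c1.trans Cs_le_Ns))).1 ((h.swV A hA h1).1 ha)
  exact ⟨v, hv, c, ⟨⟨hc.1, c1 hc.1⟩, hc.2⟩, e⟩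

theorem le_Q (hl : Ln B α) (hX : X ≤ JJ B) (hc : VV α ≤ Cs X) : X ≤ QQ α := fun _ hx =>
  (hl.memQ (JJ_le (hX hx))).2 (le_Cs_comm.1 hc hx)

theorem eq_of_idx (h1 : E ≤ V) (h2 : V ≤ W) (h : E.relIndex W ≤ E.relIndex V) : V = W := by
  refine eq_of_le_of_card_ge h2 ?_
  rw [← card_mul_relIndex h1, ← card_mul_relIndex (h1.trans h2)]
  exact Nat.mul_le_mul_left _ h

theorem one (h : Live (JJ B) V W) (hp : Pt B) (hl : Ln B α) (hA : Mx B A) (hQ : A ≤ QQ α)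
    (hV : V ≤ A) : VV α = V ∨ VV α ≤ Cs V ⊓ Cs W := by
  have p := h.ap
  have a1 := hl.V_le_mx hA hQ
  have c1 : VV α ≤ Cs V := a1.trans ((mx_cs hA).trans (Cs_anti hV))
  refine or_iff_not_imp_right.2 fun hn => ?_
  have n1 : ¬ VV α ≤ Cs W := fun m => hn (le_inf c1 m)
  have wB : W ≤ B := p.lW.trans JJ_le
  have n2 : ¬ W ≤ QQ α := fun m => n1 (le_Cs_comm.1 (m.trans (PU.Q_le_cent α)))
  obtain ⟨F, _, _, f1, -⟩ := h.par
  obtain ⟨v, hv, n3⟩ := SetLike.not_le_iff_exists.1 n1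
  obtain ⟨v₁, v1, c₁, hc, rfl⟩ := split p (mx_J.2 hA) hV (a1 hv)
  have n4 : v₁ ∉ W := fun m => n3 (mul_mem (p.symm.cs m) hc.2)
  have i1 : (QQ α).relIndex W = V.relIndex W := by
    rw [← inf_relIndex_right, ← inf_relIndex_right V]
    congr 1
    refine le_antisymm (fun w hw => ⟨(p.reg v₁ v1 w hw.2 ?_).resolve_left n4, hw.2⟩)
      (inf_le_inf_right _ (hV.trans hQ))
    have e1 := mem_Cs.1 (PU.Q_le_cent α hw.1) _ hv
    rw [mul_assoc, ← mem_Cs.1 hc.2 w hw.2, ← mul_assoc, ← mul_assoc] at e1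
    exact mul_right_cancel e1
  have i2 : (QQ α).relIndex B ≤ W.relIndex V := by
    rw [← hl.vx.relIndex_eq hl.syl wB n2, ← p.idx (mx_J.2 hA) hV]
    exact relIndex_le_of_le_right a1 index_ne_zero_of_finite
  have i3 : W.relIndex V = V.relIndex W := f1.relIndex_A.trans f1.relIndex_B.symm
  have e0 := PU.sup_eq_of_relIndex wB hl.Q_le ((wB.trans hl.le).trans nQ) (by rw [i1, ← i3]; exact i2)
  have l1 : VV α ≤ V := fun x hx => p.mem_of_all fun A' hA' hV' => by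
    refine mx_le hA' hl.V_le_J (le_Cs_comm.1 (fun a ha => PU.Q_le_cent α ?_))
      (fun _ => VV_sq) hx
    obtain ⟨u, hu, c, hc', rfl⟩ := split p hA' hV' ha
    refine mul_mem (hQ (hV hu)) ?_
    obtain ⟨w, hw, q, hq, rfl⟩ := PU.exists_mul_Q (wB.trans hl.le)
      (e0.ge (JJ_le (hA'.le hc'.1.1)))
    refine mul_mem (hQ (hV (by_contra fun n5 => f1.comm_not_mem v1 n4 hw n5
      ⟨(p.ab.comm_mem v1 hw).1, ?_⟩))) hq
    have k1 := h.cm (p.inf_le_YY (mx_J.2 hA) hc) (p.inf_le_YY hA' hc')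
    have k2 := mem_Cs.1 (PU.Q_le_cent α hq) _ hv
    have k3 := mem_Cs.1 hc.2 w hw
    have k4 := mem_Cs.1 (mul_mem (mul_mem (mul_mem hc.1.2 hc'.1.2) (inv_mem hc.1.2))
      (inv_mem hc'.1.2)) v₁ v1
    have k5 := mem_Cs.1 (inv_mem hc'.1.2) v₁ v1
    have : ⁅v₁, w⁆ = ⁅c₁, w * q⁆ := by
      rw [commutatorElement_def, commutatorElement_def]
      calc v₁ * w * v₁⁻¹ * w⁻¹ = v₁ * (w * c₁) * (v₁ * c₁)⁻¹ * w⁻¹ := by group
        _ = v₁ * c₁ * w * (q * (v₁ * c₁ * q)⁻¹) * w⁻¹ := by rw [k3]; group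
        _ = v₁ * (c₁ * (w * q) * c₁⁻¹) * v₁⁻¹ * (w * q)⁻¹ := by rw [k2]; group
        _ = v₁ * (c₁ * (w * q) * c₁⁻¹ * (w * q)⁻¹) * v₁⁻¹ := by
          rw [mul_assoc _ v₁⁻¹, (show Commute v₁ (w * q)⁻¹ from k5).inv_left.eq]; group
        _ = _ := by rw [k4, mul_inv_cancel_right]
    exact this ▸ k1
  refine eq_of_idx (E := OZ B) (hl.OZ_eq.le.trans inf_le_left) l1 ?_
  rw [hl.idx, ← hp.OZ_J, ← p.inf, inf_comm, inf_relIndex_right, i3, ← i1]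
  exact relIndex_le_of_le_right wB index_ne_zero_of_finite

theorem two (h : AP J V W) (hl : Ln B α) (hJ : J ≤ B) (hA : Mx J A) (hV : V ≤ A)
    (e : A ⊔ QQ α = B) (h1 : V ≤ QQ α) : A ⊓ Cs V ⊓ Cs W ⊔ QQ α = B := by
  refine le_antisymm (sup_le ((inf_le_left.trans inf_le_left).trans (hA.le.trans hJ)) hl.Q_le)
    (e.ge.trans (sup_le (fun a ha => ?_) le_sup_right))
  obtain ⟨v, hv, c, hc, rfl⟩ := split h hA hV ha
  exact mul_mem (mem_sup_right (h1 hv)) (mem_sup_left hc)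

theorem comm_le (h : AP J V W) (h1 : E ≤ Cs V ⊓ Cs W) (h2 : E ≤ Cs E) :
    ⁅V ⊔ E, W ⊔ E⁆ ≤ V ⊓ W := commutator_le.2 fun a ha b hb => by
  obtain ⟨v, hv, y, hy, rfl⟩ := (Solv.mem_sup_of_le_normalizer
    ((h1.trans inf_le_left).trans Cs_le_Ns)).1 ha
  obtain ⟨w, hw, z, hz, rfl⟩ := (Solv.mem_sup_of_le_normalizer
    ((h1.trans inf_le_right).trans Cs_le_Ns)).1 hb
  have k1 : Commute y (w * z) :=
    Commute.mul_right (mem_Cs.1 (h1 hy).2 w hw).symm (mem_Cs.1 (h2 hz) y hy)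
  have k2 : Commute v⁻¹ z := Commute.inv_left (mem_Cs.1 (h1 hz).1 v hv)
  have : ⁅v * y, w * z⁆ = ⁅v, w⁆ := by
    rw [commutatorElement_def, commutatorElement_def, mul_assoc v y, k1.eq]
    calc _ = v * w * (z * v⁻¹) * z⁻¹ * w⁻¹ := by group
      _ = _ := by rw [← k2.eq]; group
  exact this ▸ h.ab.comm_mem hv hw

theorem three (h : AP J (cj a V) (cj a W)) (h1 : cj a V ≤ Cs W) (h2 : V ≤ A) (h3 : E ≤ A)
    (h4 : E ≤ Cs J) (h5 : ∀ x ∈ A, ⁅a, x⁆ ∈ E) : False := h.not_cs fun y hy => by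
  have y1 : y ∈ A := by
    obtain ⟨w, hw, rfl⟩ := hy
    have := mul_mem (h3 (h5 w (h2 hw))) (h2 hw)
    rwa [commutatorElement_def, inv_mul_cancel_right] at this
  have k1 : a * y * a⁻¹ ∈ Cs (cj a W) := cj_Cs a W ▸ conj_mem_cj.2 (h1 hy)
  have := mul_mem (inv_mem (Cs_anti h.lW (h4 (h5 y y1)))) k1
  rwa [commutatorElement_def, show (a * y * a⁻¹ * y⁻¹)⁻¹ * (a * y * a⁻¹) = y by group] at this

end Ol1

open Ol1

theorem ola (h : Live J V W) (hJ : JJ B = J) (hp : Pt B) (hl : Ln B α) :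
    VV α = V ∨ VV α = W ∨ VV α ≤ Cs V ⊓ Cs W := by
  subst hJ
  obtain ⟨A, hA⟩ := exists_maxEA 2 (QQ α)
  obtain ⟨h1, h2⟩ := hl.mx_Q.1 hA
  rcases h.ap.cov A (mx_J.2 h1) with e | e
  · exact (one h hp hl h1 h2 e).imp_right Or.inr
  · exact Or.inr ((one h.symm hp hl h1 h2 e).imp_right fun m => m.trans (inf_comm _ _).le)

theorem ol_A (h : Live J V W) (hJ : JJ B = J) (hp : Pt B) (hl : Ln B α)
    (hc : VV α ≤ Cs V ⊓ Cs W) : ∃ A, Mx J A ∧ A ⊓ Cs V ⊓ Cs W ⊔ QQ α = B := by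
  subst hJ
  obtain ⟨A, hA, n⟩ : ∃ A, Mx B A ∧ ¬ A ≤ QQ α := by
    by_contra c
    exact hl.notJ hp (JJ_le_of fun A hA => by_contra fun n => c ⟨A, hA, n⟩)
  refine ⟨A, mx_J.2 hA, ?_⟩
  rcases h.ap.cov A (mx_J.2 hA) with e | e
  · exact two h.ap hl JJ_le (mx_J.2 hA) e (hl.la hA n).1
      (le_Q hl h.ap.lV (hc.trans inf_le_left))
  · rw [inf_right_comm]
    exact two h.ap.symm hl JJ_le (mx_J.2 hA) e (hl.la hA n).1
      (le_Q hl h.ap.lW (hc.trans inf_le_right))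

theorem ol_R (h : Live J V W) (hJ : JJ B = J) (hp : Pt B) (hl : Ln B α)
    (hc : VV α ≤ Cs V ⊓ Cs W) : ⁅V, W⁆ ≤ Cs α := by
  subst hJ
  obtain ⟨p, zc⟩ := h.ap.sub (J' := JJ (QQ α)) (T := QQ α) JJ_JJ
    (fun A => by rw [mx_J, mx_J, hl.mx_Q]) (le_Q hl h.ap.lV (hc.trans inf_le_left))
    (le_Q hl h.ap.lW (hc.trans inf_le_right))
  have z1 : OZ (JJ (QQ α)) ≤ Cs (JJ (QQ α)) := fun _ m => (mem_OZ.1 m).2.1
  have z2 : VV α ≤ OZ (JJ (QQ α)) := fun _ m => mem_OZ_J.2 fun A hA =>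
    hl.V_le_mx (hl.mx_Q.1 hA).1 (hl.mx_Q.1 hA).2 m
  have r1 := comm_le h.ap zc (z1.trans (Cs_anti fun _ m => (mem_OZ.1 m).1))
  rw [h.ap.inf, hp.OZ_J] at r1
  refine (commutator_mono (le_sup_left (b := OZ (JJ (QQ α))))
    (le_sup_left (b := OZ (JJ (QQ α))))).trans ?_
  generalize V ⊔ OZ (JJ (QQ α)) = V₀ at p r1 ⊢
  generalize W ⊔ OZ (JJ (QQ α)) = W₀ at p r1 ⊢
  obtain ⟨g, hg, gn⟩ := hl.exists_opp le_rfl le_sup_left
  obtain ⟨A, hA, n⟩ : ∃ A, Mx B A ∧ ¬ A ≤ QQ α := by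
    by_contra c
    exact hl.notJ hp (JJ_le_of fun A hA => by_contra fun n => c ⟨A, hA, n⟩)
  obtain ⟨a, ha, an⟩ := SetLike.not_le_iff_exists.1 n
  have aα := hl.le (hA.le ha)
  have lg := hl.cj_mem hg
  have n1 : a ∉ Ns (cj g B) := lg.not_ns (hp.zd.cj g) (inv_mem hg)
    (fun m => gn (mem_Ns_iff.2 ((mem_Ns_iff.1 m).symm.trans (cj_inv_cj g B))))
    (by rw [cj_inv_cj]; exact hA.le ha) an
  have p1 := p.cj_ns (ns_le_JJ (nQ hg))
  have p2 := p1.cj_ns (ns_le_JJ (nQ aα))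
  have fin : cj a ⁅cj g V₀, cj g W₀⁆ = ⁅cj g V₀, cj g W₀⁆ → ⁅V₀, W₀⁆ ≤ Cs α := fun e => by
    have r2 : ⁅cj g V₀, cj g W₀⁆ ≤ OZ (cj g B) := by
      rw [← cj_commutator, OZ_cj]; exact cj_mono g r1
    have := (le_inf r2 (e.ge.trans (cj_mono a r2))).trans (lg.Z_inf (hp.zd.cj g) aα n1)
    rw [← cj_commutator, cj_le_iff_le_cj_inv,
      mem_Ns_iff.1 (le_Ns_Cs le_normalizer (inv_mem hg))] at this
    exact this
  rcases ap1 p1 p2 with ⟨e1, e2⟩ | ⟨e1, e2⟩ | e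
  · exact fin (by rw [cj_commutator, e1, e2])
  · exact fin (by rw [cj_commutator, e1, e2, Subgroup.commutator_comm])
  have m3 : Mx (JJ (QQ α)) (A ⊓ QQ α ⊔ VV α) :=
    mx_J.2 (hl.mx_Q.2 ⟨(hl.la hA n).2.1, sup_le inf_le_right (PU.vv_le α)⟩)
  have k : ∀ x ∈ A ⊓ QQ α ⊔ VV α, ⁅a, x⁆ ∈ VV α := fun x hx => by
    obtain ⟨c, hc', u, hu, rfl⟩ := (Solv.mem_sup_of_le_normalizer'
      (inf_le_left.trans (hA.le.trans (hl.le.trans nV)))).1 hx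
    have := mem_normalizer_conj (nV (hl.le (hA.le hc'.1))) 
      (mul_mem (mem_normalizer_conj (nV aα) hu) (inv_mem hu))
    rwa [show c * (a * u * a⁻¹ * u⁻¹) * c⁻¹ = c * a * u * a⁻¹ * (c * u)⁻¹ by
      group, mem_Cs.1 (mx_cs hA ha) c hc'.1, mul_assoc a c u] at this
  rcases p1.cov _ m3 with l | l
  · exact (three p2 (le_sup_left.trans (e.trans inf_le_right)) l le_sup_right (z2.trans z1) k).elim
  · exact (three p2.symm (le_sup_right.trans (e.trans inf_le_left)) l le_sup_right (z2.trans z1)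
      k).elim

end Cfsg.Lib.Bau
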