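import Cfsg.Agent.Bau.Am3

/-! Two unlinked lines, one of which normalises the product of the modules: first part. -/

set_option autoImplicit false
set_option linter.unusedSectionVars false

open scoped commutatorElement

namespace Cfsg.Lib.Bau

open Cfsg Subgroup Cfsg.Lib.Trans Cfsg.Lib.Trans.TJ Cfsg.Lib.Gold Cfsg.Lib.Gomi

universe u

variable {G : Type u} [Group G] [Finite G]
  {A A' B C E H J J' K L L' L₁ L₂ M P S S' T V V' W W' X α δ : Subgroup G}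
  {a b c d e g k n r r' s t t' u u' v w x x' y y' z z' : G}

theorem q1a_cj_Q (hg : g ∈ L) : cj g (QQ L) = QQ L := by rw [← QQ_cj, cj_eq_of_mem hg]

theorem q1a_hL (h : QS B α δ) : ∀ L ∈ ({α, δ} : Set (Subgroup G)), Ln B L := by
  rintro _ (rfl | rfl)
  exacts [h.la, h.ld]

theorem q1a_hu (h : QS B α δ) : ∀ L ∈ ({α, δ} : Set (Subgroup G)),
    ∀ L' ∈ ({α, δ} : Set (Subgroup G)), VV L ≤ QQ L' := by
  rintro _ (rfl | rfl) _ (rfl | rfl)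
  exacts [PU.vv_le _, h.un, h.un', PU.vv_le _]

theorem QS.ns_inf (h : QS B α δ) : δ ≤ Ns (QQ α ⊓ QQ δ) := by
  have e : QQ α ⊓ QQ δ = QQ δ ⊓ Cs (VV α ⊔ VV δ) := by
    refine le_antisymm (le_inf inf_le_right (le_Cs_comm.2 (sup_le ?_ ?_))) fun x hx => ⟨?_, hx.1⟩
    · exact (PU.vv_le_cent α).trans (Cs_anti inf_le_left)
    · exact (PU.vv_le_cent δ).trans (Cs_anti inf_le_right)
    · exact (h.la.memQ (h.ld.Q_le hx.1)).2 (Cs_anti le_sup_left hx.2)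
  rw [e]
  exact fun g hg => mem_Ns_inf (mem_Ns_iff.2 (q1a_cj_Q hg)) (mem_Ns_Cs (h.nm hg))

theorem QS.comm_Q (h : QS B α δ) : ⁅VV α, QQ δ⁆ ≤ Cs δ := by
  obtain ⟨N, h1, h2, h3⟩ := quiet_comm (q1a_hL h) (q1a_hu h) (α := δ) (by simp)
    (h.ld.notJ h.pt) (by rw [iSup_pair]; exact h.nm)
  obtain ⟨g, hg, hn⟩ := h.ld.exists_opp h1 h2
  refine commutator_le.2 fun v hv q hq => h.ld.Z_inf h.pt.zd (h1 hg) hn
    ⟨h.la.comm_le (commutator_mem_commutator hv (h.ld.Q_le hq)), mem_cj.2 ?_⟩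
  have hw := h3 α (by simp) v hv g⁻¹ (inv_mem hg)
  have hq' : g⁻¹ * q * g⁻¹⁻¹ ∈ QQ δ := q1a_cj_Q (inv_mem (h1 hg)) ▸ conj_mem_cj.2 hq
  have h4 := h.la.comm_le (commutator_mem_commutator hv (h.ld.Q_le hq'))
  have h5 := mem_Cs.1 (PU.vv_le_cent δ hw) _ hq'
  have h6 := mem_Cs.1 (mem_OZ.1 h4).2.1 _ (h.ld.V_le hw)
  have e : g⁻¹ * ⁅v, q⁆ * g = ⁅g⁻¹, v⁆ * ⁅v, g⁻¹ * q * g⁻¹⁻¹⁆ *
      (g⁻¹ * q * g⁻¹⁻¹ * ⁅g⁻¹, v⁆⁻¹ * (g⁻¹ * q * g⁻¹⁻¹)⁻¹) := by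
    simp only [commutatorElement_def]
    group
  have e' : g⁻¹ * q * g⁻¹⁻¹ * ⁅g⁻¹, v⁆⁻¹ * (g⁻¹ * q * g⁻¹⁻¹)⁻¹ = ⁅g⁻¹, v⁆⁻¹ := by
    rw [mul_inv_eq_iff_eq_mul, mul_inv_eq_iff_eq_mul, mul_assoc _ (g⁻¹ * q * g⁻¹⁻¹), h5,
      inv_mul_cancel_left]
  rw [e, e', h6, mul_inv_cancel_right]
  exact h4

theorem q1a (h : QS B α δ) (hne : ¬ VV δ ≤ VV α) :
    ∃ A, Mx B A ∧ ¬ A ≤ QQ α ∧ A ≤ QQ δ := by
  obtain ⟨A, hA, h1, h2, -, h3⟩ := minA (q1a_hL h) (q1a_hu h) (α := α) (by simp)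
    (h.la.notJ h.pt)
  refine ⟨A, hA, h1, by_contra fun h4 => ?_⟩
  replace h2 := h2 δ (by simp)
  replace h3 := h3 δ (by simp) h4
  obtain ⟨e1, -, i1⟩ := h.la.la hA h1
  obtain ⟨-, m2, i2⟩ := h.ld.la hA h4
  have e0 : QQ α ⊓ A = QQ δ ⊓ A :=
    le_antisymm (fun x hx => ⟨h2 ⟨hx.2, hx.1⟩, hx.2⟩) fun x hx => ⟨h3 ⟨hx.2, hx.1⟩, hx.2⟩
  have i3 : (QQ α).relIndex B = (QQ δ).relIndex B := by
    rw [← i1, ← i2, ← inf_relIndex_right, e0, inf_relIndex_right]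
  have hV : VV α ≤ A ⊓ QQ δ ⊔ VV δ := mx_le m2 h.la.V_le
    ((PU.vv_le_cent α).trans (Cs_anti (sup_le h3 h.un'))) fun _ hw => VV_sq hw
  by_cases h5 : QQ δ ≤ QQ α
  · have i4 := relIndex_mul_relIndex _ _ _ h5 h.la.Q_le
    rw [← i3] at i4
    have i5 : (QQ δ).relIndex (QQ α) = 1 :=
      (mul_eq_right₀ (index_ne_zero_of_finite (H := (QQ α).subgroupOf B))).1 i4
    have e2 : QQ δ = QQ α := le_antisymm h5 (relIndex_eq_one.1 i5)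
    refine hne fun x hx => PU.mem_vv.2 ?_
    have := PU.mem_vv.1 hx
    rwa [show pCoreOf 2 δ = pCoreOf 2 α from e2] at this
  obtain ⟨q, hq, hq'⟩ := SetLike.not_le_iff_exists.1 h5
  obtain ⟨a, ha, q', hq1, rfl⟩ := (Solv.mem_sup_of_le_normalizer'
    (fun x hx => mem_Ns_iff.2 (q1a_cj_Q (h.la.le (hA.le hx))))).1 (e1.symm ▸ h.ld.Q_le hq)
  have a1 : a ∉ QQ α := fun h6 => hq' (mul_mem h6 hq1)
  have a2 : a ∉ QQ δ := fun h6 => a1 (h3 ⟨ha, h6⟩)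
  have hnz : ¬ VV α ≤ OZ B := fun h6 => h.la.R_not (le_trans (le_of_eq
    (commutator_eq_bot_iff_le_centralizer.2 fun x hx => (mem_OZ.1 (h6 hx)).2.1)) bot_le)
  obtain ⟨v, hv, hv'⟩ := SetLike.not_le_iff_exists.1 hnz
  obtain ⟨a₀, ha₀, w, hw, rfl⟩ := (Solv.mem_sup_of_le_normalizer'
    ((inf_le_right.trans (PU.Q_le_cent δ)).trans Cs_le_Ns)).1 (hV hv)
  have c1 : a * a₀ = a₀ * a := mem_Cs.1 (mx_cs hA ha₀.1) a ha
  have c2 : ⁅a, w⁆ ∈ OZ B := by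
    rw [← commutatorElement_inv]
    exact inv_mem (h.ld.comm_le (commutator_mem_commutator hw (hA.le ha)))
  have c3 := mem_Cs.1 (mem_OZ.1 c2).2.1 a₀ (hA.le ha₀.1)
  have c4 : ⁅a, a₀ * w⁆ = ⁅a, w⁆ := by
    have : ⁅a, a₀ * w⁆ = (a * a₀) * a⁻¹ * ⁅a, w⁆ * a₀⁻¹ := by
      simp only [commutatorElement_def]
      group
    rw [this, c1, mul_inv_cancel_right, c3, mul_inv_cancel_right]
  have c5 : ⁅a * q', a₀ * w⁆ = ⁅a, a₀ * w⁆ := by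
    have h6 := mem_Cs.1 (PU.vv_le_cent α hv) q' hq1
    rw [commutatorElement_def, commutatorElement_def, mul_assoc a q', h6]
    group
  have c6 : ⁅a, w⁆ ∈ Cs δ := by
    rw [← c4, ← c5, ← commutatorElement_inv]
    exact inv_mem (h.comm_Q (commutator_mem_commutator hv hq))
  have c7 := mem_Cs.1 (mem_OZ.1 (h.ld.reg (hA.le ha) a2 hw c6)).2.1 a (hA.le ha)
  refine hv' (h.la.reg (hA.le ha) a1 hv ?_)
  rw [c4, commutatorElement_eq_one_iff_mul_comm.2 c7]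
  exact one_mem _

theorem q1b (h : QS B α δ) (hg : g ∈ α) (hn : g ∉ Ns B) : cj g (VV δ) ≤ Cs (VV δ) := by
  refine le_trans (by_contra fun hl => ?_) (PU.Q_le_cent δ)
  rw [← VV_cj] at hl
  have h' := h.ld.cj g
  have v' : VV (cj g δ) ≤ QQ α := by
    rw [VV_cj, ← q1a_cj_Q hg]
    exact cj_mono g h.un'
  have n' : QQ α ≤ cj g B := by
    rw [← q1a_cj_Q hg]
    exact cj_mono g h.la.Q_le
  have h1 : ∀ A, Mx (QQ α) A → A ≤ QQ δ ∨ A ≤ QQ (cj g δ) := fun A hA =>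
    lk0_le h.ld h' h.pt.zd hl h.un' v' h.la.Q_le n' h.ns_inf hA.le fun _ => mx_sq hA
  have h2 : ∀ A, Mx (QQ α) A → A ≤ QQ δ → ¬ A ≤ QQ (cj g δ) := fun A hA a1 a2 =>
    hl ((mx_le hA v' ((PU.vv_le_cent _).trans (Cs_anti a2)) fun _ hw => VV_sq hw).trans a1)
  have h3 : ∀ b ∈ α, ∀ A, Mx (QQ α) A → Mx (QQ α) (cj b A) := fun b hb A hA =>
    q1a_cj_Q hb ▸ mx_cj hA b
  have h4 : α ≤ Ns (sSup {A | Mx (QQ α) A ∧ A ≤ QQ δ}) := by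
    refine (h.la.opp h.pt.zd hg hn).ge.trans (sup_le (fun b hb => ?_) fun b hb => ?_)
    · refine ns_sSup fun A hA => le_sSup ⟨h3 b (h.la.le hb) A hA.1, ?_⟩
      rw [← q1a_cj_Q (h.ld.le hb)]
      exact cj_mono b hA.2
    · have hb' : b ∈ α := (h.la.cj_mem hg).le hb
      refine ns_sSup fun A hA => le_sSup ⟨h3 b hb' A hA.1,
        (h1 _ (h3 b hb' A hA.1)).resolve_right fun h5 => h2 A hA.1 hA.2 ?_⟩
      rwa [← q1a_cj_Q (h'.le hb), cj_le_cj] at h5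
  have h5 : sSup {A | Mx (QQ α) A ∧ A ≤ QQ δ} ≤ QQ (cj g δ) := by
    rw [← mem_Ns_iff.1 (h4 hg), QQ_cj]
    exact cj_mono g (sSup_le fun A hA => hA.2)
  obtain ⟨A, hA, h6⟩ : ∃ A, Mx (QQ α) A ∧ A ≤ QQ δ := by
    obtain ⟨A, hA⟩ := exists_maxEA 2 (QQ α)
    rcases h1 A hA with h6 | h6
    · exact ⟨A, hA, h6⟩
    · exact ⟨_, h3 _ (inv_mem hg) A hA, cj_inv_le_iff_le_cj.2 (QQ_cj g δ ▸ h6)⟩
  exact h2 A hA h6 ((le_sSup (s := {A | Mx (QQ α) A ∧ A ≤ QQ δ}) ⟨hA, h6⟩).trans h5)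

end Cfsg.Lib.Bau
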