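import Cfsg.Agent.Bau.Q1a
import Cfsg.Agent.Bau.Line2

set_option autoImplicit false
set_option linter.unusedSectionVars false

open scoped commutatorElement

namespace Cfsg.Lib.Bau

open Cfsg Subgroup Cfsg.Lib.Trans Cfsg.Lib.Trans.TJ Cfsg.Lib.Gold Cfsg.Lib.Gomi

universe u

variable {G : Type u} [Group G] [Finite G]
  {A A' B C E H J J' K L L' L₁ L₂ M P S S' T V V' W W' X α δ : Subgroup G}
  {a b c d e g k n r r' s t t' u u' v w x x' y y' z z' : G}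

theorem q1c_cjQ (hg : g ∈ L) : cj g (QQ L) = QQ L :=
  cj_eq_of_mem_normalizer (Local.MSS.self_le_normalizer_pCoreOf L hg)

theorem q1c_cjV (hg : g ∈ L) : cj g (VV L) = VV L :=
  cj_eq_of_mem_normalizer (PU.le_norm_vv L hg)

theorem q1c_left (h1 : x * w = w * x) (h2 : x * c = c * x) : ⁅x * w, c⁆ = ⁅w, c⁆ := by
  have h3 : x * (w * c * w⁻¹) = w * c * w⁻¹ * x := by
    have h4 : x * w⁻¹ = w⁻¹ * x := (Commute.inv_right (show Commute x w from h1))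
    calc x * (w * c * w⁻¹) = x * w * c * w⁻¹ := by group
      _ = w * (x * c) * w⁻¹ := by rw [h1]; group
      _ = w * c * (x * w⁻¹) := by rw [h2]; group
      _ = _ := by rw [h4]; group
  simp only [commutatorElement_def]
  calc x * w * c * (x * w)⁻¹ * c⁻¹ = x * (w * c * w⁻¹) * x⁻¹ * c⁻¹ := by group
    _ = _ := by rw [h3]; group

theorem q1c_split (hXQ : X ≤ QQ L) (hk : k ∈ X ⊔ VV L) : ∃ x ∈ X, ∃ w ∈ VV L, x * w = k :=
  (Solv.mem_sup_of_le_normalizer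
    (((PU.vv_le_cent L).trans (Cs_anti hXQ)).trans (centralizer_le_normalizer _))).1 hk

theorem q1c_comm (hC : C ≤ B) (hX : X ≤ Cs C) (hXQ : X ≤ QQ L) (hW : W ≤ X ⊔ VV L) :
    ⁅W, C⁆ ≤ ⁅VV L, B⁆ := by
  rw [Subgroup.commutator_le]
  intro k hk c hc
  obtain ⟨x, hx, w, hw, rfl⟩ := q1c_split hXQ (hW hk)
  rw [q1c_left (mem_Cs.1 (PU.vv_le_cent L hw) x (hXQ hx)) (mem_Cs.1 (hX hx) c hc).symm]
  exact commutator_mem_commutator hw (hC hc)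

theorem q1c_ns (h : cj s X ≤ X) : s ∈ Ns X :=
  mem_normalizer_fintype (fun n hn => cj_le_iff.1 h n hn)

theorem q1c_sq (hw : w ∈ cj s (VV L)) : w * w = 1 := by
  rw [← VV_cj] at hw
  exact VV_sq hw

theorem q1c_inv_ns (hn : g ∉ Ns B) : g⁻¹ ∉ Ns (cj g B) := by
  intro h
  have h1 := mem_Ns_iff.1 h
  rw [cj_inv_cj] at h1
  exact hn (mem_Ns_iff.2 h1.symm)

theorem q1c_exv (h : Ln B L) : ∃ v ∈ VV L, v ∉ OZ B := by
  by_contra hc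
  push Not at hc
  apply h.R_not
  rw [Subgroup.commutator_le]
  intro v hv b hb
  have h1 := mem_Cs.1 (mem_OZ.1 (hc v hv)).2.1 b hb
  rw [commutatorElement_eq_one_iff_mul_comm.2 h1.symm]
  exact one_mem _

theorem q1c_mxQ (h : QS B α δ) (hA : Mx B A) (h1 : ¬ A ≤ QQ α) :
    Mx (QQ α) (A ⊓ QQ α ⊔ VV α) :=
  h.la.mx_Q.2 ⟨(h.la.la hA h1).2.1, sup_le inf_le_right (PU.vv_le α)⟩

theorem q1c_not (h3 : ∀ g ∈ α, g ∉ Ns B → ¬ cj g A ⊓ QQ α ≤ QQ δ) (hg : g ∈ α) (hn : g ∉ Ns B) :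
    ¬ A ⊓ QQ α ≤ QQ (cj g δ) := by
  intro hc
  refine h3 g⁻¹ (inv_mem hg) (fun hh => hn (inv_mem_iff.1 hh)) ?_
  rw [QQ_cj, ← cj_inv_le_iff_le_cj, cj_inf, q1c_cjQ (inv_mem hg)] at hc
  exact hc

/-- the first step. -/
theorem q1c_step1 (h : QS B α δ) (hA : Mx B A) (h1 : ¬ A ≤ QQ α)
    (h3 : ∀ g ∈ α, g ∉ Ns B → ¬ cj g A ⊓ QQ α ≤ QQ δ) : ⁅VV δ, B⁆ ≤ Cs α := by
  have hz := h.pt.zd
  obtain ⟨g, hg, hn⟩ := h.la.exists_opp le_rfl le_sup_left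
  have hn' : g⁻¹ ∉ Ns B := fun hh => hn (inv_mem_iff.1 hh)
  have la' : Ln (cj g B) α := h.la.cj_mem hg
  have ld' : Ln (cj g B) (cj g δ) := h.ld.cj g
  have hAQ := q1c_mxQ h hA h1
  have hA' : Mx (cj g B) (A ⊓ QQ α ⊔ VV α) := (la'.mx_Q.1 hAQ).1
  have hVQ : VV α ≤ QQ (cj g δ) := by
    rw [QQ_cj, ← q1c_cjV hg]; exact cj_mono g h.un
  have h0 := q1c_not h3 hg hn
  have h0' : ¬ A ⊓ QQ α ⊔ VV α ≤ QQ (cj g δ) := fun hc => h0 (le_sup_left.trans hc)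
  obtain ⟨e1, hK, -⟩ := ld'.la hA' h0'
  have e2 : A ⊓ QQ α ⊔ QQ (cj g δ) = cj g B := by
    rw [← e1, sup_assoc, sup_eq_right.2 hVQ]
  have eR := ld'.R_eq e2
  obtain ⟨s, hs, hsQ⟩ := SetLike.not_le_iff_exists.1 h1
  have hAB : A ≤ B := le_sup_left.trans (h.la.la hA h1).1.le
  have hsB : s ∈ B := hAB hs
  have hsα : s ∈ α := h.la.le hsB
  have hVα : VV (cj g δ) ≤ QQ α := by
    rw [VV_cj, ← q1c_cjQ hg]; exact cj_mono g h.un'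
  have hWQ : cj s (VV (cj g δ)) ≤ QQ α := by
    rw [← q1c_cjQ hsα]; exact cj_mono s hVα
  have hk : g⁻¹ * s * g ∉ Ns B := by
    refine h.la.not_ns hz (inv_mem hg) hn' ?_ ?_
    · rw [mem_cj_inv]; simpa [mul_assoc] using hsB
    · intro hc
      apply hsQ
      rw [← q1c_cjQ hg]
      exact mem_cj.2 hc
  have hW1 : cj s (VV (cj g δ)) ≤ Cs (VV (cj g δ)) := by
    have h5 := cj_mono g (q1b h (mul_mem (mul_mem (inv_mem hg) hsα) hg) hk)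
    rw [cj_Cs, cj_cj] at h5
    rw [VV_cj, cj_cj]
    have e : g * (g⁻¹ * s * g) = s * g := by group
    rwa [e] at h5
  have hW2 : (A ⊓ QQ α ⊔ VV α) ⊓ QQ (cj g δ) ≤ Cs (cj s (VV (cj g δ))) := by
    intro y hy
    obtain ⟨x, hx, w, hw, rfl⟩ := q1c_split (L := α) inf_le_right hy.1
    have hxQ : x ∈ QQ (cj g δ) := by
      have h6 : x * w ∈ QQ (cj g δ) := hy.2
      simpa using mul_mem h6 (inv_mem (hVQ hw))
    refine mul_mem ?_ (Cs_anti hWQ (PU.vv_le_cent α hw))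
    rw [← cj_Cs, mem_cj]
    have e : s⁻¹ * x * s = x := by
      rw [mul_assoc, mem_Cs.1 (mx_cs hA hs) x hx.1]; group
    rw [e]
    exact PU.Q_le_cent _ hxQ
  have hWK : cj s (VV (cj g δ)) ≤ (A ⊓ QQ α ⊔ VV α) ⊓ QQ (cj g δ) ⊔ VV (cj g δ) :=
    mx_le hK (hWQ.trans la'.Q_le) (le_Cs_comm.1 (sup_le hW2 (le_Cs_comm.1 hW1)))
      (fun w hw => q1c_sq hw)
  have hsA : cj s (A ⊓ QQ α) = A ⊓ QQ α :=
    cj_eq_of_mem_normalizer (centralizer_le_normalizer _ (Cs_anti inf_le_left (mx_cs hA hs)))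
  have hsR : s ∈ Ns ⁅VV (cj g δ), cj g B⁆ := by
    apply q1c_ns
    conv_lhs => rw [eR, cj_commutator, hsA]
    exact q1c_comm (le_sup_left.trans e2.le)
      (inf_le_left.trans ((mx_cs hAQ).trans (Cs_anti le_sup_left))) inf_le_right hWK
  have hBR : cj g B ≤ Ns ⁅VV (cj g δ), cj g B⁆ :=
    (le_Cs_comm.1 (fun x hx => (mem_OZ.1 (ld'.comm_le hx)).2.1)).trans
      (centralizer_le_normalizer _)
  have hα : α ≤ Ns ⁅VV (cj g δ), cj g B⁆ :=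
    la'.gen (hz.cj g) (inv_mem hg) (q1c_inv_ns hn) (by rw [cj_inv_cj]; exact hsB) hsQ hBR hsR
  have e3 : ⁅VV δ, B⁆ = ⁅VV (cj g δ), cj g B⁆ := by
    have h5 := mem_Ns_iff.1 (hα (inv_mem hg))
    rw [← h5, VV_cj, ← cj_commutator, cj_inv_cj]
  refine le_trans (le_inf h.ld.comm_le ?_) (h.la.Z_inf hz hg hn)
  rw [e3, ← OZ_cj]
  exact ld'.comm_le

theorem q1c_key (h : Ln B δ) (hz : ZD B) {m : G} (hm : m ∈ δ) (hn : m ∉ Ns B) (ha : a ∈ B)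
    (haQ : a ∉ QQ δ) (h1 : x ∈ cj m ⁅VV δ, B⁆) (h2 : x ∈ cj a (cj m ⁅VV δ, B⁆)) : x ∈ Cs δ := by
  have ldm : Ln (cj m B) δ := h.cj_mem hm
  have hna : a ∉ Ns (cj m B) :=
    ldm.not_ns (hz.cj m) (inv_mem hm) (q1c_inv_ns hn) (by rw [cj_inv_cj]; exact ha) haQ
  have h3 : cj m ⁅VV δ, B⁆ ≤ OZ (cj m B) := by
    rw [OZ_cj]; exact cj_mono m h.comm_le
  exact ldm.Z_inf (hz.cj m) (h.le ha) hna ⟨h3 h1, cj_mono a h3 h2⟩

theorem q1c (h : QS B α δ) (hA : Mx B A) (h1 : ¬ A ≤ QQ α) (h2 : A ≤ QQ δ)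
    (h3 : ∀ g ∈ α, g ∉ Ns B → ¬ cj g A ⊓ QQ α ≤ QQ δ) : False := by
  have hz := h.pt.zd
  have hR := q1c_step1 h hA h1 h3
  obtain ⟨g, hg, hn⟩ := h.la.exists_opp le_rfl le_sup_left
  obtain ⟨m, hm, hmn⟩ := h.ld.exists_opp le_rfl le_sup_left
  have la' : Ln (cj g B) α := h.la.cj_mem hg
  have ld' : Ln (cj g B) (cj g δ) := h.ld.cj g
  have le : Ln (cj m (cj g B)) (cj m (cj g δ)) := ld'.cj m
  have hAQ := q1c_mxQ h hA h1
  have hA' : Mx (cj g B) (A ⊓ QQ α ⊔ VV α) := (la'.mx_Q.1 hAQ).1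
  have h0 := q1c_not h3 hg hn
  have hN : ∀ l ∈ δ, cj l (QQ α ⊓ QQ δ) = QQ α ⊓ QQ δ := fun l hl => mem_Ns_iff.1 (h.ns_inf hl)
  have hNB : QQ α ⊓ QQ δ ≤ cj m (cj g B) := by
    rw [← hN m hm]; exact cj_mono m (inf_le_left.trans la'.Q_le)
  have hVα : VV (cj g δ) ≤ QQ α := by
    rw [VV_cj, ← q1c_cjQ hg]; exact cj_mono g h.un'
  have hVC : VV (cj g δ) ≤ Cs (VV δ) := by
    rw [VV_cj]; exact q1b h hg hn
  have hVN : VV (cj m (cj g δ)) ≤ QQ α ⊓ QQ δ := by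
    rw [VV_cj, ← hN m hm]
    exact cj_mono m (le_inf hVα fun x hx => (h.ld.memQ (h.la.Q_le (hVα hx))).2 (hVC hx))
  have hVQ : VV δ ≤ QQ (cj m (cj g δ)) := by
    rw [QQ_cj, ← q1c_cjV hm]
    exact cj_mono m fun x hx => (ld'.memQ (la'.Q_le (h.un' hx))).2 (le_Cs_comm.1 hVC hx)
  have hgR : cj g ⁅VV δ, B⁆ = ⁅VV δ, B⁆ :=
    cj_eq_of_mem_normalizer (centralizer_le_normalizer _ (le_Cs_comm.1 hR hg))
  have eR : ⁅VV (cj m (cj g δ)), cj m (cj g B)⁆ = cj m ⁅VV δ, B⁆ := by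
    rw [VV_cj, VV_cj, ← cj_commutator, ← cj_commutator, hgR]
  have hA'N : A ⊓ QQ α ⊔ VV α ≤ QQ α ⊓ QQ δ :=
    sup_le (le_inf inf_le_right (inf_le_left.trans h2)) (le_inf (PU.vv_le α) h.un)
  have hNQ : ¬ QQ α ⊓ QQ δ ≤ QQ (cj m (cj g δ)) := by
    intro hc
    rw [QQ_cj, ← cj_inv_le_iff_le_cj, hN _ (inv_mem hm)] at hc
    exact h0 (le_sup_left.trans (hA'N.trans hc))
  obtain ⟨a, ha, haQ⟩ := SetLike.not_le_iff_exists.1 (h3 g hg hn)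
  have haB : a ∈ B := h.la.Q_le ha.2
  have haδ : a ∈ δ := h.ld.le haB
  have hgA : Mx (QQ α) (cj g (A ⊓ QQ α ⊔ VV α)) := by
    have h5 := mx_cj hAQ g
    rwa [q1c_cjQ hg] at h5
  have haA : a ∈ cj g (A ⊓ QQ α ⊔ VV α) := by
    refine cj_mono g le_sup_left ?_
    rw [cj_inf, q1c_cjQ hg]; exact ha
  have ha2 : a⁻¹ = a := inv_eq_of_mul_eq_one_right (mx_sq hgA haA)
  have key : ∀ x, x ∈ cj m ⁅VV δ, B⁆ → x ∈ cj a (cj m ⁅VV δ, B⁆) → x ∈ Cs (cj m (cj g δ)) := by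
    intro x hx1 hx2
    have h5 := q1c_key h.ld hz hm hmn haB haQ hx1 hx2
    have h6 : x ∈ Cs α := hR (h.ld.R_inf hm ⟨hx1, h5⟩)
    rw [← cj_Cs, ← cj_Cs, mem_cj, mem_cj]
    have e1 : m⁻¹ * x * m = x := by rw [mul_assoc, ← mem_Cs.1 h5 m hm]; group
    have e2 : g⁻¹ * x * g = x := by rw [mul_assoc, ← mem_Cs.1 h6 g hg]; group
    rw [e1, e2]; exact h5
  obtain ⟨hgB, hgQ⟩ := h.la.mx_Q.1 hgA
  obtain ⟨-, hC, -⟩ := h.ld.la hgB (fun hc => haQ (hc haA))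
  set C₁ := cj g (A ⊓ QQ α ⊔ VV α) ⊓ QQ δ ⊔ VV δ with hC₁
  have hCN : C₁ ≤ QQ α ⊓ QQ δ :=
    sup_le (inf_le_inf_right _ hgQ) (le_inf h.un' (PU.vv_le δ))
  have hCε : Mx (cj m (cj g B)) C₁ := by
    have h5 : Mx (QQ α ⊓ QQ δ) C₁ := (mx_up hC hCN (inf_le_left.trans h.la.Q_le)).2 ⟨hC, hCN⟩
    have h6 : cj m (A ⊓ QQ α ⊔ VV α) ≤ QQ α ⊓ QQ δ := by
      rw [← hN m hm]; exact cj_mono m hA'N
    exact ((mx_up (mx_cj hA' m) h6 hNB).1 h5).1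
  have hact : ∀ c ∈ C₁, ∃ w ∈ VV δ, a * c * a⁻¹ = w * c := by
    intro c hc
    obtain ⟨y, hy, v, hv, rfl⟩ := q1c_split (L := δ) inf_le_right hc
    have hv' : a * v * a⁻¹ ∈ VV δ := by
      rw [← q1c_cjV haδ]; exact conj_mem_cj.2 hv
    refine ⟨a * v * a⁻¹ * v⁻¹, mul_mem hv' (inv_mem hv), ?_⟩
    have c1 : y * a = a * y := mem_Cs.1 (mx_cs hgA haA) y hy.1
    have c2 := mem_Cs.1 (PU.vv_le_cent δ hv') y hy.2
    have c3 := mem_Cs.1 (PU.vv_le_cent δ hv) y hy.2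
    calc a * (y * v) * a⁻¹ = y * (a * v * a⁻¹) := by rw [← mul_assoc a y v, ← c1]; group
      _ = a * v * a⁻¹ * y := c2
      _ = _ := by rw [c3]; group
  obtain ⟨v, hv, hvZ⟩ := q1c_exv le
  by_cases hcase : C₁ ≤ QQ (cj m (cj g δ))
  · obtain ⟨n, hn1, hn2⟩ := SetLike.not_le_iff_exists.1 hNQ
    apply hvZ
    refine le.reg (hNB hn1) hn2 hv (key _ ?_ ?_)
    · rw [← eR, Subgroup.commutator_comm]
      exact commutator_mem_commutator (hNB hn1) hv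
    · obtain ⟨w, hw, ew⟩ := hact v (le.V_le_mx hCε hcase hv)
      have hn' : a * n * a⁻¹ ∈ QQ α ⊓ QQ δ := by
        rw [← hN a haδ]; exact conj_mem_cj.2 hn1
      have e1 : a * ⁅n, v⁆ * a⁻¹ = ⁅a * n * a⁻¹, a * v * a⁻¹⁆ := by
        simp only [commutatorElement_def]; group
      have e2 : ⁅w * v, a * n * a⁻¹⁆ = ⁅v, a * n * a⁻¹⁆ :=
        q1c_left (mem_Cs.1 (PU.vv_le_cent δ hw) v (hVN hv).2).symm
          (mem_Cs.1 (PU.vv_le_cent δ hw) _ hn'.2).symm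
      rw [← ha2, mem_cj_inv, e1, ew, ← commutatorElement_inv, e2, ← eR]
      exact inv_mem (commutator_mem_commutator hv (hNB hn'))
  · have le' := le.cj a
    obtain ⟨e1, hK, -⟩ := le.la hCε hcase
    have hVN' : VV (cj a (cj m (cj g δ))) ≤ QQ α ⊓ QQ δ := by
      rw [VV_cj, ← hN a haδ]; exact cj_mono a hVN
    have eR' : ⁅VV (cj a (cj m (cj g δ))), cj a (cj m (cj g B))⁆ = cj a (cj m ⁅VV δ, B⁆) := by
      rw [VV_cj, ← cj_commutator, eR]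
    by_cases hc2 : VV (cj a (cj m (cj g δ))) ≤ QQ (cj m (cj g δ))
    · have hK1 : C₁ ⊓ QQ (cj m (cj g δ)) ≤ QQ (cj a (cj m (cj g δ))) := by
        intro c hc
        obtain ⟨w, hw, ew⟩ := hact c hc.1
        rw [QQ_cj, ← ha2, mem_cj_inv, ew]
        exact mul_mem (hVQ hw) hc.2
      have haC : cj a C₁ = C₁ := by
        refine mem_Ns_iff.1 (q1c_ns (cj_le_iff.2 fun c hc => ?_))
        obtain ⟨w, hw, ew⟩ := hact c hc
        rw [ew]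
        exact mul_mem (mem_sup_right hw) hc
      have e2 : C₁ ⊔ QQ (cj a (cj m (cj g δ))) = cj a (cj m (cj g B)) := by
        rw [← e1, cj_sup, haC, QQ_cj a]
      have hW : VV (cj a (cj m (cj g δ))) ≤ C₁ ⊓ QQ (cj m (cj g δ)) ⊔ VV (cj m (cj g δ)) :=
        mx_le hK (hc2.trans le.Q_le)
          (le_Cs_comm.1 (sup_le (hK1.trans (PU.Q_le_cent _))
            (le_Cs_comm.1 (hc2.trans (PU.Q_le_cent _))))) (fun w hw => VV_sq hw)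
      have h5 : cj a (cj m ⁅VV δ, B⁆) ≤ cj m ⁅VV δ, B⁆ := by
        rw [← eR', le'.R_eq e2, ← eR]
        exact q1c_comm (hCN.trans hNB) (inf_le_left.trans (mx_cs hC)) inf_le_right hW
      apply h.ld.R_not
      have h6 : cj a (cj m ⁅VV δ, B⁆) ≤ cj a (cj m (Cs δ)) := by
        rw [cj_Cs m δ, cj_eq_of_mem hm, cj_Cs a δ, cj_eq_of_mem haδ]
        exact fun x hx => q1c_key h.ld hz hm hmn haB haQ (h5 hx) hx
      exact cj_le_cj.1 (cj_le_cj.1 h6)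
    · obtain ⟨v', hv1, hv2⟩ := SetLike.not_le_iff_exists.1 hc2
      apply hvZ
      refine le.reg (hNB (hVN' hv1)) hv2 hv (key _ ?_ ?_)
      · rw [← eR, Subgroup.commutator_comm]
        exact commutator_mem_commutator (hNB (hVN' hv1)) hv
      · rw [← eR']
        refine commutator_mem_commutator hv1 ?_
        have h5 : QQ α ⊓ QQ δ ≤ cj a (cj m (cj g B)) := by
          rw [← hN a haδ]; exact cj_mono a hNB
        exact h5 (hVN hv)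

end Cfsg.Lib.Bau
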