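import Cfsg.Agent.Bau.LvB
import Cfsg.Agent.Bau.Theta

set_option autoImplicit false
set_option linter.unusedSectionVars false

open scoped commutatorElement

namespace Cfsg.Lib.Bau

open Cfsg Subgroup Cfsg.Lib.Trans Cfsg.Lib.Trans.TJ Cfsg.Lib.Gold Cfsg.Lib.Gomi

universe u

variable {G : Type u} [Group G] [Finite G]
  {A A' B C E H J J' K L L' L₁ L₂ M P S S' T V V' W W' X α δ : Subgroup G}
  {a b c d e g k n r r' s t t' u u' v w x x' y y' z z' : G}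

namespace Xb1

theorem cs_iff : v ∈ Cs X ↔ X ≤ C1 v :=
  ⟨fun h x hx => mem_C1.2 (h x hx), fun h _ hx => mem_C1.1 (h hx)⟩

theorem two (h : H.relIndex X = 2) (ha : a ∈ X) (hb : b ∈ X) (h1 : a ∉ H) (h2 : b ∉ H) :
    a * b ∈ H :=
  (mul_mem_iff_of_index_two (H := H.subgroupOf X) h (a := ⟨a, ha⟩) (b := ⟨b, hb⟩)).2
    (iff_of_false h1 h2)

end Xb1

open Xb1

theorem XB.ab (h : XB K t S V W) : AB V W := h.lv.ap.ab

theorem XB.symm (h : XB K t S V W) : XB K t S W V :=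
  ⟨h.ctx, h.th, h.lv.symm, h.gen.trans (sup_comm _ _).le⟩

theorem XB.cj (h : XB K t S V W) (g : G) :
    XB K (g * t * g⁻¹) (cj g S) (cj g V) (cj g W) := by
  have := h.ctx.normal
  have e : Trans.cj g K = K := mem_Ns_iff.1 ((normalizer_eq_top K).ge (mem_top g))
  refine ⟨⟨this, h.ctx.simple, h.ctx.nonab, ?_, h.ctx.cent, h.ctx.tc.cj g⟩, ?_,
    JJ_cj g S ▸ h.lv.cj g, ?_⟩
  · rw [← e, ← cj_zpowers, ← cj_sup, h.ctx.sup, cj_top]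
  · rw [← cj_Cs]; exact cj_mono g h.th
  · rw [EE_cj, EE_cj, ← cj_sup, ← e]; exact cj_mono g h.gen

theorem XB.eq_one (h : XB K t S V W) (h1 : g ∈ Cs (EE V W)) (h2 : g ∈ Cs (EE W V)) : g = 1 :=
  h.ctx.cent.le (cs_iff.2 (h.gen.trans (sup_le (cs_iff.1 h1) (cs_iff.1 h2))))

theorem XB.eq_one' (h : XB K t S V W) (h1 : g ∈ Cs (LL V W)) (h2 : g ∈ Cs (LL W V)) : g = 1 :=
  h.eq_one (TJ.centralizer_anti (Local.resOf_le _) h1) (TJ.centralizer_anti (Local.resOf_le _) h2)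

theorem XB.ZZ_one (h : XB K t S V W) (h1 : g ∈ ZZ V W) (h2 : g ∈ ZZ W V) : g = 1 :=
  h.eq_one' (ZZ_le_Cs h1) (ZZ_le_Cs h2)

theorem XB.ZZ_inf (h : XB K t S V W) : ZZ V W ⊓ ZZ W V = ⊥ :=
  eq_bot_iff.2 fun _ hg => h.ZZ_one hg.1 hg.2

theorem XB.mx_cs' (h : XB K t S V W) (hA : Mx (JJ S) A) (hc : c ∈ A ⊓ Cs V ⊓ Cs W)
    (hA' : Mx (JJ S) A') (h1 : V ≤ A') : c ∈ Cs A' := by
  have p := h.lv.ap
  refine cs_iff.2 ((p.swV A' hA' h1).1.trans (sup_le (cs_iff.1 hc.1.2) fun a ha => mem_C1.2 ?_))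
  have ha' : a ∈ Cs V := TJ.centralizer_anti h1 (mx_cs hA' ha.1)
  exact commutatorElement_eq_one_iff_mul_comm.1 (h.eq_one'
    (h.lv.cm (p.inf_le_YY hA' ⟨⟨ha.1, ha'⟩, ha.2⟩) (p.inf_le_YY hA hc))
    (h.lv.symm.cm (p.symm.inf_le_YY hA' ⟨ha, ha'⟩) (p.symm.inf_le_YY hA ⟨⟨hc.1.1, hc.2⟩, hc.1.2⟩)))

theorem XB.mx_eq (h : XB K t S V W) (hA : Mx (JJ S) A) (h1 : V ≤ A) : A = V := by
  refine le_antisymm ((h.lv.ap.swV A hA h1).1.trans (sup_le le_rfl fun c hc => ?_)) h1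
  have hc' : c ∈ Cs V := TJ.centralizer_anti h1 (mx_cs hA hc.1)
  refine (h.lv.ap.inf.ge (mem_OZ_J.2 fun A' hA' => ?_)).1
  have hA' := mx_J.2 hA'
  exact mx_mem hA' (mx_le_J (mx_J.1 hA) hc.1) ((h.lv.ap.cov A' hA').elim
    (h.mx_cs' hA ⟨⟨hc.1, hc'⟩, hc.2⟩ hA') (h.symm.mx_cs' hA ⟨hc, hc'⟩ hA')) (mx_sq hA hc.1)

theorem XB.mx_V (h : XB K t S V W) : Mx S V := by
  obtain ⟨A, hA, h1⟩ := h.lv.ap.exists_mx
  exact h.mx_eq hA h1 ▸ mx_J.1 hA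

theorem XB.mx (h : XB K t S V W) : Mx S A ↔ A = V ∨ A = W :=
  ⟨fun hA => (h.lv.ap.cov A (mx_J.2 hA)).imp (h.mx_eq (mx_J.2 hA)) (h.symm.mx_eq (mx_J.2 hA)),
    fun e => e.elim (· ▸ h.mx_V) (· ▸ h.symm.mx_V)⟩

theorem XB.J_eq (h : XB K t S V W) : JJ S = V ⊔ W :=
  le_antisymm (JJ_le_of fun _ hA => (h.mx.1 hA).elim (·.le.trans le_sup_left)
    (·.le.trans le_sup_right)) (sup_le h.lv.ap.lV h.lv.ap.lW)

theorem XB.triv (h : XB K t S V W) (hb : Triv V W b) : b ∈ V ⊔ W := by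
  have l := h.lv
  obtain ⟨w, hw, v, hv, -, -, c1, c2⟩ := l.exists_cent2 hb
  have hw : w ∈ V ⊔ W := mem_sup_right (l.symm.UU_le hw)
  have hv : v ∈ V ⊔ W := mem_sup_left (l.UU_le hv)
  rw [← mul_mem_cancel_right hw, ← mul_mem_cancel_right hv]
  have hb := l.triv_mul (l.triv_mul hb (l.triv_of_mem hw)) (l.triv_of_mem hv)
  generalize b * w * v = b at c1 c2 hb
  have k : ∀ {V W}, Live (JJ S) V W → b ∈ Ns V → b ∈ Cs (UU V W) → b ∈ Cs (UU W V) →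
      b * b ∈ Cs (EE V W) := fun l n c1 c2 => by
    obtain ⟨r, hr, e⟩ := l.p1 n c1 c2
    have := mul_mem e e
    rwa [mul_assoc, ← mul_assoc r, c1 r (l.R_le hr).1.1, mul_assoc, l.ap.sq (l.R_le hr).2.1,
      mul_one] at this
  have b2 := h.eq_one (k l hb.nV c1 c2) (k l.symm hb.nW c2 c1)
  have cV : b ∈ Cs V := cs_iff.2 (l.V_le.trans (sup_le (cs_iff.1 c1) fun z hz => mem_C1.2 (by
    have hz := ZZ_le h.ab hz
    exact (commutatorElement_eq_one_iff_mul_comm.1 (h.ZZ_one (l.triv_Z hb hz)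
      (l.symm.triv_Z hb.symm ⟨hz.2, hz.1⟩))).symm)))
  have hP : IsPGroup 2 (V ⊔ W ⊔ zpowers b : Subgroup G) := h.ab.isPGroup.to_sup_of_normal_left'
    (Tl.isPGroup_of_sq fun u hu => by
      rcases Tl.mem_zpowers_of_sq b2 hu with rfl | rfl
      exacts [one_mul 1, b2])
    (zpowers_le.2 (normalizer_inf_normalizer_le_normalizer_sup _ _ ⟨hb.nV, hb.nW⟩))
  exact mem_sup_left (mx_mem ((mx_of_JJ_eq (JJ_eq_of_syl h.ctx.tc.syl hP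
    (h.J_eq.le.trans le_sup_left))).2 h.mx_V) (mem_sup_right (mem_zpowers b)) cV b2)

theorem XB.mem_Z (h : XB K t S V W) (he : TC e S) : e ∈ V ⊓ W := h.lv.ap.inf.ge he.mem_OZ_J

theorem XB.t_mem (h : XB K t S V W) : t ∈ V ⊓ W := h.mem_Z h.ctx.tc

theorem XB.dd_not (h : XB K t S V W) (hd : DD d) : d ∉ ZZ V W := fun e =>
  h.lv.noD hd (ZZ_le_Cs e)

theorem XB.top (h : XB K t S V W) : K = ⊤ := by
  have R : ⁅V, W⁆ ≤ K := (h.lv.R_le.trans (inf_le_left.trans inf_le_left)).trans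
    (h.lv.UU_le_EE.trans (h.ctx.le_of_res O2_O2))
  obtain ⟨F, _, _, p, p'⟩ := h.lv.par
  refine h.ctx.eq_top (R ?_)
  rcases (show 2 ≤ Fintype.card F from Fintype.one_lt_card).eq_or_lt with q | q
  swap; · exact (p.commutator_eq p' q h.ZZ_inf).ge h.t_mem
  obtain ⟨v, hv, nv⟩ := h.ab.exists_A
  obtain ⟨w, hw, nw⟩ := h.ab.exists_B
  have m := h.ab.comm_mem hv hw
  have := h.ZZ_one (two (p.relIndex_Z.trans q.symm) h.t_mem m (h.dd_not h.ctx.tc.dd)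
    (p.comm_not_mem hv nv hw nw)) (two (p'.relIndex_Z.trans q.symm) h.symm.t_mem ⟨m.2, m.1⟩
      (h.symm.dd_not h.ctx.tc.dd) fun e => p'.comm_not_mem hw nw hv nv (by
        rw [← commutatorElement_inv]; exact inv_mem e))
  exact eq_inv_of_mul_eq_one_left this ▸ inv_mem (commutator_mem_commutator hv hw)

theorem XB.tr (h : XB K t S V W) (hd : DD d) (h0 : d ∈ V ⊓ W) (hz : z ∈ V ⊓ W) (h1 : z ∉ ZZ V W) :
    ∃ l ∈ LL V W, l ∈ Ns W ∧ l * d * l⁻¹ ∈ V ⊓ W ∧ z * (l * d * l⁻¹) ∈ ZZ V W := by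
  have e := h.lv.OZ_sup
  obtain ⟨l, hl, k1, k2, -⟩ := h.lv.hV.ln.tr h.lv.zd' (e.ge h0) (h.lv.noD hd) (e.ge hz)
    fun e => h1 ⟨hz.1, e⟩
  exact ⟨l, hl, (h.lv.ns_W hl (h.lv.hV.ln.mem_ns h.lv.zd' hl (e.ge h0) (h.lv.noD hd) k1)).1,
    e.le k1, mul_mem hz.1 (e.le k1).1, k2⟩

theorem XB.conj_Z (h : XB K t S V W) (hz : z ∈ V ⊓ W) (h1 : z ∉ ZZ V W) (h2 : z ∉ ZZ W V) :
    IsConj t z := by
  obtain ⟨l, -, -, k1, k2⟩ := h.tr h.ctx.tc.dd h.t_mem hz h1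
  have f : ∀ {u}, z * u = 1 → u = z := fun e =>
    (eq_inv_of_mul_eq_one_right e).trans (inv_eq_of_mul_eq_one_right (h.ab.sqA z hz.1))
  obtain ⟨F, _, _, p, p'⟩ := h.lv.par
  rcases p.eq_or_sup p' with e | e
  · exact isConj_iff.2 ⟨l, f (h.ZZ_one k2 (e ▸ k2))⟩
  obtain ⟨m, hm, nm, -, k4⟩ := h.symm.tr (h.ctx.tc.dd.cj l) ⟨k1.2, k1.1⟩ ⟨hz.2, hz.1⟩ h2
  have n : ZZ W V ≤ Ns (ZZ V W) :=
    ((ZZ_le h.ab.symm).trans inf_le_right).trans (le_normalizer.trans Ns_le_Ns_ZZ)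
  obtain ⟨a, ha, b, hb, e1⟩ := (Solv.mem_sup_of_le_normalizer n).1 (e.ge k1)
  refine (isConj_iff.2 ⟨l, rfl⟩).trans (isConj_iff.2 ⟨m, f (h.ZZ_one ?_ k4)⟩)
  have := mul_mem k2 (mem_normalizer_conj (inv_mem (n hb))
    (mul_mem (inv_mem ha) (mem_normalizer_conj (Ns_le_Ns_ZZ nm) ha)))
  rw [← e1] at this ⊢
  convert this using 1
  rw [show m * (a * b) * m⁻¹ = m * a * m⁻¹ * (m * b) * m⁻¹ by group, ZZ_le_Cs hb m hm]; group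

theorem XB.conj (h : XB K t S V W) (hd : DD d) : IsConj t d :=
  h.ctx.tc.one_class (fun _ he => h.conj_Z (h.mem_Z he) (h.dd_not he.dd) (h.symm.dd_not he.dd)) hd

theorem XB.J_of_Z (h : XB K t S V W) (hd : TC d S') (h1 : d ∈ V ⊓ W) : JJ S' = V ⊔ W :=
  (JJ_eq_of_syl h.ctx.tc.syl hd.pg (h.J_eq.le.trans (hd.le_of h.ab.isPGroup fun _ hs =>
    mem_C1.2 (h.ab.comm_Z hs h1).symm))).trans h.J_eq

theorem XB.J_of (h : XB K t S V W) (hd : TC d S') (h1 : d ∈ V) :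
    ∃ l ∈ LL V W, JJ S' = V ⊔ Trans.cj l W ∧ d ∈ Trans.cj l W := by
  obtain ⟨l, hl, e⟩ := h.lv.hV.ln.cover (h.lv.hV.vv.ge h1)
  rw [h.lv.OZ_sup, cj_inf] at e
  exact ⟨l, hl, by rw [(h.cj l).J_of_Z hd e, mem_Ns_iff.1 (LL_le h.ab hl)], e.2⟩

theorem XB.swap_or (h : XB K t S V W) (hn : n ∈ Ns (V ⊔ W)) :
    (n ∈ Ns V ∧ n ∈ Ns W) ∨ (Trans.cj n V = W ∧ Trans.cj n W = V) :=
  (h.ab.cj_eq_or hn).imp_left fun e => ⟨e, h.ab.Ns_inf_le ⟨hn, e⟩⟩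

end Cfsg.Lib.Bau
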