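import Cfsg.Agent.Bau.Xb1
import Cfsg.Agent.Bau.Prod

set_option autoImplicit false
set_option linter.unusedSectionVars false

open scoped commutatorElement

namespace Cfsg.Lib.Bau

open Cfsg Subgroup Cfsg.Lib.Trans Cfsg.Lib.Trans.TJ Cfsg.Lib.Gold Cfsg.Lib.Gomi

universe u

variable {G : Type u} [Group G] [Finite G]
  {A A' B C E H J J' K L L' L₁ L₂ M P S S' T V V' W W' X α δ : Subgroup G}
  {a b c d e g k n r r' s t t' u u' v w x x' y y' z z' : G}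

theorem XB.field (h : XB K t S V W) (hw : DD w) (h1 : w ∈ Ns V) (h2 : w ∈ Ns W) : w ∈ V ⊔ W := by
  obtain ⟨T, tc⟩ := hw
  rcases h.lv.fix h1 h2 tc.sq with e | ⟨⟨v1, m1, n1, c1⟩, v2, m2, n2, c2⟩
  · exact h.triv e
  have m1 := h.lv.UU_le m1
  have m2 := h.lv.symm.UU_le m2
  have ln := h.lv.hV.ln
  have zd := h.lv.zd'
  have oz := h.lv.OZ_sup
  obtain ⟨l, hl, e⟩ := ln.cover (h.lv.hV.vv.ge m1)
  rw [oz, mem_cj] at e
  have nl : l ∉ Ns (V ⊔ W) := fun k => n1 (by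
    simpa [mul_assoc] using mem_normalizer_conj (h.lv.ns_W hl k).1 e.2)
  have nz : l⁻¹ * v1 * l ∉ Cs (LL V W) := fun k => n1 (by
    have := mul_right_cancel ((show v1 * l = _ by group).trans (k l hl))
    exact this ▸ e.2)
  have hg := mul_mem (inv_mem (mem_normalizer_conj (Ns_le_Ns_LL (B := W) h1) hl)) hl
  have hg' := (h.lv.ns_W hg (ln.mem_ns zd hg (oz.ge e) nz (oz.ge (by
    have : w * (l⁻¹ * v1 * l) * w⁻¹ ∈ V ⊓ W :=
      ⟨mem_normalizer_conj h1 e.1, mem_normalizer_conj h2 e.2⟩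
    convert this using 1
    exact (show _ = w * l⁻¹ * w⁻¹ * (v1 * w) * l * w⁻¹ by group).trans
      (by rw [mem_C1.1 c1]; group))))).1
  have h2' : w ∈ Ns (Trans.cj l W) := by
    rw [← cj_Ns, mem_cj]
    convert inv_mem (mul_mem (inv_mem h2) hg') using 1; group
  have h' := h.cj l
  rw [mem_Ns_iff.1 (LL_le h.ab hl)] at h'
  have hle : Trans.cj l W ≤ LL V W := fun x hx => by
    simpa [mul_assoc] using mul_mem (mul_mem hl (B_le_LL (mem_cj.1 hx))) (inv_mem hl)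
  rcases h'.lv.fix h1 h2' tc.sq with e | ⟨-, v3, m3, n3, c3⟩
  · have hP : IsPGroup 2 (V ⊔ W ⊔ zpowers w : Subgroup G) := h.ab.isPGroup.to_sup_of_normal_left'
      (tc.pg.to_le (zpowers_le.2 tc.mem))
      (zpowers_le.2 (normalizer_inf_normalizer_le_normalizer_sup _ _ ⟨h1, h2⟩))
    exact (ln.syl.eq_of_le hP le_sup_left (sup_le ln.le (zpowers_le.2
      (sup_le (le_sup_left.trans ln.le) hle (h'.triv e))))).le (mem_sup_right (mem_zpowers w))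
  have m3 := h'.lv.symm.UU_le m3
  obtain ⟨m, hm, k⟩ := ln.syl.exists_cj_le (tc.pg.to_le (inf_le_left (b := LL V W))) inf_le_right
  have k : T ⊓ LL V W ≤ Trans.cj m⁻¹ (V ⊔ W) := (cj_inv_cj m _).ge.trans (cj_mono _ k)
  by_cases nm : m⁻¹ ∈ Ns (V ⊔ W)
  · rw [mem_Ns_iff.1 nm] at k
    exact (n3 (h.lv.hV.qq.le (ln.ti zd hl nl ⟨k ⟨tc.mem_of_sq (h'.ab.sqB _ m3) c3, hle m3⟩,
      cj_mono l le_sup_right m3⟩))).elim
  · exact (n2 (h.lv.hV.qq.le (ln.ti zd (inv_mem hm) nm ⟨mem_sup_right m2,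
      k ⟨tc.mem_of_sq (h.ab.sqB _ m2) c2, B_le_LL m2⟩⟩))).elim

theorem XB.ns_sup (h : XB K t S V W) : S ≤ Ns (V ⊔ W) :=
  le_normalizer.trans (h.J_eq ▸ ns_le_JJ)

theorem XB.dd_swap (h : XB K t S V W) (hw : DD w) (h1 : w ∈ S) (h2 : w ∉ V ⊔ W) :
    Trans.cj w V = W ∧ Trans.cj w W = V :=
  (h.swap_or (h.ns_sup h1)).resolve_left fun e => h2 (h.field hw e.1 e.2)

theorem XB.dd_key (h : XB K t S V W) (h' : XB K t' S' V' W') (tc : TC w S') (nw : w ∉ V ⊔ W)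
    (sv : Trans.cj w V = W) (sw : Trans.cj w W = V) (he : e ∈ V ⊓ W) (hc : e ∈ C1 w)
    (h1 : e ≠ 1) : Trans.cj e V' = W' ∧ Trans.cj e W' = V' := by
  have f : ∀ {X}, e ∈ X → e ∈ Trans.cj w X := fun k => by
    rwa [mem_cj, mul_assoc, mem_C1.1 hc, inv_mul_cancel_left]
  obtain ⟨c, rfl⟩ := isConj_iff.1 (h.conj_Z he
    (fun k => h1 (h.ZZ_one k (by simpa only [← ZZ_cj, sv, sw] using f k)))
    (fun k => h1 (h.ZZ_one (by simpa only [← ZZ_cj, sv, sw] using f k) k)))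
  have te := h.ctx.tc.cj c
  refine h'.dd_swap te.dd (tc.mem_of_sq te.sq hc) fun k => nw ((h.J_of_Z te he).le ?_)
  rcases h'.ab.inv _ k te.sq with k | k
  · obtain ⟨l, -, e, -⟩ := h'.J_of te k
    exact e.ge (mem_sup_left (h'.mem_Z tc).1)
  · obtain ⟨l, -, e, -⟩ := h'.symm.J_of te k
    exact e.ge (mem_sup_left (h'.mem_Z tc).2)

theorem XB.dd_mem (h : XB K t S V W) (hw : DD w) (h1 : w ∈ S) : w ∈ V ⊔ W := by
  by_contra nw
  obtain ⟨sv, sw⟩ := h.dd_swap hw h1 nw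
  obtain ⟨T, tc⟩ := hw
  obtain ⟨g, rfl⟩ := tc.exists_cj h.ctx.tc
  have h' := h.cj g
  generalize Trans.cj g V = V', Trans.cj g W = W', Trans.cj g S = T, g * t * g⁻¹ = t' at h' tc
  have key := fun e => h.dd_key (e := e) h' tc nw sv sw
  have ab := h.ab
  have iv : ∀ {x : G}, x * x = 1 → x⁻¹ = x := inv_eq_of_mul_eq_one_right
  have uq : ∀ e ∈ V ⊓ W, e ∈ C1 w → e ≠ 1 → ∀ e' ∈ V ⊓ W, e' ∈ C1 w → e' ≠ 1 → e = e' := by
    intro e a1 a2 a3 e' b1 b2 b3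
    by_contra ne
    have := (key _ (mul_mem a1 b1) (mul_mem a2 b2) fun k =>
      ne ((eq_inv_of_mul_eq_one_left k).trans (iv (ab.sqA _ b1.1)))).1
    rw [cj_mul, (key _ b1 b2 b3).1, (key _ a1 a2 a3).2] at this
    exact h'.ab.nle this.le
  obtain ⟨v, hv, nv⟩ := ab.exists_A
  have ww : ∀ x : G, w * (w * x * w⁻¹) * w⁻¹ = x := fun x =>
    (show _ = w * w * x * (w * w)⁻¹ by group).trans (by rw [tc.sq]; group)
  have hv' : w * v * w⁻¹ ∈ W := sv ▸ conj_mem_cj.2 hv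
  have nv' : w * v * w⁻¹ ∉ V := fun k => nv (by
    have : w * (w * v * w⁻¹) * w⁻¹ ∈ W := sv ▸ conj_mem_cj.2 k
    rwa [ww] at this)
  have ev := ww v
  generalize w * v * w⁻¹ = v' at hv' nv' ev
  have ev' : w * v * w⁻¹ = v' := by rw [← ev, ww]
  have hz := ab.comm_mem hv hv'
  have z1 : ⁅v, v'⁆ ≠ 1 := fun k =>
    (ab.mem_or_mem hv hv' (commutatorElement_eq_one_iff_mul_comm.1 k)).elim nv nv'
  have z2 := iv (ab.sqA _ hz.1)
  have zc : ⁅v, v'⁆ ∈ C1 w := mem_C1.2 (by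
    rw [← mul_inv_eq_iff_eq_mul.1 (show w * ⁅v, v'⁆ * w⁻¹ = ⁅v, v'⁆ by
      rw [conj_comm, ev, ev', ← commutatorElement_inv, z2])])
  by_cases hA : ∃ y ∈ V ⊓ W, y * (w * y * w⁻¹) ≠ 1
  · obtain ⟨y, hy, ny⟩ := hA
    have hy' : w * y * w⁻¹ ∈ V ⊓ W := ⟨sw ▸ conj_mem_cj.2 hy.2, sv ▸ conj_mem_cj.2 hy.1⟩
    have e := uq _ (mul_mem hy hy') (mem_C1.2 (by
      rw [← mul_inv_eq_iff_eq_mul.1 (show w * (y * (w * y * w⁻¹)) * w⁻¹ = y * (w * y * w⁻¹) by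
        rw [← conj_mul, ww, ab.commA hy.1 hy'.1])])) ny _ hz zc z1
    have vv : v * v' ∈ V ⊔ W := mul_mem (mem_sup_left hv) (mem_sup_right hv')
    have hj : v * v' * y ∈ T := tc.mem_of_pg ab.isPGroup (mul_mem vv (mem_sup_left hy.1))
      (mem_C1.2 (by
        rw [← mul_inv_eq_iff_eq_mul.1 (show w * (v * v' * y) * w⁻¹ = v * v' * y by
          rw [← conj_mul, ← conj_mul, ev, ev', show v' * v = ⁅v, v'⁆⁻¹ * (v * v') by group, z2,
            ab.comm_Z vv hz, ← e, mul_assoc, mul_assoc y, ab.sqA _ hy'.1, mul_one])]))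
    have j2 : v * v' * y * (v * v' * y) = ⁅v, v'⁆ := by
      rw [mul_assoc, ← mul_assoc y, ab.comm_Z vv hy, mul_assoc _ y, ab.sqA _ hy.1, mul_one,
        ab.mul_sq hv hv']
    have := (key _ hz zc z1).1
    rw [← j2, cj_mul] at this
    rcases h'.swap_or (h'.ns_sup hj) with k | k
    · rw [mem_Ns_iff.1 k.1, mem_Ns_iff.1 k.1] at this
      exact h'.ab.nle this.le
    · rw [k.1, k.2] at this
      exact h'.ab.nle this.le
  push Not at hA
  have cw : ∀ y ∈ V ⊓ W, y ∈ C1 w := fun y hy => mem_C1.2 (by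
    rw [← mul_inv_eq_iff_eq_mul.1
      ((eq_inv_of_mul_eq_one_right (hA y hy)).trans (iv (ab.sqA _ hy.1)))])
  have eZ : V ⊓ W = zpowers ⁅v, v'⁆ := le_antisymm (fun y hy => by
    by_cases k : y = 1
    · exact k ▸ one_mem _
    · exact uq _ hy (cw _ hy) k _ hz zc z1 ▸ mem_zpowers _) (zpowers_le.2 hz)
  have sq : ⁅v, v'⁆ ^ 2 = 1 := (sq _).trans (ab.sqA _ hz.1)
  obtain ⟨F, _, _, p, -⟩ := h.lv.par
  have q : Fintype.card F ≤ 2 := by
    rw [← p.relIndex_Z]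
    refine (Nat.le_of_dvd Nat.card_pos (relIndex_dvd_card _ _)).trans ?_
    rw [eZ, Nat.card_zpowers]
    exact orderOf_le_of_pow_eq_one two_pos sq
  have wc : w ∈ Cs (V ⊓ W) := Xb1.cs_iff.2 cw
  have hm : Mx S (V ⊓ W ⊔ zpowers w) := h.mx_V.of_card_le
    (sup_le (inf_le_left.trans h.mx_V.1) (zpowers_le.2 h1))
    (ea_sup (eZ ▸ ea_zpowers sq) (ea_zpowers ((pow_two _).trans tc.sq))
      (le_centralizer_iff.1 (zpowers_le.2 wc))) (by
      rw [card_sup_zpowers tc.sq wc fun k => nw (mem_sup_left k.1),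
        ← card_mul_relIndex (inf_le_left (a := V) (b := W)), inf_relIndex_left, p.relIndex_A,
        mul_comm]
      exact Nat.mul_le_mul_right _ q)
  rcases h.mx.1 hm with e | e
  · exact nw (mem_sup_left (e.le (mem_sup_right (mem_zpowers w))))
  · exact nw (mem_sup_right (e.le (mem_sup_right (mem_zpowers w))))

end Cfsg.Lib.Bau
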