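import Cfsg.Agent.Bau.Xb3
import Cfsg.Agent.Bau.Tr

/-! The end game for a live pair: transfer. -/

set_option autoImplicit false
set_option linter.unusedSectionVars false

open scoped commutatorElement

namespace Cfsg.Lib.Bau

open Cfsg Subgroup Cfsg.Lib.Trans Cfsg.Lib.Trans.TJ Cfsg.Lib.Gold Cfsg.Lib.Gomi

universe u

variable {G : Type u} [Group G] [Finite G]
  {A A' B C E H J J' K L L' L₁ L₂ M P S S' T V V' W W' X α δ : Subgroup G}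
  {a b c d e g k n r r' s t t' u u' v w x x' y y' z z' : G}

theorem XB.S_le_ns (h : XB K t S V W) : S ≤ Ns (V ⊔ W) :=
  h.J_eq ▸ le_normalizer.trans ns_le_JJ

theorem XB.ns_of_Z (h : XB K t S V W) (h1 : n * t * n⁻¹ ∈ V ⊓ W) : n ∈ Ns (V ⊔ W) := by
  have := h.J_of_Z (h.ctx.tc.cj n) h1
  rw [JJ_cj, h.J_eq] at this
  exact mem_Ns_iff.2 this

theorem XB.loc_aux {U : Subgroup G} (h : XB K t S V W) (hU : U ≤ S) (hc : S ⊓ Cs U ≤ U)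
    (hn : n ∈ Ns U) (h1 : n * t * n⁻¹ ∈ V) (h2 : n * t * n⁻¹ ∉ W) :
    n ∈ Ns (V ⊔ W) ∨ (n ∈ Ns V ∧ U ≤ Ns V ⊓ Ns W) := by
  have tC : t ∈ Cs U := fun s hs => mem_C1.1 (h.ctx.tc.le (hU hs))
  have dC : n * t * n⁻¹ ∈ Cs U := mem_normalizer_conj (mem_Ns_Cs hn) tC
  obtain ⟨l, hl, e, -⟩ := h.J_of (h.ctx.tc.cj n) h1
  have lV : Trans.cj l V = V := mem_Ns_iff.1 (LL_le h.lv.ap.ab hl)
  rw [← lV, ← (h.cj l).J_eq] at e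
  rcases (h.cj n).mx.1 ((mx_of_JJ_eq e).2 ((h.cj l).mx.2 (Or.inl lV.symm))) with k | k
  · refine Or.inr ⟨mem_Ns_iff.2 k.symm, fun s hs => (h.swap_or (h.S_le_ns (hU hs))).resolve_right
      fun k => h2 ?_⟩
    rw [← k.1, mem_cj, mul_assoc, ← dC s hs, inv_mul_cancel_left]
    exact h1
  · have h3 : n⁻¹ * t * n ∈ W := mem_cj.1 (k ▸ h.t_mem.1)
    have h4 := (h.lv.ap.reg _ h1 _ h3
      (dC _ (mem_normalizer_conj' hn (hc ⟨h.ctx.tc.mem, tC⟩))).symm).resolve_left h2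
    exact Or.inl (inv_mem_iff.1 (h.ns_of_Z (by rw [inv_inv]; exact ⟨h4, h3⟩)))

theorem XB.loc {U : Subgroup G} (h : XB K t S V W) (hU : U ≤ S) (hc : S ⊓ Cs U ≤ U) (hn : n ∈ Ns U) :
    n ∈ Ns (V ⊔ W) ∨ (n ∈ Ns V ∧ U ≤ Ns V ⊓ Ns W) ∨ (n ∈ Ns W ∧ U ≤ Ns V ⊓ Ns W) := by
  have tU : t ∈ U := hc ⟨h.ctx.tc.mem, fun s hs => mem_C1.1 (h.ctx.tc.le (hU hs))⟩
  have hd := h.ctx.tc.cj n
  by_cases h1 : n * t * n⁻¹ ∈ V ⊓ W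
  · exact Or.inl (h.ns_of_Z h1)
  rcases h.lv.ap.ab.inv _ (h.dd_mem hd.dd (hU (mem_normalizer_conj hn tU))) hd.sq with k | k
  · exact (h.loc_aux hU hc hn k fun k' => h1 ⟨k, k'⟩).imp_right Or.inl
  · refine (h.symm.loc_aux hU hc hn k fun k' => h1 ⟨k', k⟩).imp (fun e => sup_comm W V ▸ e)
      fun e => Or.inr ⟨e.1, inf_comm (Ns W) (Ns V) ▸ e.2⟩

theorem XB.odd_mem (h : XB K t S V W) (hn : n ∈ Ns (V ⊔ W)) (ho : Odd (orderOf n)) :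
    n ∈ Ns V ⊓ Ns W := (h.swap_or hn).elim id fun k =>
  Local.mem_of_pow_mem_of_coprime (k := 1) (odd_iff_coprime.1 ho) (by
    rw [pow_one, sq]
    exact ⟨mem_Ns_iff.2 (by rw [cj_mul, k.1, k.2]), mem_Ns_iff.2 (by rw [cj_mul, k.2, k.1])⟩)

theorem XB.fus_J (h : XB K t S V W) (hn : n ∈ Ns (V ⊔ W)) (ho : Odd (orderOf n)) (hx : x ∈ S)
    (hc : n * x * n⁻¹ ∈ S) : x⁻¹ * (n * x * n⁻¹) ∈ V ⊔ W := by
  obtain ⟨Γ, _, -, σ, -, h2, -⟩ := h.lv.sig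
  have e : orderOf (x⁻¹ * n * x) = orderOf n :=
    (SemiconjBy.orderOf_eq x (by rw [SemiconjBy]; group))
  have h3 := h.odd_mem hn ho
  have h4 := h.odd_mem (mul_mem (mul_mem (inv_mem (h.S_le_ns hx)) hn) (h.S_le_ns hx)) (e ▸ ho)
  obtain ⟨m, hm⟩ := h.ctx.tc.pg ⟨_, mul_mem (inv_mem hx) hc⟩
  have hm' : ((⟨_, h4⟩ * ⟨n, h3⟩⁻¹ : (Ns V ⊓ Ns W : Subgroup G)) : G) ^ 2 ^ m = 1 := by
    simpa [mul_assoc] using congrArg Subtype.val hm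
  have := h.triv (h2 (⟨_, h4⟩ * ⟨n, h3⟩⁻¹) ?_ ⟨m, hm'⟩)
  · simpa [mul_assoc] using this
  rw [← orderOf_eq_one_iff]
  refine Nat.eq_one_of_dvd_coprimes ((odd_iff_coprime.1 ho).pow_right m)
    (orderOf_dvd_of_pow_eq_one ?_) (orderOf_dvd_of_pow_eq_one ?_)
  · rw [map_mul, map_inv, mul_pow, inv_pow, ← map_pow, ← map_pow,
      show (⟨_, h4⟩ : (Ns V ⊓ Ns W : Subgroup G)) ^ orderOf n = 1 from
        Subtype.ext (e ▸ pow_orderOf_eq_one (x⁻¹ * n * x)),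
      show (⟨_, h3⟩ : (Ns V ⊓ Ns W : Subgroup G)) ^ orderOf n = 1 from
        Subtype.ext (pow_orderOf_eq_one n), mul_inv_cancel]
  · rw [← map_pow, show (⟨_, h4⟩ * ⟨n, h3⟩⁻¹ : (Ns V ⊓ Ns W : Subgroup G)) ^ 2 ^ m = 1 from
      Subtype.ext hm', map_one]

theorem XB.fus_V (h : XB K t S V W) (hn : n ∈ Ns V) (hx : x ∈ S) (hc : n * x * n⁻¹ ∈ S)
    (h1 : x ∈ Ns V ⊓ Ns W) (h2 : n * x * n⁻¹ ∈ Ns V ⊓ Ns W) : x⁻¹ * (n * x * n⁻¹) ∈ V ⊔ W := by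
  obtain ⟨Γ, _, -, σ, h3, h4, -⟩ := h.lv.sig
  obtain ⟨F, _, _, hp, -⟩ := h.lv.par
  obtain ⟨l, hl, k, hk, rfl⟩ := hp.frattini hn
  obtain ⟨m, hm⟩ := h.ctx.tc.pg ⟨_, mul_mem (inv_mem hx) hc⟩
  refine h.triv (h4 (⟨x, h1⟩⁻¹ * ⟨_, h2⟩) ?_ ⟨m, congrArg Subtype.val hm⟩)
  have h5 := h3 (⟨_, h2⟩ * (⟨k, hk⟩ * ⟨x, h1⟩ * ⟨k, hk⟩⁻¹)⁻¹) (by
    have := mul_mem hl (mem_normalizer_conj (Ns_le_Ns_LL (B := W)
      (mul_mem (mul_mem hk.1 h1.1) (inv_mem hk.1))) (inv_mem hl))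
    simpa [mul_assoc] using this)
  rw [map_mul, map_inv, map_mul, map_mul, map_inv, mul_inv_cancel_comm, mul_inv_eq_one] at h5
  rw [map_mul, map_inv, h5, inv_mul_cancel]

theorem XB.S_eq (h : XB K t S V W) : S = V ⊔ W := by
  obtain ⟨hs, hna⟩ := h.ctx.simple_top h.top
  refine (transfer_eq hs hna h.ctx.tc.syl (h.J_eq ▸ JJ_le) fun U hU hc n hn ho x hx =>
    mem_sup_right ?_).symm
  have h1 := mem_normalizer_conj hn hx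
  rcases h.loc hU hc hn with k | ⟨k, k'⟩ | ⟨k, k'⟩
  · exact h.fus_J k ho (hU hx) (hU h1)
  · exact h.fus_V k (hU hx) (hU h1) (k' hx) (k' h1)
  · exact sup_comm W V ▸ h.symm.fus_V k (hU hx) (hU h1) (k' hx).symm (k' h1).symm

end Cfsg.Lib.Bau
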