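import Cfsg.Agent.Bau.Dz
import Cfsg.Agent.Bau.Theta
import Cfsg.Agent.Gold.AIBase

/-! The end game for data: the centraliser of `t` and a trichotomy. -/

set_option autoImplicit false
set_option linter.unusedSectionVars false

open scoped commutatorElement

namespace Cfsg.Lib.Bau

open Cfsg Subgroup Cfsg.Lib.Trans Cfsg.Lib.Trans.TJ Cfsg.Lib.Gold Cfsg.Lib.Gomi

universe u

variable {G : Type u} [Group G] [Finite G]
  {A A' B C E H J J' K L L' L₁ L₂ M P S S' T V V' W W' X α δ : Subgroup G}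
  {a b c d e g k n r r' s t t' u u' v w x x' y y' z z' : G}

theorem xd1 (h : Ctx K t S) (hθ : Cs S ≤ S) (h1 : K ≤ KR (JJ S) r) :
    K = ⊤ ∧ ∃ u z, XD t S u z := by
  have := h.simple
  obtain ⟨d₀, S₀, t₀, j₀, u₀, D₀⟩ : ∃ d S', TC d S' ∧ JJ S' = JJ S ∧ ∃ u, Da S' r u := by
    by_contra! k
    refine (K.nontrivial_iff_ne_bot.1 inferInstance) (eq_bot_iff.2 (h1.trans (sSup_le ?_)))
    rintro _ ⟨d, S', a, b, rfl⟩
    exact (by_contra fun l => (exists_of_KS l).elim (k d S' a b) : KS S' r = ⊥).le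
  have key : ∀ e S', TC e S' → JJ S' = JJ S → e = r := fun e S' he j => by
    have eO := mem_OZ.1 (j ▸ he.mem_OZ_J)
    have : K ≤ C1 (e * r) := h1.trans (sSup_le (by
      rintro _ ⟨d, T, a, b, rfl⟩
      rw [← Cs_zpowers, le_Cs_comm, zpowers_le, mem_Cs_KS]
      intro v y x A D
      obtain ⟨z, hz⟩ := dz a ⟨y, x, A, D⟩
      exact hz.ds.dd D he.dd ⟨JJ_le (b ▸ eO.1), Cs_anti hz.ds.le_J (b ▸ eO.2.1)⟩))
    have l : e * r = 1 := mem_bot.1 (h.cent ▸ fun k hk => mem_C1.1 (this hk))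
    obtain ⟨_, _, _, D⟩ := D₀
    rw [← D.r2] at l
    exact mul_right_cancel l
  obtain rfl := key t S h.tc rfl
  have one : ∀ e S', TC e S' → JJ S' = JJ S → S' = S := fun e S' he j => (key e S' he j ▸ he).uniq h.tc
  obtain rfl := one _ _ t₀ j₀
  obtain ⟨z, hz⟩ := dz h.tc D₀
  obtain ⟨y, x, A, D⟩ := D₀
  have e := h.eq_top (h.le_of_res D.res (subset_closure (Set.mem_insert _ _)))
  refine ⟨e, u₀, z, (h.simple_top e).1, (h.simple_top e).2, h.tc, hθ, hz,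
    eq_bot_iff.2 (h.cent ▸ Cs_anti (h1.trans (sSup_le ?_))), fun e he => key e _ he rfl⟩
  rintro _ ⟨d, T, a, b, rfl⟩
  rw [one d T a b]

theorem XD.cj (h : XD t S u z) (g : G) :
    XD (g * t * g⁻¹) (cj g S) (g * u * g⁻¹) (g * z * g⁻¹) := by
  refine ⟨h.simple, h.nonab, h.tc.cj g, h.tc.th h.th (h.tc.cj g), h.dz.cj g,
    by rw [KS_cj, ← cj_Cs, h.triv, cj_bot], fun e he => ?_⟩
  have := he.cj g⁻¹
  rw [cj_inv_cj] at this
  rw [← h.uniq _ this]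
  group

theorem XD.exists_cj (h : XD t S u z) (hd : TC d S') : ∃ g, Trans.cj g S = S' ∧ g * t * g⁻¹ = d :=
  (hd.exists_cj h.tc).imp fun g e => ⟨e, ((h.cj g).uniq d (e ▸ hd)).symm⟩

theorem XD.exists_of (h : XD t S u z) (hd : TC d S') : ∃ u' z', XD d S' u' z' := by
  obtain ⟨g, rfl, rfl⟩ := h.exists_cj hd
  exact ⟨_, _, h.cj g⟩

theorem XD.conj (h : XD t S u z) (hd : DD d) : IsConj t d :=
  hd.elim fun _ k => isConj_iff.2 ((h.exists_cj k).imp fun _ => And.right)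

theorem XD.inf_C1 (h : XD t S u z) : S ⊓ C1 t = S := inf_eq_left.2 h.tc.le

theorem XD.eq_one (h : XD t S u z) (k : ∀ v y x A, Dat S t v y x A → DS S t v z → Del v z = Del u z →
    g ∈ Cs (E4 t v y)) : g = 1 :=
  mem_bot.1 (h.triv ▸ mem_Cs_KS.2 fun v y x A D =>
    k v y x A D (h.dz.of_da ⟨y, x, A, D⟩).1.ds (h.dz.of_da ⟨y, x, A, D⟩).2)

theorem XD.sq (h : XD t S u z) (hb : b ∈ S ⊓ Cs (Del u z)) : b * b = 1 :=
  h.eq_one fun _ _ _ _ D _ e =>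
    D.sq_mem ⟨hb.1, mem_Cs_Four.2 ⟨h.tc.le hb.1, (mem_Cs_Del.1 (e ▸ hb.2)).1⟩⟩

theorem XD.cent (h : XD t S u z) : C1 t ≤ S := by
  refine h.tc.le_of (Local.resOf_eq_bot_iff.1 (eq_bot_iff.2 (Local.resOf_le_iff.2 fun n hn ho => ?_))) le_rfl
  have hd := h.dz.ds
  have nS := h.tc.nm hn
  have pZ : IsPGroup 2 (zpowers z) := hd.pg.to_le (zpowers_le.2 hd.zS)
  obtain ⟨w, hw, e⟩ := (h.dz.da _).1 (h.dz.da_self.cj_ns nS hn)
  obtain ⟨w', hw', e'⟩ := (h.dz.da _).1 (((h.dz.da _).2 ⟨z, mem_zpowers z, rfl⟩).cj_ns nS hn)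
  have nz : n * z * n⁻¹ ∈ zpowers z := by
    convert mul_mem (inv_mem hw) hw' using 1
    rw [← conj_mul, e, mul_assoc u, mul_right_inj] at e'
    rw [← e', inv_mul_cancel_left]
  have cz : n ∈ Cs (zpowers z) := AI.mem_Cs_of_omega pZ (fun a ha b hb => setLike_mul_comm hb ha)
    ho (mem_normalizer_fintype fun a ⟨k, hk⟩ => by rw [← hk, ← conj_zpow]; exact zpow_mem nz k) fun a ha a2 => by
      rcases hd.sq ha a2 with rfl | rfl
      exacts [by group, mul_inv_eq_iff_eq_mul.2 (mem_C1.1 hn)]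
  have cD : n ∈ Cs (Del u z) := mem_Cs_Del.2 ⟨mem_C1.2 (mul_inv_eq_iff_eq_mul.1
    (conj_eq_of_coprime_of_two_step pZ ho cz (by rwa [e, inv_mul_cancel_left]))), Cs_zpowers z ▸ cz⟩
  have cS : n ∈ Cs S := Theta.ab (hd.pg.to_le (hd.le.trans inf_le_left)) ho hd.pg cD
    ((hd.le.trans inf_le_left).trans le_normalizer) nS fun b hb => by
    rw [eq_comm, ← mul_inv_eq_iff_eq_mul, ← mul_inv_eq_one]
    refine h.eq_one fun v y x A D ds e => ?_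
    have nE := mem_Ns_Cs (D.ns nS (Cs_le_Ns (mem_Cs_Four.2 ⟨hn, (mem_Cs_Del.1 (e ▸ cD)).1⟩)))
    rcases ds.dec D (e ▸ hb) with k | k
    · exact mul_mem (mem_normalizer_conj nE k) (inv_mem k)
    · convert mul_mem (mem_normalizer_conj nE k) (inv_mem k) using 1
      rw [← conj_mul, mul_inv_eq_iff_eq_mul.2 (mem_C1.1 hn)]
      group
  obtain ⟨k, hk⟩ := hd.pg ⟨n, h.th cS⟩
  exact Local.mem_of_pow_mem_of_coprime ho (k := k) (mem_bot.2 (congrArg Subtype.val hk))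

theorem XD.eq_of_Y (h : XD t S u z) (hd : DD d) (h1 : d ∈ S ⊓ Cs (Del u z)) : d = t :=
  mul_right_cancel ((h.eq_one fun _ _ _ _ D ds e => ds.dd D hd (e ▸ h1)).trans h.tc.sq.symm)

theorem XD.da_of (h : XD t S u z) (D : Dat S t v y x A) (h1 : b ∈ S ⊓ Cs (Del u z)) (h2 : b ∈ Cs (E4 t v y))
    (hd : DD (b * v)) : Da S t (b * v) := by
  have e : y⁻¹ * (b * v) * y⁻¹⁻¹ = b * t := by
    rw [← D.yr, ← mul_assoc b, ← mul_assoc b, mem_C1.1 (mem_Cs_E4.1 h2).2.2]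
    group
  have := h.eq_of_Y (e ▸ hd.cj y⁻¹) (mul_mem h1 ⟨D.rS, h.dz.ds.r_cs⟩)
  rw [mul_eq_right.1 this, one_mul]
  exact ⟨y, x, A, D⟩

theorem XD.tri (h : XD t S u z) (hd : DD d) (h1 : d ∈ S) : d = t ∨ Da S t d ∨ ¬ Ev u z d := by
  refine or_iff_not_imp_left.2 fun k => or_iff_not_imp_right.2 fun l => ?_
  obtain ⟨w, hw, b, hb, -, rfl⟩ := h.dz.ds.even ⟨h1, h.tc.le h1⟩ (hd.elim fun _ => TC.sq)
    (fun m => k (h.eq_of_Y hd ⟨h1, m⟩)) (not_not.1 l)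
  obtain ⟨y, x, A, D⟩ := (h.dz.da _).2 ⟨w, hw, rfl⟩
  obtain ⟨ds, e⟩ := h.dz.of_da ⟨y, x, A, D⟩
  rcases ds.ds.dec D (e ▸ hb) with m | m
  · exact h.da_of D hb m hd
  have e' : b * (u * w) = b * t * (t * (u * w)) := by rw [mul_assoc b, ← mul_assoc t, h.tc.sq, one_mul]
  rw [e'] at hd ⊢
  exact h.da_of D.swap.1 (mul_mem hb ⟨D.rS, h.dz.ds.r_cs⟩) (D.swap.2.2 ▸ m) hd

end Cfsg.Lib.Bau
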