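import Cfsg.Agent.Bau.Xd1

/-! The end game for data: the odd members of `DD`. -/

set_option autoImplicit false
set_option linter.unusedSectionVars false

open scoped commutatorElement

namespace Cfsg.Lib.Bau

open Cfsg Subgroup Cfsg.Lib.Trans Cfsg.Lib.Trans.TJ Cfsg.Lib.Gold Cfsg.Lib.Gomi

universe u

variable {G : Type u} [Group G] [Finite G]
  {A A' B C E H J J' K L L' L₁ L₂ M P S S' T V V' W W' X α δ : Subgroup G}
  {a b c d e g k n r r' s t t' u u' v w x x' y y' z z' : G}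

theorem xd2_inv (h : e * z * e⁻¹ = z⁻¹) (hw : w ∈ zpowers z) : e * w * e⁻¹ = w⁻¹ := by
  obtain ⟨i, rfl⟩ := mem_zpowers_iff.1 hw
  rw [← conj_zpow, h, inv_zpow]

theorem xd2_comm (hc : c * z = z * c) (hw : w ∈ zpowers z) : c * w = w * c := by
  obtain ⟨i, rfl⟩ := mem_zpowers_iff.1 hw
  exact (Commute.zpow_right hc i).eq

theorem xd2_zz (hv : v ∈ zpowers z) (hw : w ∈ zpowers z) : v * w = w * v := by
  obtain ⟨i, rfl⟩ := mem_zpowers_iff.1 hv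
  exact xd2_comm ((Commute.refl z).zpow_left i).eq hw

theorem xd2_self (h : e * e = 1) : e⁻¹ = e := inv_eq_of_mul_eq_one_right h

theorem XD.xd2_mem (h : XD t S u z) (hs : s ∈ S) : s ∈ S ⊓ C1 t := ⟨hs, h.tc.le hs⟩

theorem XD.xd2_ev (h : XD t S u z) (hb : b ∈ Cs (Del u z)) : Ev u z b :=
  ev_of_comm (mem_C1.1 (mem_Cs_Del.1 hb).1) h.dz.ds.u2

theorem XD.xd2_invz (h : XD t S u z) (he : e ∈ S) (h2 : e * e = 1) (h1 : e ∉ Cs (Del u z)) :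
    e * z * e⁻¹ = z⁻¹ :=
  (h.dz.ds.one (h.xd2_mem he) h2).resolve_left h1

theorem XD.odd_symm (h : XD t S u z) (h' : XD e S' u' z') (he : e ∈ S) (h1 : ¬ Ev u z e) :
    t ∈ S' ∧ ¬ Ev u' z' t := by
  have ht : t ∈ S' := h'.cent (mem_C1.2 (mem_C1.1 (h.tc.le he)).symm)
  refine ⟨ht, ?_⟩
  rcases h'.tri h.tc.dd ht with e1 | ⟨y, x, A, hD⟩ | h3
  · exact (h1 (e1 ▸ h.xd2_ev h.dz.ds.r_cs)).elim
  · have h4 := Da.cj (⟨y, x, A, hD⟩ : Da S' e t) y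
    have h5 := h'.tc.cj y
    rw [hD.yr] at h4 h5
    rw [hD.yu, h5.uniq h.tc] at h4
    obtain ⟨w, hw, e2⟩ := (h.dz.da _).1 h4
    refine (h1 (h.dz.ds.ev_del (h.dz.ds.mem_Del.2
      ⟨w * t⁻¹, mul_mem hw (inv_mem h.dz.ds.r_mem), Or.inr ?_⟩))).elim
    rw [← mul_assoc, ← e2, mul_inv_cancel_right]
  · exact h3

theorem XD.xd2_sq (h : XD t S u z) (hd : DD e) (he : e ∈ S) (h1 : ¬ Ev u z e)
    (hs : s ∈ C1 e) : s * s ≠ t := by
  intro e1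
  obtain ⟨S', hS'⟩ := hd
  obtain ⟨u', z', h'⟩ := h.exists_of hS'
  have h2 := h'.xd2_mem (h'.cent hs)
  exact (h.odd_symm h' he h1).2 (e1 ▸ (h'.dz.ds.ev_mul h2 h2).2 Iff.rfl)

theorem XD.xd2_step (h : XD t S u z) (hd : DD e) (he : e ∈ S) (h1 : ¬ Ev u z e)
    (hs : s ∈ S ⊓ C1 e) (h2 : Ev u z s) (h3 : s * s ∈ C1 u) : s ∈ C1 u := by
  have D := h.dz.ds
  have e2 : e * e = 1 := by obtain ⟨_, hS'⟩ := hd; exact hS'.sq
  have hg := D.odd_gen (h.xd2_mem he) h1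
  have hi := h.xd2_invz he e2 fun hc => h1 (h.xd2_ev hc)
  obtain ⟨w, hw, hws⟩ := h2
  have hse : s * e * s⁻¹ = e := by rw [mem_C1.1 hs.2, mul_inv_cancel_right]
  set c := w * w with hc
  have hcz : c ∈ zpowers z := mul_mem hw hw
  have hu : s * u * s⁻¹ = u * c := by
    rw [← hws, ← mul_assoc u u, D.u2, one_mul]
  set ζ := u * (e * u * e⁻¹) with hζ
  have hζz : ζ ∈ zpowers z := hg ▸ mem_zpowers ζ
  have hsζ : s * ζ * s⁻¹ = ζ * (c * c)⁻¹ := by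
    have e3 : s * ζ * s⁻¹ = (s * u * s⁻¹) * ((s * e * s⁻¹) * (s * u * s⁻¹) * (s * e * s⁻¹)⁻¹) := by
      rw [hζ]; group
    have e4 : u * c = c⁻¹ * u := by rw [← D.inv' hcz]; group
    have e5 : e * (u * c) * e⁻¹ = e * u * e⁻¹ * c⁻¹ := by rw [← xd2_inv hi hcz]; group
    rw [e3, hse, hu, e5, e4, mul_assoc, ← mul_assoc u, ← hζ, ← mul_assoc,
      xd2_zz (inv_mem hcz) hζz]
    group
  have hsc : s * c * s⁻¹ = c⁻¹ := by
    have e3 : s * (s * u * s⁻¹) * s⁻¹ = u := by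
      have := mem_C1.1 h3
      calc s * (s * u * s⁻¹) * s⁻¹ = s * s * u * (s * s)⁻¹ := by group
        _ = u := by rw [this, mul_inv_cancel_right]
    have e4 : s * (u * c) * s⁻¹ = s * u * s⁻¹ * (s * c * s⁻¹) := by group
    rw [hu, e4, hu, mul_assoc, mul_eq_left] at e3
    exact eq_inv_of_mul_eq_one_right e3
  have hcc : c * c = 1 := by
    obtain ⟨j, hj⟩ := (mem_powers_iff_mem_zpowers (x := ζ) (y := w⁻¹)).2 (hg ▸ inv_mem hw)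
    have hj' : ζ ^ j = w⁻¹ := hj
    have e3 : c⁻¹ = ζ ^ (2 * j) := by rw [two_mul, pow_add, hj', hc, mul_inv_rev]
    have hcm : Commute ζ (c * c)⁻¹ := xd2_zz hζz (inv_mem (mul_mem hcz hcz))
    have e4 : c = c⁻¹ * ((c * c)⁻¹) ^ (2 * j) := by
      calc c = (s * c * s⁻¹)⁻¹ := by rw [hsc, inv_inv]
        _ = s * c⁻¹ * s⁻¹ := by group
        _ = (s * ζ * s⁻¹) ^ (2 * j) := by rw [e3, conj_pow]
        _ = _ := by rw [hsζ, hcm.mul_pow, ← e3]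
    have e5 : (c * c) ^ (2 * j + 1) = 1 := by
      have e6 : c * c = ((c * c)⁻¹) ^ (2 * j) := by
        calc c * c = c * (c⁻¹ * ((c * c)⁻¹) ^ (2 * j)) := by rw [← e4]
          _ = _ := by rw [mul_inv_cancel_left]
      rw [pow_succ]
      nth_rewrite 2 [e6]
      rw [inv_pow, mul_inv_cancel]
    obtain ⟨m, hm⟩ := D.pg ⟨c * c, (zpowers_le.2 D.zS) (mul_mem hcz hcz)⟩
    have hm' : (c * c) ^ 2 ^ m = 1 := congrArg Subtype.val hm
    refine (pow_eq_one_iff_of_coprime (m := 2 * j + 1) (n := 2 ^ m) ?_).1 ⟨e5, hm'⟩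
    exact Nat.Coprime.pow_right m (by simp)
  rcases D.sq hcz hcc with e1 | e1
  · rw [e1, mul_one] at hu
    exact mem_C1.2 (mul_inv_eq_iff_eq_mul.1 hu)
  · exfalso
    rw [hcc, inv_one, mul_one] at hsζ
    have hsZ : ∀ v ∈ zpowers z, s * v = v * s := fun v hv =>
      xd2_comm (mul_inv_eq_iff_eq_mul.1 hsζ) (hg ▸ hv)
    obtain ⟨τ, hτ, hττ⟩ := D.tau
    have ht2 : t * t = 1 := D.r2
    have hb : s * τ ∈ S ⊓ Cs (Del u z) := by
      refine ⟨mul_mem hs.1 ((zpowers_le.2 D.zS) hτ), mem_Cs_Del.2 ⟨mem_C1.2 ?_, mem_C1.2 ?_⟩⟩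
      · have e3 : τ * u = u * τ⁻¹ := by
          rw [← D.inv' hτ, ← mul_assoc, ← mul_assoc, D.u2, one_mul, xd2_self D.u2]
        have e4 : s * u = u * t * s := by rw [← e1, ← hu, inv_mul_cancel_right]
        have e5 : t * τ⁻¹ = τ := by rw [← hττ, mul_inv_cancel_right]
        rw [mul_assoc, e3, ← mul_assoc, e4, mul_assoc, hsZ _ (inv_mem hτ), mul_assoc,
          ← mul_assoc t, e5, hsZ _ hτ]
      · rw [mul_assoc, xd2_zz hτ (mem_zpowers z), ← mul_assoc, hsZ _ (mem_zpowers z), mul_assoc]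
    have e3 := h.sq hb
    have e4 : s * τ * (s * τ) = s * s * t := by
      rw [← hττ, mul_assoc s τ, ← mul_assoc τ s, ← hsZ _ hτ]; group
    rw [e4, mul_eq_one_iff_eq_inv, xd2_self ht2] at e3
    exact h.xd2_sq hd he h1 hs.2 e3

theorem XD.xd2_even (h : XD t S u z) (hd : DD e) (he : e ∈ S) (h1 : ¬ Ev u z e)
    (hs : s ∈ S ⊓ C1 e) (h2 : Ev u z s) : s ∈ Cs (Del u z) := by
  have D := h.dz.ds
  have key : ∀ m : ℕ, ∀ s ∈ S ⊓ C1 e, Ev u z s → s ^ 2 ^ m = 1 → s ∈ C1 u := by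
    intro m
    induction m with
    | zero => intro s _ _ h3; rw [pow_zero, pow_one] at h3; exact h3 ▸ one_mem _
    | succ m ih =>
      intro s hs h2 h3
      refine h.xd2_step hd he h1 hs h2 (ih _ (mul_mem hs hs) ?_ ?_)
      · exact (D.ev_mul (h.xd2_mem hs.1) (h.xd2_mem hs.1)).2 Iff.rfl
      · rw [← pow_two, ← pow_mul, ← pow_succ', h3]
  obtain ⟨m, hm⟩ := D.pg ⟨s, hs.1⟩
  have hu := key m s hs h2 (congrArg Subtype.val hm)
  refine mem_Cs_Del.2 ⟨hu, mem_C1.2 (xd2_comm (z := u * (e * u * e⁻¹)) ?_ ?_)⟩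
  · have c1 : Commute s u := mem_C1.1 hu
    have c2 : Commute s e := mem_C1.1 hs.2
    exact (c1.mul_right ((c2.mul_right c1).mul_right c2.inv_right)).eq
  · exact (D.odd_gen (h.xd2_mem he) h1).symm ▸ mem_zpowers z

theorem XD.cen (h : XD t S u z) (hd : DD e) (he : e ∈ S) (h1 : ¬ Ev u z e) (hs : s ∈ S ⊓ C1 e) :
    s ∈ Cs (Del u z) ∨ s * e ∈ Cs (Del u z) := by
  by_cases h2 : Ev u z s
  · exact Or.inl (h.xd2_even hd he h1 hs h2)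
  · refine Or.inr (h.xd2_even hd he h1 (mul_mem hs ⟨he, mem_C1.2 rfl⟩) ?_)
    exact (h.dz.ds.ev_mul (h.xd2_mem hs.1) (h.xd2_mem he)).2 (iff_of_false h2 h1)

theorem XD.tau (h : XD t S u z) (he : e ∈ S) (h2 : e * e = 1) (h1 : e ∉ Cs (Del u z))
    (hw : w ∈ zpowers z) (h3 : w * w = t) : w * e * w⁻¹ = t * e := by
  have e1 := xd2_inv (h.xd2_invz he h2 h1) (inv_mem hw)
  calc w * e * w⁻¹ = w * (e * w⁻¹ * e⁻¹) * e := by group
    _ = t * e := by rw [e1, inv_inv, h3]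

theorem XD.orb (h : XD t S u z) (he : e ∈ S) (h2 : e * e = 1) (h1 : ¬ Ev u z e)
    (hw : w ∈ zpowers z) : ∃ g ∈ Del u z, g * e * g⁻¹ = w * e := by
  have D := h.dz.ds
  have hg := D.odd_gen (h.xd2_mem he) h1
  have hi := h.xd2_invz he h2 fun hc => h1 (h.xd2_ev hc)
  set ζ := u * (e * u * e⁻¹) with hζ
  have hζz : ζ ∈ zpowers z := hg ▸ mem_zpowers ζ
  have h3 : ∀ v ∈ zpowers z, v * e * v⁻¹ = v * v * e := fun v hv => by
    have e1 := xd2_inv hi (inv_mem hv)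
    calc v * e * v⁻¹ = v * (e * v⁻¹ * e⁻¹) * e := by group
      _ = _ := by rw [e1, inv_inv]
  have hZ : ∀ v ∈ zpowers z, v ∈ Del u z := fun v hv => D.mem_Del.2 ⟨v, hv, Or.inl rfl⟩
  have hu : u ∈ Del u z := D.mem_Del.2 ⟨1, one_mem _, Or.inr (mul_one u).symm⟩
  obtain ⟨k, rfl⟩ := mem_zpowers_iff.1 (hg ▸ hw : w ∈ zpowers ζ)
  rcases Int.even_or_odd' k with ⟨j, rfl | rfl⟩
  · exact ⟨ζ ^ j, hZ _ (zpow_mem hζz j), by rw [h3 _ (zpow_mem hζz j), two_mul, zpow_add]⟩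
  · refine ⟨ζ ^ j * u, mul_mem (hZ _ (zpow_mem hζz j)) hu, ?_⟩
    have e1 : u * e * u⁻¹ = ζ * e := by rw [hζ, xd2_self D.u2]; group
    calc ζ ^ j * u * e * (ζ ^ j * u)⁻¹ = ζ ^ j * (u * e * u⁻¹) * (ζ ^ j)⁻¹ := by group
      _ = ζ * (ζ ^ j * e * (ζ ^ j)⁻¹) := by rw [e1]; group
      _ = _ := by rw [h3 _ (zpow_mem hζz j)]; group

theorem XD.uniq_gd {e' : G} (h : XD t S u z) (h1 : Gd t S u z e) (h2 : Gd t S u z e') :
    e' ∈ Del u z ⊔ zpowers e := by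
  have D := h.dz.ds
  obtain ⟨n, hn, hne⟩ := h1.fus
  obtain ⟨n', -, hne'⟩ := h2.fus
  have hd : DD e := hne ▸ h.tc.dd.cj n
  have hd' : DD e' := hne' ▸ h.tc.dd.cj n'
  have sq : ∀ {d : G}, DD d → d * d = 1 := fun ⟨_, hS'⟩ => hS'.sq
  have i1 := h.xd2_invz h1.mem (sq hd) fun hc => h1.odd (h.xd2_ev hc)
  have i2 := h.xd2_invz h2.mem (sq hd') fun hc => h2.odd (h.xd2_ev hc)
  have hc : e' * e ∈ C1 z := by
    refine mem_C1.2 (mul_inv_eq_iff_eq_mul.1 ?_)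
    calc e' * e * z * (e' * e)⁻¹ = e' * (e * z * e⁻¹) * e'⁻¹ := by group
      _ = (e' * z * e'⁻¹)⁻¹ := by rw [i1]; group
      _ = z := by rw [i2, inv_inv]
  obtain ⟨w, hw, b, hb, e1⟩ := D.even_z (h.xd2_mem (mul_mem h2.mem h1.mem)) hc
    ((D.ev_mul (h.xd2_mem h2.mem) (h.xd2_mem h1.mem)).2 (iff_of_false h2.odd h1.odd))
  have e2 : e' = b * w * e := by rw [← e1, mul_assoc, sq hd, mul_one]
  have hZ : ∀ v ∈ zpowers z, v ∈ Del u z := fun v hv => D.mem_Del.2 ⟨v, hv, Or.inl rfl⟩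
  suffices hbZ : b ∈ zpowers z by
    rw [e2]
    exact mul_mem_sup (hZ _ (mul_mem hbZ hw)) (mem_zpowers e)
  obtain ⟨g, hg, e3⟩ := h.orb h1.mem (sq hd) h1.odd hw
  have hd3 : DD (b * e) := by
    have e4 : g⁻¹ * e' * g⁻¹⁻¹ = b * e := by
      rw [e2, mul_assoc b, ← e3, ← mul_assoc, mem_Cs.1 hb.2 _ (inv_mem hg)]; group
    exact e4 ▸ hd'.cj g⁻¹
  have hbe : b * e ∈ S ⊓ C1 e := by
    refine ⟨mul_mem hb.1 h1.mem, mem_C1.2 ?_⟩
    have e4 : e * (b * e) = b := by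
      calc e * (b * e) = b⁻¹ * (b * e * (b * e)) := by group
        _ = b := by rw [sq hd3, mul_one, xd2_self (h.sq hb)]
    rw [e4, mul_assoc, sq hd, mul_one]
  by_cases hb1 : b = 1
  · exact hb1 ▸ one_mem _
  have hx : n⁻¹ * (b * e) * n⁻¹⁻¹ ∈ S ⊓ C1 e := mem_normalizer_conj (inv_mem hn) hbe
  have hxd := hd3.cj n⁻¹
  have hxY : n⁻¹ * (b * e) * n⁻¹⁻¹ ∉ Cs (Del u z) := fun hY => by
    have e4 := h.eq_of_Y hxd ⟨hx.1, hY⟩
    refine hb1 ((mul_eq_right (b := e)).1 ?_)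
    calc b * e = n * (n⁻¹ * (b * e) * n⁻¹⁻¹) * n⁻¹ := by group
      _ = e := by rw [e4, hne]
  obtain ⟨τ, hτ, hττ⟩ := D.tau
  have e4 := h.tau hx.1 (sq hxd) hxY hτ hττ
  have hbd : DD b := by
    have e5 : n * (τ * (n⁻¹ * (b * e) * n⁻¹⁻¹) * τ⁻¹) * n⁻¹ = b := by
      calc n * (τ * (n⁻¹ * (b * e) * n⁻¹⁻¹) * τ⁻¹) * n⁻¹ = n * t * n⁻¹ * (b * e) := by
            rw [e4]; group
        _ = b := by rw [hne, ← mem_C1.1 hbe.2, mul_assoc, sq hd, mul_one]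
    exact e5 ▸ (hxd.cj τ).cj n
  exact h.eq_of_Y hbd hb ▸ D.r_mem

end Cfsg.Lib.Bau
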